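import Cfsg.Agent.Lib.SFactor.ClosureMain

/-!
Glauberman's `2`-factorization theorem.
-/

set_option autoImplicit false

namespace CfsgLib.SFactor

open Subgroup Cfsg
open scoped commutatorElement
open CfsgLib.LocalEven
open CfsgLib.PStab

universe u

variable {G : Type u} [Group G] [Finite G]

/-- An element of odd order centralising the involutions of an abelian normal `2`-subgroup centralises it. -/
theorem centralizes_of_omegaOne {W : Subgroup G} [W.Normal] (hW : IsPGroup 2 W)
    (hWc : ∀ a ∈ W, ∀ b ∈ W, a * b = b * a) {n : G} (hn : (orderOf n).Coprime 2)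
    (h : ∀ v ∈ W, v ^ 2 = 1 → n * v = v * n) : ∀ w ∈ W, n * w = w * n := by
  let M : Subgroup G :=
    { carrier := {w | w ∈ W ∧ w ^ 2 = 1}
      one_mem' := ⟨one_mem _, one_pow _⟩
      mul_mem' := fun {a b} ha hb => ⟨mul_mem ha.1 hb.1, by
        rw [(show Commute a b from hWc a ha.1 b hb.1).mul_pow, ha.2, hb.2, one_mul]⟩
      inv_mem' := fun {a} ha => ⟨inv_mem ha.1, by rw [inv_pow, ha.2, inv_one]⟩ }
  suffices H : ∀ k : ℕ, ∀ w ∈ W, w ^ 2 ^ k = 1 → n * w = w * n by
    intro w hw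
    obtain ⟨k, hk⟩ := hW ⟨w, hw⟩
    exact H k w hw (congrArg Subtype.val hk)
  intro k
  induction k with
  | zero =>
    intro w _ h1
    rw [pow_zero, pow_one] at h1
    rw [h1, mul_one, one_mul]
  | succ k ih =>
    intro w hw h1
    have h2 : n * w ^ 2 = w ^ 2 * n := ih _ (pow_mem hw 2) (by rw [← pow_mul, ← pow_succ']; exact h1)
    have hc : n * w * n⁻¹ ∈ W := (inferInstance : W.Normal).conj_mem w hw n
    have hd : ⁅n, w⁆ ∈ M := by
      refine ⟨mul_mem hc (inv_mem hw), ?_⟩
      rw [commutatorElement_def, (show Commute (n * w * n⁻¹) w⁻¹ from hWc _ hc _ (inv_mem hw)).mul_pow,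
        conj_pow, h2, mul_inv_cancel_right, inv_pow, mul_inv_cancel]
    have hd1 := exists_coprime_fixed (M := M) (fun m hm => hm.2) (x := n) (m := w) hd
      (Nat.coprime_two_right.1 hn) (h _ hd.1 hd.2)
      (by rw [commutatorElement_def, inv_mul_cancel_right])
    exact commutatorElement_eq_one_iff_mul_comm.1 hd1

/-- `G = C(Z(S)) N(Ĵ(S))`. -/
theorem fac_center (h : Hyp G) (S : Sylow 2 G) (g : G) :
    ∃ c ∈ centralizer (((S : Subgroup G) ⊓ centralizer ((S : Subgroup G) : Set G) : Subgroup G) : Set G),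
      ∃ n ∈ normalizer (jH (S : Subgroup G) : Set G), g = c * n := by
  classical
  haveI : Fact (Nat.Prime 2) := ⟨Nat.prime_two⟩
  set H := pCore 2 G with hH
  set f : Sylow 2 G → Subgroup G := fun S' =>
    (S' : Subgroup G) ⊓ centralizer ((S' : Subgroup G) : Set G) with hf
  set W := ⨆ S', f S' with hW
  have hfH : ∀ S', f S' ≤ H ⊓ centralizer (H : Set G) := fun S' => by
    have h1 : f S' ≤ centralizer (H : Set G) :=
      inf_le_right.trans (centralizer_le (CfsgLib.Cores.pCore_le_sylow S'))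
    exact le_inf (h1.trans h.charTwo) h1
  have hWHC : W ≤ H ⊓ centralizer (H : Set G) := iSup_le hfH
  have hWc : ∀ a ∈ W, ∀ b ∈ W, a * b = b * a := fun a ha b hb =>
    mem_centralizer_iff.1 (hWHC hb).2 a (hWHC ha).1
  haveI hWn : W.Normal := by
    refine ⟨fun x hx g => ?_⟩
    have hle : W ≤ W.comap (MulAut.conj g).toMonoidHom := iSup_le fun S' => by
      refine map_le_iff_le_comap.1 (le_trans (le_of_eq ?_) (le_iSup f (g • S')))
      rw [hf]
      dsimp only
      rw [Subgroup.map_inf _ _ _ (MulAut.conj g).injective, map_centralizer_of_injective _ (MulAut.conj g).injective,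
        MonoidHom.range_eq_top.2 (MulAut.conj g).surjective, top_inf_eq, Sylow.coe_subgroup_smul]
      rfl
    exact hle hx
  have hWp : IsPGroup 2 W := (CfsgLib.Cores.isPGroup_pCore 2).to_le (hWHC.trans inf_le_left)
  set C := centralizer (W : Set G) with hC
  let V : Subgroup G :=
    { carrier := {w | w ∈ W ∧ w ^ 2 = 1}
      one_mem' := ⟨one_mem _, one_pow _⟩
      mul_mem' := fun {a b} ha hb => ⟨mul_mem ha.1 hb.1, by
        rw [(show Commute a b from hWc a ha.1 b hb.1).mul_pow, ha.2, hb.2, one_mul]⟩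
      inv_mem' := fun {a} ha => ⟨inv_mem ha.1, by rw [inv_pow, ha.2, inv_one]⟩ }
  have hVW : V ≤ W := fun x hx => hx.1
  haveI hVn : V.Normal := ⟨fun x hx g => ⟨hWn.conj_mem x hx.1 g, by rw [conj_pow, hx.2, mul_one, mul_inv_cancel]⟩⟩
  have hVe : IsElementaryAbelian 2 V :=
    PGroup.isElementaryAbelian_mk (fun a ha b hb => hWc a ha.1 b hb.1) fun a ha => ha.2
  have hCC : centralizer (V : Set G) = C := by
    refine Transfer.eq_centralizer_of_iSup (centralizer (V : Set G)) f (fun S' => inf_le_right) hW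
      (centralizer_le hVW) ?_
    have hp : IsPGroup 2 ((centralizer (V : Set G)).map (QuotientGroup.mk' C)) := by
      rintro ⟨_, x, hx, rfl⟩
      refine ⟨(orderOf x).factorization 2, Subtype.ext ?_⟩
      show (QuotientGroup.mk' C x) ^ 2 ^ _ = 1
      rw [← map_pow]
      refine (QuotientGroup.eq_one_iff _).2 (mem_centralizer_iff.2 fun w hw => ?_)
      refine (centralizes_of_omegaOne hWp hWc ?_ (fun v hv hv2 => ?_) w hw).symm
      · rw [orderOf_pow_of_dvd (pow_ne_zero _ two_ne_zero) (Nat.ordProj_dvd _ _)]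
        exact (Nat.coprime_ordCompl Nat.prime_two (orderOf_pos x).ne').symm
      · exact (mem_centralizer_iff.1 (pow_mem hx _) v ⟨hv, hv2⟩).symm
    obtain ⟨k, hk⟩ := IsPGroup.iff_card.1 hp
    refine ⟨k, ?_⟩
    show C.relIndex _ = _
    rw [← hk, ← relIndex_bot_left, ← Subgroup.relIndex_comap, MonoidHom.comap_bot, QuotientGroup.ker_mk']
  have hO : pCore 2 (G ⧸ C) = ⊥ := Transfer.pCore_quotient_centralizer_eq_bot W fun D hD hle hk => by
    haveI := hD
    exact Transfer.eq_centralizer_of_iSup D f (fun S' => inf_le_right) hW hle hk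
  have hI : Indexed (S : Subgroup G) V := by
    intro R _ hR1 hR2 hR3
    rw [hCC] at hR1 hR2 hR3 ⊢
    obtain ⟨hb, hb'⟩ := bound h.free h.comp hVe hCC.symm hO hR1 hR2
    have hlt : Nat.card ↥(R ⊓ C) < Nat.card R := by
      refine lt_of_le_of_ne (Subgroup.card_le_of_le inf_le_left) fun e => hR3 ?_
      exact inf_eq_left.1 (Subgroup.eq_of_le_of_card_ge inf_le_left e.ge)
    set r := Nat.card R
    set rc := Nat.card ↥(R ⊓ C)
    set v := Nat.card V
    set fx := Nat.card ↥(V ⊓ centralizer (R : Set G))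
    have hrc : 0 < rc := Nat.card_pos
    have hr : 0 < r := Nat.card_pos
    have hfx : 0 < fx := Nat.card_pos
    constructor
    · have h2 := Nat.pow_le_pow_left hb 2
      have h3 : r ^ 3 * fx ^ 2 * rc < r ^ 3 * fx ^ 2 * r :=
        Nat.mul_lt_mul_of_pos_left hlt (by positivity)
      refine Nat.lt_of_mul_lt_mul_right (a := rc) (lt_of_lt_of_le h3 ?_)
      calc r ^ 3 * fx ^ 2 * r = (r ^ 2 * fx) ^ 2 := by ring
        _ ≤ (v * rc ^ 2) ^ 2 := h2
        _ = _ := by ring
    · have h3 : r * rc < r * r := Nat.mul_lt_mul_of_pos_left hlt hr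
      refine Nat.lt_of_mul_lt_mul_right (a := rc) (lt_of_lt_of_le h3 ?_)
      calc r * r = r ^ 2 := by ring
        _ ≤ _ := hb'
        _ = _ := by ring
  have hVS : V ≤ (S : Subgroup G) :=
    (hVW.trans (hWHC.trans inf_le_left)).trans (CfsgLib.Cores.pCore_le_sylow S)
  have hJC : jH (S : Subgroup G) ≤ C :=
    (jH_le_centralizer hVS (by rw [normalizer_eq_top_iff.2 hVn]; exact le_top) hVe hI).trans hCC.le
  obtain ⟨T, hT⟩ := Transfer.exists_sylow_map_eq_inf C S
  have hg : g ∈ C ⊔ normalizer ((T : Subgroup ↥C).map C.subtype : Set G) := by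
    rw [sup_comm, Sylow.normalizer_sup_eq_top T]; trivial
  obtain ⟨c, hc, n, hn, rfl⟩ := mem_sup_of_normal_left.1 hg
  refine ⟨c, centralizer_le (le_iSup f S) hc, n, ?_, rfl⟩
  rw [← jH_eq_of_le (T' := (S : Subgroup G) ⊓ C) inf_le_left (le_inf (jH_le _) hJC)]
  rw [hT] at hn
  exact normalizer_le_jH _ hn

/-- A normal subgroup `D` with quotient `Q` carries the restriction on composition factors. -/
theorem komp_sup (h : Hyp G) (S : Sylow 2 G) (D : Subgroup G) [D.Normal] :
    Komp ↥(D ⊔ (S : Subgroup G)) := by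
  haveI : Fact (Nat.Prime 2) := ⟨Nat.prime_two⟩
  set K := D ⊔ (S : Subgroup G) with hK
  have h1 : Komp ↥(D.subgroupOf K) :=
    (h.comp.subnormal (inferInstance : D.Normal).isSubnormal).congr (Subgroup.subgroupOfEquivOfLe le_sup_left).symm
  set f := (QuotientGroup.mk' (D.subgroupOf K)).comp (inclusion (le_sup_right : (S : Subgroup G) ≤ K)) with hf
  have hfs : Function.Surjective f := by
    intro q
    obtain ⟨⟨k, hk⟩, rfl⟩ := QuotientGroup.mk'_surjective _ q
    obtain ⟨d, hd, s, hs, rfl⟩ := mem_sup_of_normal_left.1 hk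
    refine ⟨⟨s, hs⟩, QuotientGroup.eq.2 (mem_subgroupOf.2 ?_)⟩
    show s⁻¹ * (d * s) ∈ D
    rw [← mul_assoc]
    exact (inferInstance : D.Normal).conj_mem' d hd s
  haveI : Group.IsNilpotent (↥K ⧸ D.subgroupOf K) := (S.2.of_surjective f hfs).isNilpotent
  exact komp_ext h1 komp_of_solvable

theorem komp_normalizer (h : Hyp G) (S : Sylow 2 G) (D : Subgroup G) [D.Normal] :
    Komp ↥(normalizer (((S : Subgroup G) ⊓ D : Subgroup G) : Set G)) := by
  haveI : Fact (Nat.Prime 2) := ⟨Nat.prime_two⟩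
  set T₁ := (S : Subgroup G) ⊓ D with hT₁
  set M := normalizer (T₁ : Set G) with hM
  obtain ⟨T, hT⟩ := Transfer.exists_sylow_map_eq_inf D S
  set X := (D ⊓ M).subgroupOf M with hX
  haveI hXn : X.Normal := by rw [hX, inf_subgroupOf_right]; infer_instance
  have hTM : T₁ ≤ M := Subgroup.le_normalizer
  haveI : (T₁.subgroupOf M).Normal := Subgroup.normal_in_normalizer
  haveI : Group.IsSolvable ↥X := by
    refine solvable_of_odd_index ((T₁.subgroupOf M).subgroupOf X) ((S.2.to_le inf_le_left).comap_subtype.comap_subtype) ?_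
    show Odd ((T₁.subgroupOf M).relIndex X)
    rw [hX, Subgroup.relIndex_subgroupOf inf_le_right]
    have e := Subgroup.relIndex_mul_relIndex T₁ (D ⊓ M) D (le_inf inf_le_right hTM) inf_le_left
    have e2 : T₁.relIndex D = (T : Subgroup ↥D).index := by
      rw [Subgroup.relIndex, hT₁, ← hT]
      congr 1
      exact comap_map_eq_self_of_injective D.subtype_injective _
    refine Odd.of_dvd_nat ?_ (Dvd.intro _ e)
    rw [e2, ← Nat.not_even_iff_odd, even_iff_two_dvd]
    exact T.not_dvd_index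
  set f := (QuotientGroup.mk' D).comp M.subtype with hf
  have hfs : Function.Surjective f := by
    intro q
    obtain ⟨g, rfl⟩ := QuotientGroup.mk'_surjective D q
    have hg : g ∈ M ⊔ D := by
      rw [hM, hT₁, ← hT, Sylow.normalizer_sup_eq_top T]; trivial
    obtain ⟨m, hm, d, hd, rfl⟩ := mem_sup_of_normal_right.1 hg
    exact ⟨⟨m, hm⟩, QuotientGroup.eq.2 (by show m⁻¹ * (m * d) ∈ D; rwa [inv_mul_cancel_left])⟩
  have hker : f.ker = X := by
    rw [hX, inf_subgroupOf_right, ← MonoidHom.comap_ker, QuotientGroup.ker_mk']; rfl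
  exact komp_ext komp_of_solvable
    ((h.comp.of_surjective _ (QuotientGroup.mk'_surjective D)).congr
      ((QuotientGroup.quotientMulEquivOfEq hker.symm).trans (QuotientGroup.quotientKerEquivOfSurjective f hfs)).symm)

/-- The inductive statement. -/
def FacStatement (n : ℕ) : Prop :=
  ∀ (G : Type u) [Group G] [Finite G], Nat.card G = n → Hyp G → ∀ (S : Sylow 2 G) (g : G),
    ∃ c ∈ centralizer (zH (S : Subgroup G) : Set G),
      ∃ m ∈ normalizer (jGen 2 (S : Subgroup G) : Set G), g = c * m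

theorem fac_of_sub (IH : ∀ m < Nat.card G, FacStatement.{u} m) {M : Subgroup G} (hM : M ≠ ⊤) (hh : Hyp ↥M)
    (T : Sylow 2 ↥M) {P : Subgroup G} (hP : (T : Subgroup ↥M).map M.subtype = P) {g : G} (hg : g ∈ M) :
    ∃ c ∈ centralizer (zH P : Set G), ∃ j ∈ normalizer (jGen 2 P : Set G), g = c * j := by
  have hlt : Nat.card M < Nat.card G :=
    lt_of_le_of_ne (Subgroup.card_le_card_group M) fun e => hM (Subgroup.eq_top_of_card_eq M e)
  obtain ⟨c, hc, j, hj, e⟩ := IH _ hlt ↥M rfl hh T ⟨g, hg⟩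
  refine ⟨c, ?_, j, ?_, congrArg Subtype.val e⟩
  · rw [← hP, ← zH_map M.subtype_injective, mem_centralizer_iff]
    rintro _ ⟨z, hz, rfl⟩
    exact congrArg Subtype.val (mem_centralizer_iff.1 hc z hz)
  · rw [← hP, jGen_map M.subtype_injective]
    exact le_normalizer_map M.subtype ⟨j, hj, rfl⟩

theorem facStatement (n : ℕ) : FacStatement.{u} n := by
  induction n using Nat.strong_induction_on with
  | _ n IH =>
  intro G _ _ hcard h S g
  subst hcard
  haveI : Fact (Nat.Prime 2) := ⟨Nat.prime_two⟩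
  by_cases hE : IsEGroup ↥(S : Subgroup G)
  · obtain ⟨c, hc, m, hm, e⟩ := fac_center h S g
    refine ⟨c, centralizer_le ?_ hc, m, normalizer_jH_le _ hm, e⟩
    rw [zH, jH_eq_self hE]
    exact PGroup.omegaOne_le 2 _
  obtain ⟨V, hVS, hSV, hVe, hI, hVc⟩ := exists_witness hE
  by_cases hstar : ∀ D : Subgroup G, D.Normal → D ⊔ (S : Subgroup G) = ⊤ ∨ ((S : Subgroup G) ⊓ D).Normal
  · rcases closure_case h S hVS hSV hVe hI hstar with ⟨hVn, hCS⟩ | hJ
    swap
    · exact ⟨1, one_mem _, g, by rw [hJ]; trivial, (one_mul g).symm⟩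
    haveI := hVn
    set C := centralizer (V : Set G) with hC
    have hCt : C ≠ ⊤ := fun e => hVc (le_top.trans e.ge)
    have hJC : jH (S : Subgroup G) ≤ C := jH_le_centralizer hVS hSV hVe hI
    obtain ⟨T, hT⟩ := Transfer.exists_sylow_map_eq_inf C S
    have hJ' : jH (S : Subgroup G) ≤ (S : Subgroup G) ⊓ C := le_inf (jH_le _) hJC
    obtain ⟨c₀, hc₀, s, hs, rfl⟩ := mem_sup_of_normal_left.1 (hCS ▸ mem_top g : g ∈ C ⊔ (S : Subgroup G))
    obtain ⟨c, hc, j, hj, rfl⟩ := fac_of_sub IH hCt (h.subnormal (inferInstance : C.Normal).isSubnormal) T hT hc₀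
    refine ⟨c, ?_, j * s, mul_mem ?_ ?_, mul_assoc c j s⟩
    · rwa [zH_eq_of_le inf_le_left hJ'] at hc
    · rwa [jGen_eq_of_le inf_le_left ((jGen_le_jH _).trans hJ')] at hj
    · exact normalizer_le_normalizer_jGen 2 _ (Subgroup.le_normalizer hs)
  push Not at hstar
  obtain ⟨D, hD, hDS, hDn⟩ := hstar
  haveI := hD
  set T₁ := (S : Subgroup G) ⊓ D with hT₁
  set M := normalizer (T₁ : Set G) with hM
  have hMt : M ≠ ⊤ := fun e => hDn (normalizer_eq_top_iff.1 e)
  have hSM : (S : Subgroup G) ≤ M := fun s hs => mem_normalizer_iff.2 fun x => by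
    rw [hT₁, mem_inf, mem_inf]
    refine and_congr ?_ ?_
    · exact ⟨fun hx => mul_mem (mul_mem hs hx) (inv_mem hs), fun hx => by
        simpa [mul_assoc] using mul_mem (mul_mem (inv_mem hs) hx) hs⟩
    · exact ⟨fun hx => hD.conj_mem x hx s, fun hx => by
        simpa [mul_assoc] using hD.conj_mem _ hx s⁻¹⟩
  have hg : g ∈ M ⊔ D := by
    obtain ⟨T, hT⟩ := Transfer.exists_sylow_map_eq_inf D S
    rw [hM, hT₁, ← hT, Sylow.normalizer_sup_eq_top T]; trivial
  obtain ⟨m, hm, d, hd, rfl⟩ := mem_sup_of_normal_right.1 hg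
  have hcoe : ∀ {K : Subgroup G} (hK : (S : Subgroup G) ≤ K),
      ((S.subtype hK : Sylow 2 ↥K) : Subgroup ↥K).map K.subtype = (S : Subgroup G) := fun {K} hK => by
    rw [Sylow.coe_subtype, map_subgroupOf_eq_of_le hK]
  obtain ⟨c, hc, j, hj, rfl⟩ := fac_of_sub IH hMt
    (h.of_subgroup ((CfsgLib.Cores.pCore_le_sylow S).trans hSM) (komp_normalizer h S D))
    (S.subtype hSM) (hcoe hSM) hm
  have hd' : j * d * j⁻¹ ∈ D ⊔ (S : Subgroup G) := mem_sup_left (hD.conj_mem d hd j)
  obtain ⟨c', hc', j', hj', e⟩ := fac_of_sub IH hDS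
    (h.of_subgroup ((CfsgLib.Cores.pCore_le_sylow S).trans le_sup_right) (komp_sup h S D))
    (S.subtype le_sup_right) (hcoe le_sup_right) hd'
  refine ⟨c * c', mul_mem hc hc', j' * j, mul_mem hj' hj, ?_⟩
  calc c * j * d = c * (j * d * j⁻¹) * j := by group
    _ = c * (c' * j') * j := by rw [e]
    _ = _ := by group

end CfsgLib.SFactor
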