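import Cfsg.Agent.Lib.SFactor.Hyp

/-!
The fixed point and commutator bounds on a normal elementary abelian `2`-subgroup.
-/

set_option autoImplicit false

namespace CfsgLib.SFactor

open Subgroup Cfsg
open scoped commutatorElement
open CfsgLib.LocalEven

universe u

variable {G : Type u} [Group G]

theorem elem_map_quot {N R : Subgroup G} [N.Normal] (h1 : ⁅R, R⁆ ≤ N) (hsq : ∀ r ∈ R, r ^ 2 ∈ N) :
    IsElementaryAbelian 2 (R.map (QuotientGroup.mk' N)) := by
  refine PGroup.isElementaryAbelian_mk ?_ ?_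
  · rintro _ ⟨a, ha, rfl⟩ _ ⟨b, hb, rfl⟩
    rw [← commutatorElement_eq_one_iff_mul_comm, ← map_commutatorElement]
    exact (QuotientGroup.eq_one_iff _).2 (h1 (commutator_mem_commutator ha hb))
  · rintro _ ⟨a, ha, rfl⟩
    rw [← map_pow]
    exact (QuotientGroup.eq_one_iff _).2 (hsq a ha)

theorem card_map_mk [Finite G] (N R : Subgroup G) [N.Normal] :
    Nat.card R = Nat.card ↥(R.map (QuotientGroup.mk' N)) * Nat.card ↥(R ⊓ N) := by
  set f := (QuotientGroup.mk' N).comp R.subtype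
  have h1 := card_eq_card_quotient_mul_card_subgroup f.ker
  rw [Nat.card_congr (QuotientGroup.quotientKerEquivRange f).toEquiv,
    show f.range = R.map (QuotientGroup.mk' N) by rw [MonoidHom.range_comp, Subgroup.range_subtype],
    show f.ker = N.comap R.subtype by rw [← MonoidHom.comap_ker, QuotientGroup.ker_mk']] at h1
  rw [h1, ← Subgroup.card_map_of_injective (K := N.comap R.subtype) R.subtype_injective,
    Subgroup.map_comap_eq, Subgroup.range_subtype]

/-- `|V : C_V(R)| ≥ |R̄|²` and `|[V, R]| ≥ |R̄|²`. -/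
theorem bound [Finite G] (hfree : ¬ Involves (Equiv.Perm (Fin 4)) G) (hcomp : Komp G) {V C : Subgroup G}
    [hVn : V.Normal] [C.Normal] (hV : IsElementaryAbelian 2 V) (hC : C = centralizer (V : Set G))
    (h2 : pCore 2 (G ⧸ C) = ⊥) {R : Subgroup G} (h1 : ⁅R, R⁆ ≤ C) (hsq : ∀ r ∈ R, r ^ 2 ∈ C) :
    Nat.card R ^ 2 * Nat.card ↥(V ⊓ centralizer (R : Set G)) ≤ Nat.card V * Nat.card ↥(R ⊓ C) ^ 2 ∧
      Nat.card R ^ 2 ≤ Nat.card ↥⁅V, R⁆ * Nat.card ↥(R ⊓ C) ^ 2 := by
  classical
  let cj : G →* MulAut V := MulAut.conjNormal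
  have hcj : ∀ (g : G) (v : V), ((cj g v : V) : G) = g * v * g⁻¹ := fun g v => rfl
  have hker : cj.ker = C := by
    ext g
    rw [hC, MonoidHom.mem_ker, mem_centralizer_iff]
    constructor
    · intro h v hv
      have h1 := congrArg Subtype.val (DFunLike.congr_fun h (⟨v, hv⟩ : V))
      exact (mul_inv_eq_iff_eq_mul.1 (h1 : g * v * g⁻¹ = v)).symm
    · intro h
      refine MulEquiv.ext fun v => Subtype.ext ?_
      show g * (v : G) * g⁻¹ = v
      rw [← h v v.2, mul_inv_cancel_right]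
  let φ : G ⧸ C →* MulAut V := QuotientGroup.lift C cj hker.ge
  have hφ : Function.Injective φ := by
    rw [← MonoidHom.ker_eq_bot_iff, QuotientGroup.ker_lift, hker, QuotientGroup.map_mk'_self]
  haveI : Finite (SemidirectProduct V (G ⧸ C) φ) := Finite.of_equiv _ SemidirectProduct.equivProd.symm
  set M : Subgroup (SemidirectProduct V (G ⧸ C) φ) :=
    (SemidirectProduct.inl : V →* SemidirectProduct V (G ⧸ C) φ).range with hM
  have hMV : Nat.card M = Nat.card V :=
    (Nat.card_congr (MonoidHom.ofInjective SemidirectProduct.inl_injective).toEquiv).symm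
  have hcomm : ∀ (γ : G ⧸ C) (v : V),
      (SemidirectProduct.inr γ : SemidirectProduct V (G ⧸ C) φ) * SemidirectProduct.inl v =
      SemidirectProduct.inl v * SemidirectProduct.inr γ ↔ φ γ v = v := fun γ v => by
    rw [← mul_inv_eq_iff_eq_mul, ← map_inv, ← SemidirectProduct.inl_aut, SemidirectProduct.inl_inj]
  have hact : S3Bound.Act M (SemidirectProduct.inr : G ⧸ C →* SemidirectProduct V (G ⧸ C) φ) := by
    refine ⟨PGroup.isElementaryAbelian_mk ?_ ?_, fun γ => ?_, fun γ hγ => ?_⟩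
    · rintro _ ⟨a, rfl⟩ _ ⟨b, rfl⟩
      rw [← map_mul, ← map_mul, show a * b = b * a from hV.1.is_comm.comm a b]
    · rintro _ ⟨a, rfl⟩
      rw [← map_pow, show a ^ 2 = 1 from Subtype.ext (hV.2 _ a.2), map_one]
    · haveI : M.Normal := by
        rw [hM, SemidirectProduct.range_inl_eq_ker_rightHom]; infer_instance
      rw [normalizer_eq_top_iff.2 ‹M.Normal›]; exact mem_top _
    · refine hφ ?_
      rw [map_one]
      exact MulEquiv.ext fun v => (hcomm γ v).1 (hγ _ ⟨v, rfl⟩)
  have hfree3 : ¬ Involves (Equiv.Perm (Fin 3)) (G ⧸ C) := sThreeFree hfree hV hC.ge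
  have hK : ∀ K : Subgroup (G ⧸ C), IsComponent K → S3Bound.Nice (↥K ⧸ center ↥K) := fun K hKc => by
    haveI : IsSimpleGroup (↥K ⧸ center ↥K) := hKc.2.2
    exact S3Bound.nice_of_isSuzukiOrPSL2 (CfsgLib.Local.not_isMulCommutative_quotient_center hKc.2)
      ((hcomp.of_surjective _ (QuotientGroup.mk'_surjective C)).component hKc)
  have hRe := elem_map_quot h1 hsq
  have hcard := card_map_mk C R
  constructor
  · have h := S3Bound.fix_bound hact hfree3 h2 hK hRe
    have hfix : Nat.card ↥(V ⊓ centralizer (R : Set G)) ≤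
        Nat.card ↥(S3Bound.fixM M (SemidirectProduct.inr : G ⧸ C →* SemidirectProduct V (G ⧸ C) φ)
          (R.map (QuotientGroup.mk' C))) := by
      refine Nat.card_le_card_of_injective (fun v => ⟨SemidirectProduct.inl (⟨v, v.2.1⟩ : V),
        S3Bound.mem_fixM.2 ⟨⟨_, rfl⟩, ?_⟩⟩) fun v w h => ?_
      · rintro _ ⟨r, hr, rfl⟩
        refine (hcomm _ _).2 (Subtype.ext ?_)
        show r * (v : G) * r⁻¹ = v
        rw [mem_centralizer_iff.1 v.2.2 r hr, mul_inv_cancel_right]
      · exact Subtype.ext (congrArg (fun z : ↥V => (z : G))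
          (@SemidirectProduct.inl_injective _ _ _ _ φ (⟨v, v.2.1⟩ : V) (⟨w, w.2.1⟩ : V) (congrArg Subtype.val h)))
    rw [hMV] at h
    calc Nat.card R ^ 2 * Nat.card ↥(V ⊓ centralizer (R : Set G))
        ≤ Nat.card R ^ 2 * _ := Nat.mul_le_mul_left _ hfix
      _ = (Nat.card ↥(R.map (QuotientGroup.mk' C)) ^ 2 * _) * Nat.card ↥(R ⊓ C) ^ 2 := by rw [hcard]; ring
      _ ≤ _ := Nat.mul_le_mul_right _ h
  · have h := S3Bound.comm_bound hact hfree3 h2 hK hRe
    have hle : ⁅M, (R.map (QuotientGroup.mk' C)).map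
        (SemidirectProduct.inr : G ⧸ C →* SemidirectProduct V (G ⧸ C) φ)⁆ ≤
        (⁅V, R⁆.subgroupOf V).map SemidirectProduct.inl := by
      rw [Subgroup.commutator_le]
      rintro _ ⟨v, rfl⟩ _ ⟨_, ⟨r, hr, rfl⟩, rfl⟩
      refine ⟨v * φ (QuotientGroup.mk' C r) v⁻¹, mem_subgroupOf.2 ?_, ?_⟩
      · show (v : G) * (r * ((v⁻¹ : V) : G) * r⁻¹) ∈ ⁅V, R⁆
        have := commutator_mem_commutator (H₁ := V) v.2 hr
        simpa [commutatorElement_def, mul_assoc] using this
      · rw [map_mul, SemidirectProduct.inl_aut, commutatorElement_def, map_inv, map_inv]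
        simp only [mul_assoc]
    have hVR : ⁅V, R⁆ ≤ V := Subgroup.commutator_le_left V R
    have hle' := Subgroup.card_le_of_le hle
    rw [Subgroup.card_map_of_injective SemidirectProduct.inl_injective,
      Nat.card_congr (Subgroup.subgroupOfEquivOfLe hVR).toEquiv] at hle'
    calc Nat.card R ^ 2 = Nat.card ↥(R.map (QuotientGroup.mk' C)) ^ 2 * Nat.card ↥(R ⊓ C) ^ 2 := by
          rw [hcard]; ring
      _ ≤ _ := Nat.mul_le_mul_right _ (h.trans hle')

end CfsgLib.SFactor
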