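import Cfsg.Agent.Lib.SFactor.Local

/-!
Strong closure of an abelian subgroup with the index property in `S₄`-free groups.
-/

set_option autoImplicit false

namespace CfsgLib.SFactor

open Subgroup Cfsg
open scoped commutatorElement
open CfsgLib.LocalEven
open CfsgLib.PStab
open CfsgLib.Fusion (conjSub conj_mem_conjSub conjSub_conjSub conjSub_one conjSub_mono card_conjSub
  conjSub_eq_iff_mem_normalizer)
open CfsgLib.Techniques.Functor (exists_full exists_move lt_norm conjSub_normalizer Full)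

universe u

variable {G : Type u} [Group G] [Finite G]

theorem mem_normalizer_of_maps {X : Subgroup G} {g : G} (h : ∀ x ∈ X, g * x * g⁻¹ ∈ X) :
    g ∈ normalizer (X : Set G) := by
  refine mem_normalizer_iff_map_conj_eq.2 (Subgroup.eq_of_le_of_card_ge ?_
    (Subgroup.card_map_of_injective (MulAut.conj g).injective).ge)
  rintro _ ⟨x, hx, rfl⟩
  exact h x hx

theorem mem_normalizer_inf {X Y : Subgroup G} {g : G} (hX : g ∈ normalizer (X : Set G))
    (hY : g ∈ normalizer (Y : Set G)) : g ∈ normalizer ((X ⊓ Y : Subgroup G) : Set G) :=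
  mem_normalizer_of_maps fun x hx => ⟨(mem_normalizer_iff.1 hX x).1 hx.1, (mem_normalizer_iff.1 hY x).1 hx.2⟩

/-- An abelian subgroup with the index property, invariant in `N(J(S))`, in an `S₄`-free group with
restricted sections of characteristic `2`. -/
structure Closing (S : Sylow 2 G) (A : Subgroup G) : Prop where
  free : ¬ Involves (Equiv.Perm (Fin 4)) G
  sec : ∀ (K R : Subgroup G) [hR : (R.subgroupOf K).Normal],
    centralizer (pCore 2 (K ⧸ R.subgroupOf K) : Set (K ⧸ R.subgroupOf K)) ≤ pCore 2 (K ⧸ R.subgroupOf K) →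
      Komp (K ⧸ R.subgroupOf K)
  le : A ≤ (S : Subgroup G)
  elem : IsElementaryAbelian 2 A
  norm : (S : Subgroup G) ≤ normalizer (A : Set G)
  nj : normalizer (jGen 2 (S : Subgroup G) : Set G) ≤ normalizer (A : Set G)
  idx : Indexed (S : Subgroup G) A

/-- Fusion between subgroups of order at least `n` preserves membership in `A`. -/
def FusionClosed (S : Sylow 2 G) (A : Subgroup G) (n : ℕ) : Prop :=
  ∀ P : Subgroup G, P ≤ (S : Subgroup G) → n ≤ Nat.card P → ∀ g : G, conjSub g P ≤ (S : Subgroup G) →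
    ∀ x ∈ P, x ∈ A → g * x * g⁻¹ ∈ A

/-- Local subgroups with Sylow subgroups of order at least `n` normalise the trace of `A` on their
normal `2`-subgroups. -/
def LocalClosed (S : Sylow 2 G) (A : Subgroup G) (n : ℕ) : Prop :=
  ∀ K T Q : Subgroup G, T ≤ (S : Subgroup G) → T ≤ K → ¬ 2 ∣ T.relIndex K → n ≤ Nat.card T → Q ≤ T →
    K ≤ normalizer (Q : Set G) → K ≤ normalizer ((A ⊓ Q : Subgroup G) : Set G)

variable {S : Sylow 2 G} {A : Subgroup G}

theorem climb {n : ℕ} (hF : FusionClosed S A (n + 1)) (hL : LocalClosed S A (n + 1))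
    {T R : Subgroup G} (hn : n ≤ Nat.card T) (hRT : R ≤ T)
    (hlt : T < (S : Subgroup G) ⊓ normalizer (R : Set G)) :
    normalizer (R : Set G) ≤ normalizer ((A ⊓ R : Subgroup G) : Set G) := by
  haveI : Fact (Nat.Prime 2) := ⟨Nat.prime_two⟩
  set L := normalizer (R : Set G) with hLdef
  set P := (S : Subgroup G) ⊓ L with hP
  have hPn : n + 1 ≤ Nat.card P := by
    have h1 : Nat.card T < Nat.card P := lt_of_le_of_ne (Subgroup.card_le_of_le hlt.le)
      fun e => hlt.ne (Subgroup.eq_of_le_of_card_ge hlt.le e.ge)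
    omega
  obtain ⟨TL, hTL⟩ := ((S.2.to_le (inf_le_left : P ≤ _)).comap_subtype (K := L)).exists_le_sylow
  set TG := (TL : Subgroup ↥L).map L.subtype with hTG
  have hPT : P ≤ TG := fun x hx => ⟨⟨x, hx.2⟩, hTL (mem_subgroupOf.2 hx), rfl⟩
  obtain ⟨h, hh⟩ := CfsgLib.Fusion.exists_conj_mem (U := TG) (TL.2.map _) S.2 S.not_dvd_index
  have hhS : conjSub h TG ≤ (S : Subgroup G) := by
    rintro _ ⟨x, hx, rfl⟩; exact hh x hx
  have hind : ¬ 2 ∣ (conjSub h TG).relIndex (conjSub h L) := by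
    unfold conjSub
    rw [Subgroup.relIndex_map_map_of_injective _ _ (MulAut.conj h).injective, Subgroup.relIndex,
      show TG.subgroupOf L = (TL : Subgroup ↥L) from comap_map_eq_self_of_injective L.subtype_injective _]
    exact TL.not_dvd_index
  have hRP : R ≤ P := hRT.trans hlt.le
  have hloc := hL (conjSub h L) (conjSub h TG) (conjSub h R) hhS (conjSub_mono h (map_subtype_le _)) hind
    (hPn.trans (by rw [card_conjSub]; exact Subgroup.card_le_of_le hPT)) (conjSub_mono h (hRP.trans hPT))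
    (by rw [hLdef, conjSub_normalizer])
  have hPS : conjSub h P ≤ (S : Subgroup G) := (conjSub_mono h hPT).trans hhS
  intro k hk
  refine mem_normalizer_of_maps fun x hx => ?_
  have hy : k * x * k⁻¹ ∈ R := (mem_normalizer_iff.1 hk x).1 hx.2
  have hx' : h * x * h⁻¹ ∈ A := hF P inf_le_left hPn h hPS x (hRP hx.2) hx.1
  have h1 := (mem_normalizer_iff.1 (hloc (conj_mem_conjSub hk)) (h * x * h⁻¹)).1
    ⟨hx', conj_mem_conjSub hx.2⟩
  have h2 := hF (conjSub h P) hPS (by rwa [card_conjSub]) h⁻¹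
    (by rw [conjSub_conjSub, inv_mul_cancel, conjSub_one]; exact inf_le_left)
    (h * (k * x * k⁻¹) * h⁻¹) (conj_mem_conjSub (hRP hy)) (by
      have h3 := h1.1
      rwa [show h * k * h⁻¹ * (h * x * h⁻¹) * (h * k * h⁻¹)⁻¹ = h * (k * x * k⁻¹) * h⁻¹ by group] at h3)
  rw [show h⁻¹ * (h * (k * x * k⁻¹) * h⁻¹) * h⁻¹⁻¹ = k * x * k⁻¹ by group] at h2
  exact ⟨h2, hy⟩

omit [Finite G] in
theorem mem_of_sup_inv {X : Subgroup G} {a b : G} (ha : a ∈ X) (hab : a * b ∈ X) : b ∈ X := by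
  simpa using mul_mem (inv_mem ha) hab

/-- The Frattini step. -/
theorem reduce {K T Q V D : Subgroup G} (hTS : T ≤ (S : Subgroup G)) (hTK : T ≤ K)
    (hind : ¬ 2 ∣ T.relIndex K) (hQT : Q ≤ T) (hKQ : K ≤ normalizer (Q : Set G))
    (IH : ∀ K' Q' : Subgroup G, T ≤ K' → ¬ 2 ∣ T.relIndex K' → Q' ≤ T → Nat.card Q < Nat.card Q' →
      K' ≤ normalizer (Q' : Set G) → K' ≤ normalizer ((A ⊓ Q' : Subgroup G) : Set G))
    (hDK : D ≤ K) (hKD : K ≤ normalizer (D : Set G))
    (hDX : D ≤ normalizer ((A ⊓ V : Subgroup G) : Set G)) (hVQ : V ≤ Q) (hKV : K ≤ normalizer (V : Set G))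
    (hnle : ¬ T ⊓ D ≤ Q) : K ≤ normalizer ((A ⊓ V : Subgroup G) : Set G) := by
  haveI : Fact (Nat.Prime 2) := ⟨Nat.prime_two⟩
  set D' := D.subgroupOf K
  haveI : D'.Normal := normal_subgroupOf_of_le_normalizer hKD
  let TK : Sylow 2 ↥K := (S.2.to_le hTS).comap_subtype.toSylow (P := T.subgroupOf K) hind
  obtain ⟨TD, hTD⟩ := Transfer.exists_sylow_map_eq_inf D' TK
  have hTKc : (TK : Subgroup ↥K) = T.subgroupOf K := rfl
  have hindD : ¬ 2 ∣ (T ⊓ D).relIndex D := by
    rw [← Subgroup.relIndex_subgroupOf hDK]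
    show ¬ 2 ∣ (T.subgroupOf K ⊓ D').relIndex D'
    rw [← hTKc, ← hTD, Subgroup.relIndex,
      show ((TD : Subgroup ↥D').map D'.subtype).subgroupOf D' = (TD : Subgroup ↥D') from
        comap_map_eq_self_of_injective D'.subtype_injective _]
    exact TD.not_dvd_index
  intro k hk
  have hU : IsPGroup 2 ↥((T ⊓ D).map (MulAut.conj k).toMonoidHom) :=
    ((S.2.to_le hTS).to_le inf_le_left).map _
  obtain ⟨d, hd, hdT⟩ := CfsgLib.Fusion.exists_conj_mem_of_le hU ((S.2.to_le hTS).to_le inf_le_left)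
    (show (T ⊓ D).map (MulAut.conj k).toMonoidHom ≤ D by
      rintro _ ⟨z, hz, rfl⟩; exact (mem_normalizer_iff.1 (hKD hk) z).1 hz.2) inf_le_right hindD
  have hn : d * k ∈ normalizer ((T ⊓ D : Subgroup G) : Set G) := mem_normalizer_of_maps fun z hz => by
    have := hdT _ ⟨z, hz, rfl⟩
    rwa [show d * k * z * (d * k)⁻¹ = d * (k * z * k⁻¹) * d⁻¹ by group]
  set K' := K ⊓ normalizer ((T ⊓ D : Subgroup G) : Set G) with hK'
  have hTK' : T ≤ K' := le_inf hTK fun t ht =>
    mem_normalizer_inf (Subgroup.le_normalizer ht) (hKD (hTK ht))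
  have hind' : ¬ 2 ∣ T.relIndex K' := fun h2 => hind
    (h2.trans (Dvd.intro _ (Subgroup.relIndex_mul_relIndex T K' K hTK' inf_le_left)))
  have hQ' : Q ⊔ (T ⊓ D) ≤ T := sup_le hQT inf_le_left
  have hcard : Nat.card Q < Nat.card ↥(Q ⊔ (T ⊓ D)) := lt_of_le_of_ne (Subgroup.card_le_of_le le_sup_left)
    fun e => hnle (le_trans le_sup_right (Subgroup.eq_of_le_of_card_ge le_sup_left e.ge).ge)
  have hN : K' ≤ normalizer ((Q ⊔ (T ⊓ D) : Subgroup G) : Set G) := by
    intro z hz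
    refine mem_normalizer_iff_map_conj_eq.2 ?_
    rw [Subgroup.map_sup, mem_normalizer_iff_map_conj_eq.1 (hKQ hz.1), mem_normalizer_iff_map_conj_eq.1 hz.2]
  have h1 := IH K' _ hTK' hind' hQ' hcard hN ⟨mul_mem (hDK hd) hk, hn⟩
  have h2 := mem_normalizer_inf h1 (hKV (mul_mem (hDK hd) hk))
  rw [inf_assoc, inf_eq_right.2 (hVQ.trans le_sup_left)] at h2
  exact mem_of_sup_inv (hDX hd) h2

set_option maxHeartbeats 1600000 in
theorem localClosed_step (h : Closing S A) {n : ℕ} (hF : FusionClosed S A (n + 1))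
    (hL : LocalClosed S A (n + 1)) : LocalClosed S A n := by
  haveI : Fact (Nat.Prime 2) := ⟨Nat.prime_two⟩
  intro K T Q hTS hTK hind hn hQT
  revert K Q
  suffices H : ∀ d : ℕ, ∀ K Q : Subgroup G, Nat.card T - Nat.card Q = d → T ≤ K → ¬ 2 ∣ T.relIndex K →
      Q ≤ T → K ≤ normalizer (Q : Set G) → K ≤ normalizer ((A ⊓ Q : Subgroup G) : Set G) from
    fun K Q hTK hind hQT hKQ => H _ K Q rfl hTK hind hQT hKQ
  intro d
  induction d using Nat.strong_induction_on with
  | _ d ih =>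
  intro K Q hd hTK hind hQT hKQ
  have IH : ∀ K' Q' : Subgroup G, T ≤ K' → ¬ 2 ∣ T.relIndex K' → Q' ≤ T → Nat.card Q < Nat.card Q' →
      K' ≤ normalizer (Q' : Set G) → K' ≤ normalizer ((A ⊓ Q' : Subgroup G) : Set G) := by
    intro K' Q' h1 h2 h3 h4 h5
    exact ih _ (by have := Subgroup.card_le_of_le h3; omega) K' Q' rfl h1 h2 h3 h5
  by_cases hcen : T ⊓ centralizer (Q : Set G) ≤ Q
  swap
  · refine reduce hTS hTK hind hQT hKQ IH (D := K ⊓ centralizer (Q : Set G)) inf_le_left ?_ ?_ le_rfl hKQ ?_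
    · intro k hk
      exact mem_normalizer_inf (Subgroup.le_normalizer hk) (mem_normalizer_of_maps fun c hc =>
        mem_centralizer_iff.2 fun q hq => by
          have h1 : k⁻¹ * q * k⁻¹⁻¹ ∈ Q := (mem_normalizer_iff.1 (hKQ (inv_mem hk)) q).1 hq
          have h2 := mem_centralizer_iff.1 hc _ h1
          calc q * (k * c * k⁻¹) = k * ((k⁻¹ * q * k⁻¹⁻¹) * c) * k⁻¹ := by group
            _ = k * (c * (k⁻¹ * q * k⁻¹⁻¹)) * k⁻¹ := by rw [h2]
            _ = _ := by group)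
    · intro c hc
      refine mem_normalizer_of_maps fun x hx => ?_
      rw [← mem_centralizer_iff.1 hc.2 x hx.2, mul_inv_cancel_right]
      exact hx
    · intro hle
      exact hcen fun t ht => hle ⟨ht.1, hTK ht.1, ht.2⟩
  -- `K` is `2`-constrained
  let TK : Sylow 2 ↥K := (S.2.to_le hTS).comap_subtype.toSylow (P := T.subgroupOf K) hind
  have hTKc : (TK : Subgroup ↥K) = T.subgroupOf K := rfl
  set QK := Q.subgroupOf K with hQK
  haveI hQKn : QK.Normal := normal_subgroupOf_of_le_normalizer hKQ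
  have hQTK : QK ≤ (TK : Subgroup ↥K) := fun z hz => hQT hz
  obtain ⟨hOC, hcharP⟩ := centric_core TK hQTK (by
    rintro ⟨z, hzK⟩ ⟨hz1, hz2⟩
    refine hcen ⟨hz1, mem_centralizer_iff.2 fun q hq => ?_⟩
    exact congrArg Subtype.val (mem_centralizer_iff.1 hz2 ⟨q, hTK (hQT hq)⟩ hq))
  set O := pPrimeCore 2 ↥K with hO
  have hOodd : (Nat.card O).Coprime 2 := CfsgLib.Cores.coprime_card_pPrimeCore 2
  have hKO : Komp (↥K ⧸ O) := by
    have hOR : (O.map K.subtype).subgroupOf K = O := comap_map_eq_self_of_injective K.subtype_injective _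
    haveI : ((O.map K.subtype).subgroupOf K).Normal := by rw [hOR]; infer_instance
    let e := QuotientGroup.quotientMulEquivOfEq hOR
    exact (h.sec K (O.map K.subtype) (hasCharP_congr e.symm hcharP)).congr e
  have hKK : Komp ↥K := komp_of_core (Nat.coprime_two_right.1 hOodd) hKO
  have hfreeK : ¬ Involves (Equiv.Perm (Fin 4)) ↥K := fun hi =>
    h.free (Offender.involves_of_injective K.subtype K.subtype_injective hi)
  have hnormX : T ≤ normalizer ((A ⊓ Q : Subgroup G) : Set G) := fun t ht =>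
    mem_normalizer_inf (h.norm (hTS ht)) (hKQ (hTK ht))
  by_cases hAT : A ≤ T
  · -- `G = C(A) N(J(T))` in the characteristic `2` quotient
    set π := QuotientGroup.mk' O with hπ
    have hπs := QuotientGroup.mk'_surjective O
    have hyp : Hyp (↥K ⧸ O) :=
      ⟨fun hi => hfreeK (Offender.involves_of_surjective π hπs hi), hKO, hcharP⟩
    set f : ↥T →* ↥K ⧸ O := π.comp (inclusion hTK) with hf
    have hfi : Function.Injective f := by
      rw [← MonoidHom.ker_eq_bot_iff, eq_bot_iff]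
      intro t ht
      rw [mem_bot]
      have ht' : (inclusion hTK t) ∈ O := (QuotientGroup.eq_one_iff _).1 ht
      obtain ⟨k, hk⟩ := IsPGroup.iff_orderOf.1 (S.2.to_le hTS) t
      rw [← orderOf_eq_one_iff]
      refine Nat.eq_one_of_dvd_coprimes (Nat.Coprime.pow_right k hOodd) ?_ hk.dvd
      rw [← orderOf_injective _ (inclusion_injective hTK) t]
      exact Subgroup.orderOf_dvd_natCard _ ht'
    set Tb := TK.mapSurjective hπs with hTb
    have hTbc : (Tb : Subgroup (↥K ⧸ O)) = (⊤ : Subgroup ↥T).map f := by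
      rw [hTb, Sylow.coe_mapSurjective, hTKc, hf, ← Subgroup.map_map]
      congr 1
      ext z
      exact ⟨fun hz => ⟨⟨(z : G), hz⟩, mem_top _, Subtype.ext rfl⟩, fun ⟨t, _, e'⟩ => e' ▸ t.2⟩
    have hTtop : (⊤ : Subgroup ↥T).map T.subtype = T := by
      rw [← MonoidHom.range_eq_map, Subgroup.range_subtype]
    have hI : Indexed T A := h.idx.mono hTS
    have hAJ : A ≤ jGen 2 T := le_jGen_of_indexed hAT h.elem hI
    have hAZ : A ≤ zH T := fun a ha => subset_closure ⟨⟨jGen_le_jH T (hAJ ha),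
      mem_centralizer_iff.2 fun j hj => (mem_centralizer_iff.1
        (jH_le_centralizer hAT (hTS.trans h.norm) h.elem hI hj) a ha).symm⟩, h.elem.2 a ha⟩
    have hAK : A ≤ K := hAT.trans hTK
    -- the elements of `K` normalising `A ⊓ Q`
    set M := (normalizer ((A ⊓ Q : Subgroup G) : Set G)).comap K.subtype with hM
    have hOM : O ≤ M := fun o ho => mem_normalizer_of_maps fun x hx => by
      have := congrArg Subtype.val (mem_centralizer_iff.1 (hOC ho) ⟨x, hTK (hQT hx.2)⟩ hx.2)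
      have h1 : x * (o : G) = (o : G) * x := this
      show (o : G) * x * (o : G)⁻¹ ∈ A ⊓ Q
      rw [← h1, mul_inv_cancel_right]; exact hx
    intro k hk
    obtain ⟨cb, hcb, jb, hjb, hkb⟩ := facStatement _ (↥K ⧸ O) rfl hyp Tb (π ⟨k, hk⟩)
    obtain ⟨c, rfl⟩ := hπs cb
    obtain ⟨j, rfl⟩ := hπs jb
    have hcM : c ∈ M := by
      set AK := A.subgroupOf K with hAKd
      have hcn : π c ∈ normalizer ((AK.map π : Subgroup (↥K ⧸ O)) : Set (↥K ⧸ O)) := by
        refine (centralizer_le_normalizer _) (centralizer_le ?_ hcb)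
        rintro _ ⟨⟨a, haK⟩, ha, rfl⟩
        obtain ⟨z, hz, hza⟩ : a ∈ (zH (⊤ : Subgroup ↥T)).map T.subtype := by
          rw [zH_map T.subtype_injective, hTtop]; exact hAZ ha
        rw [hTbc, ← zH_map hfi]
        exact ⟨z, hz, congrArg π (Subtype.ext hza)⟩
      obtain ⟨o, ho, m, hm, rfl⟩ := mem_normalizer_lift hOodd
        ((PGroup.elemAb_isPGroup h.elem).comap_subtype) hcn
      refine mul_mem (hOM ho) ?_
      have hm' := le_normalizer_map K.subtype (mem_map_of_mem K.subtype hm)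
      rw [show (comap K.subtype A).map K.subtype = A from map_subgroupOf_eq_of_le hAK] at hm'
      exact mem_normalizer_inf hm' (hKQ m.2)
    have hjM : j ∈ M := by
      set J := (jGen 2 (⊤ : Subgroup ↥T)).map (inclusion hTK) with hJd
      have hjn : π j ∈ normalizer ((J.map π : Subgroup (↥K ⧸ O)) : Set (↥K ⧸ O)) := by
        rw [hJd, Subgroup.map_map, ← hf, ← jGen_map hfi, ← hTbc]; exact hjb
      obtain ⟨o, ho, m, hm, rfl⟩ := mem_normalizer_lift hOodd
        (((S.2.to_le hTS).to_subgroup _).map (inclusion hTK)) hjn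
      refine mul_mem (hOM ho) ?_
      have hm' := le_normalizer_map K.subtype (mem_map_of_mem K.subtype hm)
      rw [Subgroup.map_map, show K.subtype.comp (inclusion hTK) = T.subtype from rfl,
        ← jGen_map T.subtype_injective, hTtop] at hm'
      refine mem_normalizer_inf ?_ (hKQ m.2)
      rcases eq_or_lt_of_le hTS with e | e
      · rw [e] at hm'; exact h.nj hm'
      · have hlt : T < (S : Subgroup G) ⊓ normalizer (jGen 2 T : Set G) :=
          lt_of_lt_of_le (lt_norm S.2 e) (inf_le_inf_left _ (normalizer_le_normalizer_jGen 2 T))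
        have := climb hF hL hn (jGen_le 2 T) hlt hm'
        rwa [inf_eq_left.2 hAJ] at this
    have hkM : (⟨k, hk⟩ : ↥K) ∈ M := by
      have h1 : (c * j)⁻¹ * ⟨k, hk⟩ ∈ O := QuotientGroup.eq.1 (by
        show π (c * j) = π ⟨k, hk⟩
        rw [map_mul, hkb])
      have h2 := mul_mem (mul_mem hcM hjM) (hOM h1)
      rwa [mul_inv_cancel_left] at h2
    exact hkM
  -- `A` is not contained in `T`
  suffices H : ∀ e : ℕ, ∀ U : Subgroup G, Nat.card ↥(A ⊓ Q) - Nat.card U = e → U ≤ A ⊓ Q →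
      K ≤ normalizer (U : Set G) → K ≤ normalizer ((A ⊓ Q : Subgroup G) : Set G) from
    H _ ⊥ rfl bot_le (by rw [normalizer_eq_top_iff.2 inferInstance]; exact le_top)
  intro e
  induction e using Nat.strong_induction_on with
  | _ e ihU =>
  intro U he hUX hKU
  by_cases hXU : A ⊓ Q ≤ U
  · rwa [le_antisymm hXU hUX]
  set N₀ := normalizer (U : Set G) with hN₀
  set π := QuotientGroup.mk' (U.subgroupOf N₀) with hπ
  set φ := π.comp (inclusion hKU) with hφ
  set ψ := φ.rangeRestrict with hψdef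
  have hψs : Function.Surjective ψ := φ.rangeRestrict_surjective
  have hker : ∀ z : ↥K, ψ z = 1 ↔ (z : G) ∈ U := fun z => by
    refine (Subtype.ext_iff).trans ?_
    exact (QuotientGroup.eq_one_iff _)
  set Tb := TK.mapSurjective hψs with hTbd
  have hTbc : (Tb : Subgroup ↥φ.range) = (T.subgroupOf K).map ψ := by
    rw [hTbd, Sylow.coe_mapSurjective, hTKc]
  set Qb := QK.map ψ with hQb
  haveI : Qb.Normal := hQKn.map ψ hψs
  have hQbT : Qb ≤ (Tb : Subgroup ↥φ.range) := by rw [hTbc]; exact map_mono hQTK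
  let Vb : Subgroup ↥φ.range :=
    { carrier := {w | w ∈ Qb ⊓ centralizer (Qb : Set ↥φ.range) ∧ w ^ 2 = 1}
      one_mem' := ⟨one_mem _, one_pow _⟩
      mul_mem' := fun {a b} ha hb => ⟨mul_mem ha.1 hb.1, by
        rw [(show Commute a b from mem_centralizer_iff.1 hb.1.2 a ha.1.1).mul_pow, ha.2, hb.2, one_mul]⟩
      inv_mem' := fun {a} ha => ⟨inv_mem ha.1, by rw [inv_pow, ha.2, inv_one]⟩ }
  haveI hVbn : Vb.Normal := ⟨fun x hx g => ⟨(inferInstance : (Qb ⊓ centralizer (Qb : Set ↥φ.range)).Normal).conj_mem x hx.1 g,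
    by rw [conj_pow, hx.2, mul_one, mul_inv_cancel]⟩⟩
  have hVbe : IsElementaryAbelian 2 Vb :=
    PGroup.isElementaryAbelian_mk (fun a ha b hb => mem_centralizer_iff.1 hb.1.2 a ha.1.1) fun a ha => ha.2
  have hVbQ : Vb ≤ Qb := fun w hw => hw.1.1
  have hQbC : Qb ≤ centralizer (Vb : Set ↥φ.range) := fun q hq =>
    mem_centralizer_iff.2 fun w hw => (mem_centralizer_iff.1 hw.1.2 q hq).symm
  set VK := Vb.comap ψ with hVK
  set V := VK.map K.subtype with hV
  have hQbpre : ∀ z : ↥K, ψ z ∈ Qb → (z : G) ∈ Q := by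
    rintro z ⟨q, hq, hqz⟩
    have h1 : ψ (q⁻¹ * z) = 1 := by rw [map_mul, map_inv, hqz, inv_mul_cancel]
    have h2 : ((q⁻¹ * z : ↥K) : G) ∈ Q := (hUX ((hker _).1 h1)).2
    simpa using mul_mem (show (q : G) ∈ Q from hq) h2
  have hVQ : V ≤ Q := by
    rintro _ ⟨z, hz, rfl⟩; exact hQbpre z (hVbQ hz)
  have hKV : K ≤ normalizer (V : Set G) := by
    intro k hk
    have h1 := le_normalizer_map K.subtype (H := VK) (mem_map_of_mem K.subtype
      (show (⟨k, hk⟩ : ↥K) ∈ normalizer (VK : Set ↥K) by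
        rw [normalizer_eq_top_iff.2 (hVbn.comap ψ)]; trivial))
    exact h1
  -- a new element of `A ⊓ V`
  obtain ⟨x, hxX, hxU, hxV⟩ : ∃ x, x ∈ A ⊓ Q ∧ x ∉ U ∧ x ∈ V := by
    set Xb := ((A ⊓ Q).subgroupOf K).map ψ with hXb
    have hXbQ : Xb ≤ Qb := map_mono fun z hz => hz.2
    have hXbn : Qb ≤ normalizer (Xb : Set ↥φ.range) := by
      rw [hQb]
      refine le_trans (map_mono fun z hz => ?_) (le_normalizer_map ψ)
      refine mem_normalizer_of_maps fun y hy => ?_
      exact (mem_normalizer_iff.1 (hnormX (hQT hz)) (y : G)).1 hy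
    haveI : (Xb.subgroupOf Qb).Normal := normal_subgroupOf_of_le_normalizer hXbn
    have hne : Xb.subgroupOf Qb ≠ ⊥ := by
      intro hb
      refine hXU fun z hz => ?_
      have h1 : (⟨ψ ⟨z, hTK (hQT hz.2)⟩, hXbQ ⟨⟨z, hTK (hQT hz.2)⟩, hz, rfl⟩⟩ : ↥Qb) ∈ Xb.subgroupOf Qb :=
        ⟨⟨z, hTK (hQT hz.2)⟩, hz, rfl⟩
      rw [hb, mem_bot] at h1
      exact (hker _).1 (congrArg Subtype.val h1)
    have hQbp : IsPGroup 2 ↥Qb := (Tb.2.to_le hQbT)
    obtain ⟨⟨w, hw⟩, hw1⟩ := Subgroup.ne_bot_iff_exists_ne_one.1 (PGroup.inf_center_ne_bot hQbp _ hne)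
    obtain ⟨z, hz, hzw⟩ := hw.1
    refine ⟨(z : G), hz, fun hzU => hw1 (Subtype.ext (Subtype.ext (hzw.symm.trans ((hker z).2 hzU)))),
      ⟨z, ⟨⟨?_, mem_centralizer_iff.2 fun q hq => ?_⟩, ?_⟩, rfl⟩⟩
    · exact hXbQ ⟨z, hz, rfl⟩
    · rw [hzw]; exact congrArg Subtype.val (mem_center_iff.1 hw.2 ⟨q, hq⟩)
    · rw [← map_pow, show z ^ 2 = 1 from Subtype.ext (h.elem.2 _ hz.1), map_one]
  suffices hmain : K ≤ normalizer ((A ⊓ V : Subgroup G) : Set G) by
    have hUV : U ≤ A ⊓ V := by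
      intro u hu
      have huK : u ∈ K := hTK (hQT (hUX hu).2)
      refine ⟨(hUX hu).1, ⟨⟨u, huK⟩, ?_, rfl⟩⟩
      show ψ ⟨u, huK⟩ ∈ Vb
      rw [(hker _).2 (show ((⟨u, huK⟩ : ↥K) : G) ∈ U from hu)]
      exact one_mem _
    have hlt : Nat.card U < Nat.card ↥(A ⊓ V) := lt_of_le_of_ne (Subgroup.card_le_of_le hUV)
      fun e' => hxU ((Subgroup.eq_of_le_of_card_ge hUV e'.ge).ge ⟨hxX.1, hxV⟩)
    have hle : A ⊓ V ≤ A ⊓ Q := inf_le_inf_left _ hVQ
    refine ihU _ ?_ (A ⊓ V) rfl hle hmain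
    have := Subgroup.card_le_of_le hle
    omega
  set CK := (centralizer (Vb : Set ↥φ.range)).comap ψ with hCK
  have hfix : ∀ c ∈ CK, (c : G) ∈ normalizer ((A ⊓ V : Subgroup G) : Set G) := by
    intro c hc
    refine mem_normalizer_of_maps fun v hv => ⟨?_, (mem_normalizer_iff.1 (hKV c.2) v).1 hv.2⟩
    obtain ⟨⟨v', hv', rfl⟩⟩ := And.intro hv.2 trivial
    have h1 : ψ (c * v' * c⁻¹ * v'⁻¹) = 1 := by
      rw [map_mul, map_mul, map_mul, map_inv, map_inv, ← mem_centralizer_iff.1 hc (ψ v') hv',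
        mul_inv_cancel_right, mul_inv_cancel]
    have h2 : ((c * v' * c⁻¹ * v'⁻¹ : ↥K) : G) ∈ A := (hUX ((hker _).1 h1)).1
    simpa using mul_mem h2 hv.1
  have hTfix : T ≤ normalizer ((A ⊓ V : Subgroup G) : Set G) := fun t ht =>
    mem_normalizer_inf (h.norm (hTS ht)) (hKV (hTK ht))
  rcases dichotomy (fun hi => hfreeK (Offender.involves_of_surjective ψ hψs hi)) (hKK.of_surjective ψ hψs) Tb
    hVbe (hVbQ.trans hQbT) hQbT hQbC with ⟨D, hDn, hDle, hDQ⟩ | ⟨hJQ, hVJ, hJn⟩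
  · haveI := hDn
    refine reduce hTS hTK hind hQT hKQ IH (D := (D.comap ψ).map K.subtype) (map_subtype_le _) ?_ ?_ hVQ hKV ?_
    · intro k hk
      exact le_normalizer_map K.subtype (H := D.comap ψ) (mem_map_of_mem K.subtype
        (show (⟨k, hk⟩ : ↥K) ∈ normalizer ((D.comap ψ : Subgroup ↥K) : Set ↥K) by
          rw [normalizer_eq_top_iff.2 (hDn.comap ψ)]; trivial))
    · rintro _ ⟨d', hd', rfl⟩
      obtain ⟨c, hc, t, ht, e'⟩ := mem_sup_of_normal_left.1 (hDle hd')
      rw [hTbc] at ht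
      obtain ⟨t', ht', rfl⟩ := ht
      have hcK : d' * t'⁻¹ ∈ CK := by
        show ψ (d' * t'⁻¹) ∈ centralizer (Vb : Set ↥φ.range)
        rw [map_mul, map_inv, ← e', mul_inv_cancel_right]; exact hc
      have h2 := mul_mem (hfix _ hcK) (hTfix (show ((t' : ↥K) : G) ∈ T from ht'))
      simpa using h2
    · intro hle
      refine hDQ fun z hz => ?_
      obtain ⟨hz1, hz2⟩ := hz
      rw [hTbc] at hz1
      obtain ⟨t, ht, rfl⟩ := hz1
      exact ⟨t, hle ⟨ht, ⟨t, hz2, rfl⟩⟩, rfl⟩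
  · set R := ((jH (Tb : Subgroup ↥φ.range)).comap ψ).map K.subtype with hR
    have hRQ : R ≤ Q := by rintro _ ⟨z, hz, rfl⟩; exact hQbpre z (hJQ hz)
    have hVR : V ≤ R := map_mono (comap_mono hVJ)
    have hTU : T ≤ (S : Subgroup G) ⊓ N₀ := le_inf hTS (hTK.trans hKU)
    have hAU : A ≤ (S : Subgroup G) ⊓ N₀ := le_inf h.le fun a ha => mem_normalizer_of_maps fun u hu => by
      rw [PGroup.elemAb_comm h.elem ha (hUX hu).1, mul_inv_cancel_right]; exact hu
    have hlt0 : T < ((S : Subgroup G) ⊓ N₀) ⊓ normalizer (T : Set G) :=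
      lt_norm (S.2.to_le inf_le_left) (lt_of_le_of_ne hTU fun e' => hAT (e' ▸ hAU))
    have hlt : T < (S : Subgroup G) ⊓ normalizer (R : Set G) := by
      refine lt_of_lt_of_le hlt0 fun s hs => ⟨hs.1.1, mem_normalizer_of_maps ?_⟩
      rintro _ ⟨z, hz, rfl⟩
      set sN : ↥N₀ := ⟨s, hs.1.2⟩
      have hTmap : (Tb : Subgroup ↥φ.range).map φ.range.subtype = (T.subgroupOf N₀).map π := by
        rw [hTbc, Subgroup.map_map, show φ.range.subtype.comp ψ = φ from rfl, hφ, ← Subgroup.map_map]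
        congr 1
        ext w
        exact ⟨fun ⟨t, ht, e'⟩ => e' ▸ ht, fun hw => ⟨⟨(w : G), hTK hw⟩, hw, Subtype.ext rfl⟩⟩
      have hnormT : π sN ∈ normalizer (((T.subgroupOf N₀).map π : Subgroup (↥N₀ ⧸ U.subgroupOf N₀)) :
          Set (↥N₀ ⧸ U.subgroupOf N₀)) := by
        refine le_normalizer_map π (mem_map_of_mem π (mem_normalizer_of_maps fun w hw => ?_))
        exact (mem_normalizer_iff.1 hs.2 (w : G)).1 hw
      have hnJ := normalizer_le_jH _ hnormT
      rw [← hTmap, ← jH_map φ.range.subtype_injective] at hnJ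
      obtain ⟨w, hw, hwe⟩ := (mem_normalizer_iff.1 hnJ _).1 (mem_map_of_mem φ.range.subtype hz)
      obtain ⟨r, rfl⟩ := hψs w
      set zN : ↥N₀ := inclusion hKU z with hzN
      have h3 : π (inclusion hKU r) = π (sN * zN * sN⁻¹) := by
        rw [map_mul, map_mul, map_inv]; exact hwe
      have h4 : (inclusion hKU r)⁻¹ * (sN * zN * sN⁻¹) ∈ U.subgroupOf N₀ := QuotientGroup.eq.1 h3
      have h5 : (r : G)⁻¹ * (s * z * s⁻¹) ∈ U := h4
      have huK : (r : G)⁻¹ * (s * z * s⁻¹) ∈ K := hTK (hQT (hUX h5).2)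
      refine ⟨r * ⟨_, huK⟩, ?_, by simp⟩
      refine mem_comap.2 ?_
      rw [map_mul, (hker _).2 (show (((⟨_, huK⟩ : ↥K)) : G) ∈ U from h5), mul_one]
      exact hw
    intro k hk
    have hkR : k ∈ normalizer (R : Set G) :=
      le_normalizer_map K.subtype (H := (jH (Tb : Subgroup ↥φ.range)).comap ψ) (mem_map_of_mem K.subtype
        (show (⟨k, hk⟩ : ↥K) ∈ normalizer (((jH (Tb : Subgroup ↥φ.range)).comap ψ : Subgroup ↥K) : Set ↥K) by
          rw [normalizer_eq_top_iff.2 (hJn.comap ψ)]; trivial))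
    have h1 := mem_normalizer_inf (climb hF hL hn (hRQ.trans hQT) hlt hkR) (hKV hk)
    rwa [inf_assoc, inf_eq_right.2 hVR] at h1

theorem fusionClosed_step (h : Closing S A) {n : ℕ} (hF : FusionClosed S A (n + 1))
    (hL : LocalClosed S A (n + 1)) : FusionClosed S A n := by
  haveI : Fact (Nat.Prime 2) := ⟨Nat.prime_two⟩
  intro P hPS hn g hgP x hxP hxA
  by_cases hlast : P = (S : Subgroup G)
  · have hgS : g ∈ normalizer ((S : Subgroup G) : Set G) := by
      rw [← conjSub_eq_iff_mem_normalizer]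
      rw [hlast] at hgP
      exact Subgroup.eq_of_le_of_card_ge hgP (card_conjSub g _).ge
    exact (mem_normalizer_iff.1 (h.nj (normalizer_le_normalizer_jGen 2 _ hgS)) x).1 hxA
  have hlt : P < (S : Subgroup G) := lt_of_le_of_ne hPS hlast
  set P₂ := conjSub g P with hP₂
  have hlt₂ : P₂ < (S : Subgroup G) := lt_of_le_of_ne hgP fun e => hlast
    (Subgroup.eq_of_le_of_card_ge hPS (by rw [← e, hP₂, card_conjSub]))
  have hgt : ∀ {X Y : Subgroup G}, X < Y → Nat.card X < Nat.card Y := fun {X Y} hXY =>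
    lt_of_le_of_ne (Subgroup.card_le_of_le hXY.le) fun e => hXY.ne (Subgroup.eq_of_le_of_card_ge hXY.le e.ge)
  obtain ⟨u, huS, hufull, huN⟩ := exists_full S hPS
  set P₁ := conjSub u P with hP₁
  have hcA := hgt (lt_norm S.2 hlt)
  have hcB := hgt (lt_norm S.2 hlt₂)
  rw [hP₂, card_conjSub, ← hP₂] at hcB
  set x₁ := u * x * u⁻¹ with hx₁
  have hx₁A : x₁ ∈ A :=
    hF _ inf_le_left (by omega) u huN x ⟨hPS hxP, Subgroup.le_normalizer hxP⟩ hxA
  have hPP : conjSub (u * g⁻¹) P₂ = P₁ := by rw [hP₂, conjSub_conjSub, inv_mul_cancel_right]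
  obtain ⟨w, hw, hwN⟩ := exists_move S (X := P₂) (u := u * g⁻¹) (by rw [hPP]; exact hufull)
  rw [hPP] at hw hwN
  set m := w * g * u⁻¹ with hm
  have hmN : m ∈ normalizer (P₁ : Set G) := by
    rw [← conjSub_eq_iff_mem_normalizer, hm, hP₁, conjSub_conjSub, inv_mul_cancel_right,
      ← conjSub_conjSub, ← hP₂, ← hP₁, hw]
  set T := (S : Subgroup G) ⊓ normalizer (P₁ : Set G) with hT
  have hTn : n + 1 ≤ Nat.card T := by
    have h1 : Nat.card P₁ < Nat.card T := hgt (lt_norm S.2 (lt_of_le_of_ne huS fun e => hlast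
      (Subgroup.eq_of_le_of_card_ge hPS (by rw [← e, hP₁, card_conjSub]))))
    rw [hP₁, card_conjSub] at h1
    omega
  have hloc := hL (normalizer (P₁ : Set G)) T P₁ inf_le_left inf_le_right hufull hTn
    (le_inf huS Subgroup.le_normalizer) le_rfl hmN
  have hy := (mem_normalizer_iff.1 hloc x₁).1 ⟨hx₁A, conj_mem_conjSub hxP⟩
  have h2 := hF (conjSub w ((S : Subgroup G) ⊓ normalizer (P₂ : Set G))) (hwN.trans inf_le_left)
    (by rw [card_conjSub]; omega) w⁻¹ (by rw [conjSub_conjSub, inv_mul_cancel, conjSub_one]; exact inf_le_left)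
    (m * x₁ * m⁻¹) (by
      have h3 : g * x * g⁻¹ ∈ (S : Subgroup G) ⊓ normalizer (P₂ : Set G) :=
        ⟨hgP (conj_mem_conjSub hxP), Subgroup.le_normalizer (conj_mem_conjSub hxP)⟩
      have h4 := conj_mem_conjSub (g := w) h3
      rwa [show w * (g * x * g⁻¹) * w⁻¹ = m * x₁ * m⁻¹ by rw [hm, hx₁]; group] at h4) hy.1
  rwa [show w⁻¹ * (m * x₁ * m⁻¹) * w⁻¹⁻¹ = g * x * g⁻¹ by rw [hm, hx₁]; group] at h2

/-- `A` is strongly closed. -/
theorem Closing.stronglyClosed (h : Closing S A) : IsStronglyClosed A (S : Subgroup G) := by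
  suffices H : ∀ d n : ℕ, Nat.card ↥(S : Subgroup G) + 1 - n = d → FusionClosed S A n ∧ LocalClosed S A n by
    refine ⟨h.le, fun x hx g hg => (H _ 0 rfl).1 (zpowers x) (zpowers_le.2 (h.le hx)) (Nat.zero_le _) g
      ?_ x (mem_zpowers x) hx⟩
    unfold conjSub
    rw [MonoidHom.map_zpowers, zpowers_le]
    exact hg
  intro d
  induction d with
  | zero =>
    intro n hn
    refine ⟨fun P hP hc => ?_, fun K T Q hT _ _ hc => ?_⟩
    · have := Subgroup.card_le_of_le hP
      omega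
    · have := Subgroup.card_le_of_le hT
      omega
  | succ d ih =>
    intro n hn
    obtain ⟨hF, hL⟩ := ih (n + 1) (by omega)
    exact ⟨fusionClosed_step h hF hL, localClosed_step h hF hL⟩

end CfsgLib.SFactor
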