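import Cfsg.Agent.Lib.SFactor.Core
import Cfsg.Agent.Lib.Transfer.Sections
import Cfsg.Agent.Lib.LocalEven.PClosed

/-!
The normal closure of a subgroup with the index property.
-/

set_option autoImplicit false

namespace CfsgLib.SFactor

open Subgroup Cfsg
open scoped commutatorElement
open CfsgLib.LocalEven
open CfsgLib.PStab

universe u

variable {G : Type u} [Group G]

theorem relIndex_centralizer_conj (g : G) (A B : Subgroup G) :
    (centralizer ((A.map (MulAut.conj g).toMonoidHom : Subgroup G) : Set G)).relIndex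
      (B.map (MulAut.conj g).toMonoidHom) = (centralizer (A : Set G)).relIndex B := by
  rw [← Subgroup.relIndex_map_map_of_injective (f := (MulAut.conj g).toMonoidHom)
      (centralizer (A : Set G)) B (MulAut.conj g).injective,
    map_centralizer_of_injective _ (MulAut.conj g).injective,
    MonoidHom.range_eq_top.2 (MulAut.conj g).surjective, top_inf_eq]

theorem map_conj_inv_cancel (g : G) (A : Subgroup G) :
    (A.map (MulAut.conj g⁻¹).toMonoidHom).map (MulAut.conj g).toMonoidHom = A := by
  rw [S3Bound.map_conj_mul, mul_inv_cancel, S3Bound.map_conj_one]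

variable [Finite G]

theorem conj_le_centralizer {S : Sylow 2 G} {V : Subgroup G} (hVe : IsElementaryAbelian 2 V)
    (hI : Indexed (S : Subgroup G) V) (hVH : V ≤ pCore 2 G) (g : G) :
    V.map (MulAut.conj g).toMonoidHom ≤ centralizer (V : Set G) := by
  haveI : Fact (Nat.Prime 2) := ⟨Nat.prime_two⟩
  have hle : ∀ y : G, V.map (MulAut.conj y).toMonoidHom ≤ (S : Subgroup G) := fun y =>
    le_trans (by
      rintro _ ⟨v, hv, rfl⟩
      exact (inferInstance : (pCore 2 G).Normal).conj_mem v (hVH hv) y) (CfsgLib.Cores.pCore_le_sylow S)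
  have step : ∀ y : G, ¬ V.map (MulAut.conj y).toMonoidHom ≤ centralizer (V : Set G) →
      (centralizer (V : Set G)).relIndex (V.map (MulAut.conj y).toMonoidHom) ^ 3 <
        (centralizer (V : Set G)).relIndex (V.map (MulAut.conj y⁻¹).toMonoidHom) ^ 2 := by
    intro y hy
    have hRe : IsElementaryAbelian 2 (V.map (MulAut.conj y).toMonoidHom) := PGroup.elemAb_map hVe _
    refine (hI.index_lt (hle y) ?_ ?_ hy).trans_le (le_of_eq ?_)
    · exact commutator_le.2 fun a ha b hb => by
        rw [commutatorElement_eq_one_iff_mul_comm.2 (PGroup.elemAb_comm hRe ha hb)]; exact one_mem _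
    · exact fun a ha => by rw [hRe.2 a ha]; exact one_mem _
    · congr 1
      conv_lhs => rw [← relIndex_centralizer_conj y⁻¹, S3Bound.map_conj_mul, inv_mul_cancel, S3Bound.map_conj_one]
  by_contra hn
  have hn' : ¬ V.map (MulAut.conj g⁻¹).toMonoidHom ≤ centralizer (V : Set G) := fun h => hn (by
    rw [le_centralizer_iff]
    intro v hv
    have h1 := map_mono (f := (MulAut.conj g).toMonoidHom) h
    rw [map_conj_inv_cancel, map_centralizer_of_injective _ (MulAut.conj g).injective] at h1
    exact (h1 hv).2)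
  have h1 := step g hn
  have h2 := step g⁻¹ hn'
  rw [inv_inv] at h2
  set a := (centralizer (V : Set G)).relIndex (V.map (MulAut.conj g).toMonoidHom)
  set b := (centralizer (V : Set G)).relIndex (V.map (MulAut.conj g⁻¹).toMonoidHom)
  rcases Nat.lt_or_ge a b with hab | hab
  · rcases Nat.eq_zero_or_pos b with hb | hb
    · omega
    · have h3 := Nat.pow_le_pow_left hab.le 2
      have h4 : b ^ 2 ≤ b ^ 3 := Nat.pow_le_pow_right hb (by norm_num)
      omega
  · rcases Nat.eq_zero_or_pos a with ha | ha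
    · rw [ha] at hab h2; simp at h2
    · have h3 := Nat.pow_le_pow_left hab 2
      have h4 : a ^ 2 ≤ a ^ 3 := Nat.pow_le_pow_right ha (by norm_num)
      omega

/-- The index inequality for the normal closure. -/
theorem index_le_closure {S : Sylow 2 G} {V : Subgroup G} (hI : Indexed (S : Subgroup G) V) :
    ∀ (s : Finset G) (R : Subgroup G), R ≤ pCore 2 G →
      ⁅R, R⁆ ≤ centralizer ((s.sup fun g => V.map (MulAut.conj g).toMonoidHom : Subgroup G) : Set G) →
      (∀ r ∈ R, r ^ 2 ∈ centralizer ((s.sup fun g => V.map (MulAut.conj g).toMonoidHom : Subgroup G) : Set G)) →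
      (centralizer ((s.sup fun g => V.map (MulAut.conj g).toMonoidHom : Subgroup G) : Set G)).relIndex R ^ 3 ≤
        (centralizer (R : Set G)).relIndex (s.sup fun g => V.map (MulAut.conj g).toMonoidHom) ^ 2 := by
  classical
  haveI : Fact (Nat.Prime 2) := ⟨Nat.prime_two⟩
  intro s
  induction s using Finset.induction_on with
  | empty =>
    intro R _ _ _
    have e1 : (centralizer ((⊥ : Subgroup G) : Set G)).relIndex R = 1 :=
      Subgroup.relIndex_eq_one.2 fun x _ => mem_centralizer_iff.2 fun y hy => by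
        rw [mem_bot.1 hy, one_mul, mul_one]
    rw [Finset.sup_empty, e1, one_pow]
    exact Nat.one_le_pow _ _ (Nat.pos_of_ne_zero (Subgroup.FiniteIndex.index_ne_zero))
  | @insert g s _ ih =>
    intro R hR h1 h2
    set f : G → Subgroup G := fun g => V.map (MulAut.conj g).toMonoidHom with hf
    rw [Finset.sup_insert] at h1 h2 ⊢
    set Ws := s.sup f with hWs
    set W' := f g ⊔ Ws with hW'
    have hs : centralizer (W' : Set G) ≤ centralizer (Ws : Set G) := centralizer_le (le_sup_right : Ws ≤ W')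
    have hg : centralizer (W' : Set G) ≤ centralizer (f g : Set G) := centralizer_le (le_sup_left : f g ≤ W')
    have hIH := ih R hR (h1.trans hs) fun r hr => hs (h2 r hr)
    set R1 := R ⊓ centralizer (Ws : Set G) with hR1
    have hCW' : centralizer (W' : Set G) ⊓ R1 = centralizer (f g : Set G) ⊓ R1 := by
      refine le_antisymm (inf_le_inf_right _ hg) (le_inf ?_ inf_le_right)
      rw [le_centralizer_iff, hW']
      exact sup_le (le_centralizer_iff.1 inf_le_left)
        (le_centralizer_iff.1 (inf_le_right.trans inf_le_right))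
    have ea : (centralizer (W' : Set G)).relIndex R =
        (centralizer (f g : Set G)).relIndex R1 * (centralizer (Ws : Set G)).relIndex R := by
      have e := Subgroup.relIndex_mul_relIndex (centralizer (W' : Set G) ⊓ R) R1 R
        (le_inf inf_le_right (inf_le_left.trans hs)) inf_le_left
      rw [Subgroup.inf_relIndex_right, Subgroup.inf_relIndex_left] at e
      rw [← e]
      congr 1
      rw [← Subgroup.inf_relIndex_right (centralizer (f g : Set G)), ← hCW']
      rw [← Subgroup.inf_relIndex_right (centralizer (W' : Set G) ⊓ R), inf_assoc,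
        inf_eq_right.2 (inf_le_left : R1 ≤ R)]
    set X := centralizer (R1 : Set G) ⊓ W' with hX
    have hWsX : Ws ≤ X := le_inf (le_centralizer_iff.1 inf_le_right) le_sup_right
    have eb : (centralizer (R1 : Set G)).relIndex (f g) * (centralizer (R : Set G)).relIndex Ws ≤
        (centralizer (R : Set G)).relIndex W' := by
      have e := Subgroup.relIndex_mul_relIndex (centralizer (R : Set G) ⊓ W') X W'
        (inf_le_inf_right _ (centralizer_le inf_le_left)) inf_le_right
      rw [Subgroup.inf_relIndex_right, Subgroup.inf_relIndex_right] at e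
      rw [← e, mul_comm]
      refine Nat.mul_le_mul ?_ ?_
      · refine (Subgroup.relIndex_le_of_le_right hWsX Subgroup.FiniteIndex.index_ne_zero).trans ?_
        exact Subgroup.relIndex_le_of_le_left inf_le_left Subgroup.FiniteIndex.index_ne_zero
      · exact Subgroup.relIndex_le_of_le_right le_sup_left Subgroup.FiniteIndex.index_ne_zero
    have hVg : (centralizer (f g : Set G)).relIndex R1 ^ 3 ≤ (centralizer (R1 : Set G)).relIndex (f g) ^ 2 := by
      set Q := R1.map (MulAut.conj g⁻¹).toMonoidHom with hQ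
      have hQ1 : Q.map (MulAut.conj g).toMonoidHom = R1 := map_conj_inv_cancel g R1
      rw [← hQ1, hf]
      dsimp only
      rw [relIndex_centralizer_conj, relIndex_centralizer_conj]
      by_cases hc : Q ≤ centralizer (V : Set G)
      · rw [Subgroup.relIndex_eq_one.2 hc, one_pow]
        exact Nat.one_le_pow _ _ (Nat.pos_of_ne_zero Subgroup.FiniteIndex.index_ne_zero)
      refine (hI.index_lt ?_ ?_ ?_ hc).le
      · rintro _ ⟨x, hx, rfl⟩
        exact CfsgLib.Cores.pCore_le_sylow S
          ((inferInstance : (pCore 2 G).Normal).conj_mem x (hR hx.1) g⁻¹)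
      · have h3 : ⁅R1, R1⁆ ≤ centralizer (f g : Set G) :=
          (commutator_mono inf_le_left inf_le_left).trans (h1.trans hg)
        have h4 := map_mono (f := (MulAut.conj g⁻¹).toMonoidHom) h3
        rw [map_commutator, map_centralizer_of_injective _ (MulAut.conj g⁻¹).injective, hf] at h4
        dsimp only at h4
        rw [S3Bound.map_conj_mul, inv_mul_cancel, S3Bound.map_conj_one] at h4
        exact h4.trans inf_le_right
      · rintro _ ⟨x, hx, rfl⟩
        rw [← map_pow]
        have h4 : (MulAut.conj g⁻¹).toMonoidHom (x ^ 2) ∈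
            (centralizer (f g : Set G)).map (MulAut.conj g⁻¹).toMonoidHom := ⟨_, hg (h2 x hx.1), rfl⟩
        rw [map_centralizer_of_injective _ (MulAut.conj g⁻¹).injective, hf] at h4
        dsimp only at h4
        rw [S3Bound.map_conj_mul, inv_mul_cancel, S3Bound.map_conj_one] at h4
        exact h4.2
    rw [ea, mul_pow]
    refine (Nat.mul_le_mul hVg hIH).trans ?_
    rw [← mul_pow]
    exact Nat.pow_le_pow_left eb 2

theorem card_eq_relIndex_mul (X Y : Subgroup G) :
    Nat.card Y = X.relIndex Y * Nat.card ↥(Y ⊓ X) := by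
  have e := Subgroup.relIndex_mul_relIndex ⊥ (Y ⊓ X) Y bot_le inf_le_left
  rw [relIndex_bot_left, relIndex_bot_left, Subgroup.inf_relIndex_left] at e
  rw [← e, mul_comm]

/-- A largest elementary abelian subgroup meets a normal `W` in bounded index. -/
theorem relIndex_offender {T A W : Subgroup G} [W.Normal] (hA : A ∈ maxAdm 2 T) (hWT : W ≤ T)
    (hWe : IsElementaryAbelian 2 W) :
    (centralizer (A : Set G)).relIndex W ≤ (centralizer (W : Set G)).relIndex A := by
  obtain ⟨hAT, hAe, hmax⟩ := hA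
  set A₀ := A ⊓ centralizer (W : Set G) with hA₀
  have hE : IsElementaryAbelian 2 (A₀ ⊔ W : Subgroup G) :=
    PGroup.elemAb_sup (PGroup.elemAb_mono hAe inf_le_left) hWe
      fun a ha v hv => (mem_centralizer_iff.1 ha.2 v hv).symm
  have hcard := hmax (A₀ ⊔ W) (sup_le (inf_le_left.trans hAT) hWT) hE
  have e := Subgroup.relIndex_mul_relIndex ⊥ W (A₀ ⊔ W) bot_le le_sup_right
  rw [relIndex_bot_left, relIndex_bot_left, Subgroup.relIndex_sup_right] at e
  have hA₀c : Nat.card A₀ = W.relIndex A₀ * Nat.card ↥(A₀ ⊓ W) := card_eq_relIndex_mul W A₀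
  have hWc : Nat.card W = (centralizer (A : Set G)).relIndex W * Nat.card ↥(W ⊓ centralizer (A : Set G)) :=
    card_eq_relIndex_mul _ W
  have hAc : Nat.card A = (centralizer (W : Set G)).relIndex A * Nat.card A₀ := card_eq_relIndex_mul _ A
  have hm : Nat.card ↥(A₀ ⊓ W) ≤ Nat.card ↥(W ⊓ centralizer (A : Set G)) :=
    Subgroup.card_le_of_le (le_inf inf_le_right fun z hz => mem_centralizer_iff.2 fun a ha =>
      PGroup.elemAb_comm hAe ha hz.1.1)
  rw [← e, hWc, hAc, hA₀c] at hcard
  have h0 : 0 < W.relIndex A₀ := Nat.pos_of_ne_zero Subgroup.FiniteIndex.index_ne_zero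
  refine Nat.le_of_mul_le_mul_right ?_
    (Nat.mul_pos h0 (Nat.card_pos : 0 < Nat.card ↥(W ⊓ centralizer (A : Set G))))
  calc _ = (centralizer (A : Set G)).relIndex W * Nat.card ↥(W ⊓ centralizer (A : Set G)) * W.relIndex A₀ := by ring
    _ ≤ _ := hcard
    _ ≤ (centralizer (W : Set G)).relIndex A * (W.relIndex A₀ * Nat.card ↥(W ⊓ centralizer (A : Set G))) :=
      Nat.mul_le_mul_left _ (Nat.mul_le_mul_left _ hm)

theorem exists_minimal_between {L U : Subgroup G} (hU : U.Normal) (hLU : L < U) :
    ∃ F : Subgroup G, F.Normal ∧ L < F ∧ F ≤ U ∧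
      ∀ F' : Subgroup G, F'.Normal → L ≤ F' → F' ≤ F → F' = L ∨ F' = F := by
  obtain ⟨F, hF, hmin⟩ := Set.Finite.exists_minimal (s := {F : Subgroup G | F.Normal ∧ L < F ∧ F ≤ U})
    (Set.toFinite _) ⟨U, hU, hLU, le_rfl⟩
  refine ⟨F, hF.1, hF.2.1, hF.2.2, fun F' hn h1 h2 => ?_⟩
  rcases eq_or_lt_of_le h1 with h | h
  · exact Or.inl h.symm
  · exact Or.inr (le_antisymm h2 (hmin ⟨hn, h, h2.trans hF.2.2⟩ h2))

theorem exists_fixed (S : Sylow 2 G) {U : Subgroup G} [U.Normal] (hU : IsPGroup 2 U) (hne : U ≠ ⊥) :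
    ∃ u ∈ U, u ≠ 1 ∧ u ∈ centralizer ((S : Subgroup G) : Set G) := by
  haveI : Fact (Nat.Prime 2) := ⟨Nat.prime_two⟩
  have hUS : U ≤ (S : Subgroup G) := (CfsgLib.Cores.le_pCore hU).trans (CfsgLib.Cores.pCore_le_sylow S)
  have h1 := PGroup.inf_center_ne_bot S.2 (U.subgroupOf (S : Subgroup G)) fun hb => hne (by
    rw [subgroupOf_eq_bot] at hb
    exact disjoint_self.1 (hb.mono_right hUS))
  obtain ⟨⟨u, hu⟩, hu1⟩ := Subgroup.ne_bot_iff_exists_ne_one.1 h1
  exact ⟨(u : G), hu.1, fun h => hu1 (Subtype.ext (Subtype.ext h)),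
    mem_centralizer_iff.2 fun s hs => congrArg Subtype.val (mem_center_iff.1 hu.2 ⟨s, hs⟩)⟩

/-- `O₂` of the group induced on a chief factor inside a `2`-group is trivial. -/
theorem pCore_chief (S : Sylow 2 G) {U : Subgroup G} [U.Normal] (hU : IsPGroup 2 U) (hne : U ≠ ⊥)
    (hmin : ∀ U' : Subgroup G, U'.Normal → U' ≤ U → U' = ⊥ ∨ U' = U) :
    pCore 2 (G ⧸ centralizer (U : Set G)) = ⊥ := by
  haveI : Fact (Nat.Prime 2) := ⟨Nat.prime_two⟩
  refine Transfer.pCore_quotient_centralizer_eq_bot U fun D hD hle hk => ?_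
  haveI := hD
  refine Transfer.eq_centralizer_of_iSup D (fun S' => U ⊓ centralizer ((S' : Subgroup G) : Set G))
    (fun S' => inf_le_right) ?_ hle hk
  set V' := ⨆ S' : Sylow 2 G, U ⊓ centralizer ((S' : Subgroup G) : Set G) with hV'
  have hn : V'.Normal := by
    refine ⟨fun x hx g => ?_⟩
    have hle' : V' ≤ V'.comap (MulAut.conj g).toMonoidHom := iSup_le fun S' y hy =>
      mem_iSup_of_mem (g • S') ⟨(inferInstance : U.Normal).conj_mem y hy.1 g, mem_centralizer_iff.2 fun s hs => by
        rw [Sylow.coe_subgroup_smul] at hs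
        obtain ⟨s', hs', rfl⟩ := hs
        show g * s' * g⁻¹ * (g * y * g⁻¹) = g * y * g⁻¹ * (g * s' * g⁻¹)
        have := mem_centralizer_iff.1 hy.2 s' hs'
        calc g * s' * g⁻¹ * (g * y * g⁻¹) = g * (s' * y) * g⁻¹ := by group
          _ = g * (y * s') * g⁻¹ := by rw [this]
          _ = _ := by group⟩
    exact hle' hx
  rcases hmin V' hn (iSup_le fun _ => inf_le_left) with h | h
  · obtain ⟨u, hu, hu1, huc⟩ := exists_fixed S hU hne
    exact absurd (mem_bot.1 (h ▸ mem_iSup_of_mem S ⟨hu, huc⟩)) hu1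
  · exact h.symm

theorem comm_mem_of_coprime {J : Subgroup G} [J.Normal] {z : G}
    (h : ∀ n : G, (orderOf n).Coprime 2 → ⁅n, z⁆ ∈ J) : ∀ n ∈ pResidual 2 G, ⁅n, z⁆ ∈ J := by
  set π := QuotientGroup.mk' J with hπ
  have hiff : ∀ n, ⁅n, z⁆ ∈ J ↔ n ∈ (centralizer ({π z} : Set (G ⧸ J))).comap π := fun n => by
    rw [mem_comap, mem_centralizer_singleton_iff, ← commutatorElement_eq_one_iff_mul_comm,
      ← map_commutatorElement]
    exact (QuotientGroup.eq_one_iff _).symm
  intro n hn
  refine (hiff n).2 ((Subgroup.closure_le _).2 (fun m hm => (hiff m).1 (h m hm)) hn)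

/-- A commutator with an element of odd order that is fixed by it vanishes in exponent two. -/
theorem coprime_step {J M : Subgroup G} [J.Normal] (hM : ∀ m ∈ M, m ^ 2 ∈ J) {n z : G}
    (hn : (orderOf n).Coprime 2) (hd : ⁅n, z⁆ ∈ M) (hc : ⁅n, ⁅n, z⁆⁆ ∈ J) : ⁅n, z⁆ ∈ J := by
  set π := QuotientGroup.mk' J with hπ
  have h1 := exists_coprime_fixed (M := M.map π) (x := π n) (m := π z) (d := π ⁅n, z⁆)
    (by rintro _ ⟨m, hm, rfl⟩; rw [← map_pow]; exact (QuotientGroup.eq_one_iff _).2 (hM m hm))
    ⟨_, hd, rfl⟩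
    (Nat.coprime_two_right.1 (hn.coprime_dvd_left (orderOf_map_dvd π n)))
    (by rw [← commutatorElement_eq_one_iff_mul_comm, ← map_commutatorElement]; exact (QuotientGroup.eq_one_iff _).2 hc)
    (by rw [← map_inv, ← map_mul, ← map_mul, ← map_mul, commutatorElement_def, inv_mul_cancel_right])
  exact (QuotientGroup.eq_one_iff _).1 h1

end CfsgLib.SFactor
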