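import Cfsg.Agent.Lib.SFactor.Closure

/-!
The normal closure of a witness is the witness itself, or the Thompson subgroup is normal.
-/

set_option autoImplicit false

namespace CfsgLib.SFactor

open Subgroup Cfsg
open scoped commutatorElement
open CfsgLib.LocalEven
open CfsgLib.PStab

universe u

variable {G : Type u} [Group G] [Finite G]

theorem comm_mem_iff {J : Subgroup G} [J.Normal] {a b : G} :
    ⁅a, b⁆ ∈ J ↔ QuotientGroup.mk' J a * QuotientGroup.mk' J b =
      QuotientGroup.mk' J b * QuotientGroup.mk' J a := by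
  rw [← commutatorElement_eq_one_iff_mul_comm, ← map_commutatorElement]
  exact (QuotientGroup.eq_one_iff _).symm

/-- On a chief factor inside `W` that `O²(G)` does not centralise a witness acts with the squared index. -/
theorem chief_bound (h : Hyp G) (S : Sylow 2 G) {W A : Subgroup G}
    (hWe : IsElementaryAbelian 2 W) (hAS : A ≤ (S : Subgroup G)) (hAe : IsElementaryAbelian 2 A)
    (hstar : ∀ D : Subgroup G, D.Normal → D ⊔ (S : Subgroup G) = ⊤ ∨ ((S : Subgroup G) ⊓ D).Normal)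
    {L U : Subgroup G} [L.Normal] [U.Normal] (hLU : L < U) (hUW : U ≤ W)
    (hmin : ∀ F' : Subgroup G, F'.Normal → L ≤ F' → F' ≤ U → F' = L ∨ F' = U) :
    (∀ z ∈ pCore 2 G, ∀ u ∈ U, ⁅z, u⁆ ∈ L) ∧ ((∃ n ∈ pResidual 2 G, ∃ u ∈ U, ⁅n, u⁆ ∉ L) →
      (pCore 2 G).relIndex A ^ 2 * (centralizer (A : Set G)).relIndex L ≤
        (centralizer (A : Set G)).relIndex U) := by
  haveI : Fact (Nat.Prime 2) := ⟨Nat.prime_two⟩
  set π := QuotientGroup.mk' L with hπ
  have hπs := QuotientGroup.mk'_surjective L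
  set U' := U.map π with hU'
  haveI hU'n : U'.Normal := (inferInstance : U.Normal).map π hπs
  have hU'e : IsElementaryAbelian 2 U' := PGroup.elemAb_map (PGroup.elemAb_mono hWe hUW) π
  have hne : U' ≠ ⊥ := fun hb => hLU.not_ge (by
    rwa [Subgroup.map_eq_bot_iff, QuotientGroup.ker_mk'] at hb)
  have hO : pCore 2 ((G ⧸ L) ⧸ centralizer (U' : Set (G ⧸ L))) = ⊥ := by
    refine pCore_chief (S.mapSurjective hπs) (PGroup.elemAb_isPGroup hU'e) hne fun F hF hFU => ?_
    have h2 : F.comap π ≤ U := by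
      refine (comap_mono hFU).trans ?_
      rw [hU', Subgroup.comap_map_eq, QuotientGroup.ker_mk', sup_eq_left.2 hLU.le]
    have h1 : L ≤ F.comap π := fun x hx => by
      show π x ∈ F
      rw [show π x = 1 from (QuotientGroup.eq_one_iff x).2 hx]; exact one_mem _
    rcases hmin (F.comap π) (hF.comap π) h1 h2 with e | e
    · left
      rw [← map_comap_eq_self_of_surjective hπs F, e, Subgroup.map_eq_bot_iff, QuotientGroup.ker_mk']
    · right
      rw [← map_comap_eq_self_of_surjective hπs F, e]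
  set C' := centralizer (U' : Set (G ⧸ L)) with hC'
  set K := C'.comap π with hK
  have hmemK : ∀ {z : G}, z ∈ K ↔ ∀ u ∈ U, ⁅z, u⁆ ∈ L := by
    intro z
    rw [hK, mem_comap, hC', mem_centralizer_iff]
    refine ⟨fun hz u hu => comm_mem_iff.2 (hz _ ⟨u, hu, rfl⟩).symm, fun hz => ?_⟩
    rintro _ ⟨u, hu, rfl⟩
    exact (comm_mem_iff.1 (hz u hu)).symm
  have hHK : pCore 2 G ≤ K := by
    have h1 : ((pCore 2 G).map π).map (QuotientGroup.mk' C') ≤ ⊥ := by
      rw [← hO]
      refine le_trans ?_ (CfsgLib.Cores.map_pCore_le _ (QuotientGroup.mk'_surjective C'))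
      exact map_mono (CfsgLib.Cores.map_pCore_le π hπs)
    rw [le_bot_iff, Subgroup.map_eq_bot_iff, QuotientGroup.ker_mk', map_le_iff_le_comap] at h1
    exact h1
  refine ⟨fun z hz => hmemK.1 (hHK hz), ?_⟩
  rintro ⟨n, hn, u, hu, hnu⟩
  have hnK : K ⊔ (S : Subgroup G) ≠ ⊤ := fun ht =>
    hnu (hmemK.1 (PClosed.pResidual_le_of_sup_eq_top S.2 ht hn) u hu)
  have hSK : (S : Subgroup G) ⊓ K ≤ pCore 2 G := by
    haveI := (hstar K inferInstance).resolve_left hnK
    exact CfsgLib.Cores.le_pCore (S.2.to_le inf_le_left)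
  have hKA : K.relIndex A = (pCore 2 G).relIndex A := by
    rw [← Subgroup.inf_relIndex_left A K, ← Subgroup.inf_relIndex_left A (pCore 2 G)]
    congr 1
    exact le_antisymm (le_inf inf_le_left ((inf_le_inf_right K hAS).trans hSK)) (inf_le_inf_left A hHK)
  set R := A.map π with hR
  have hRe : IsElementaryAbelian 2 R := PGroup.elemAb_map hAe π
  obtain ⟨hb, -⟩ := bound (fun hi => h.free (Offender.involves_of_surjective π hπs hi)) (h.comp.of_surjective π hπs)
    hU'e (C := C') rfl hO (R := R)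
    (commutator_le.2 fun a ha b hb => by
      rw [commutatorElement_eq_one_iff_mul_comm.2 (PGroup.elemAb_comm hRe ha hb)]; exact one_mem _)
    (fun a ha => by rw [hRe.2 a ha]; exact one_mem _)
  rw [card_eq_relIndex_mul C' R, card_eq_relIndex_mul (centralizer (R : Set (G ⧸ L))) U'] at hb
  have hb2 : C'.relIndex R ^ 2 ≤ (centralizer (R : Set (G ⧸ L))).relIndex U' := by
    refine Nat.le_of_mul_le_mul_right ?_ (Nat.mul_pos (pow_pos (Nat.card_pos (α := ↥(R ⊓ C'))) 2)
      (Nat.card_pos (α := ↥(U' ⊓ centralizer (R : Set (G ⧸ L))))))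
    calc _ = (C'.relIndex R * Nat.card ↥(R ⊓ C')) ^ 2 * Nat.card ↥(U' ⊓ centralizer (R : Set (G ⧸ L))) := by ring
      _ ≤ _ := hb
      _ = _ := by ring
  rw [← Subgroup.relIndex_comap, ← hK, hKA, ← Subgroup.relIndex_comap] at hb2
  set CR := (centralizer (R : Set (G ⧸ L))).comap π with hCR
  have hle : centralizer (A : Set G) ⊓ U ≤ CR ⊓ U := inf_le_inf_right U fun x hx => by
    rw [hCR, mem_comap, mem_centralizer_iff]
    rintro _ ⟨a, ha, rfl⟩
    rw [← map_mul, ← map_mul, mem_centralizer_iff.1 hx a ha]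
  have e := Subgroup.relIndex_mul_relIndex (centralizer (A : Set G) ⊓ U) (CR ⊓ U) U hle inf_le_right
  rw [Subgroup.inf_relIndex_right, Subgroup.inf_relIndex_right] at e
  rw [← e, mul_comm]
  refine Nat.mul_le_mul ?_ hb2
  have hLX : L ≤ CR ⊓ U := le_inf (fun x hx => by
    rw [hCR, mem_comap, show π x = 1 from (QuotientGroup.eq_one_iff x).2 hx]; exact one_mem _) hLU.le
  exact (Subgroup.relIndex_le_of_le_right hLX Subgroup.FiniteIndex.index_ne_zero).trans
    (Subgroup.relIndex_le_of_le_left inf_le_left Subgroup.FiniteIndex.index_ne_zero)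

/-- The elements of `W` centralised by `O²(G)` modulo `L`. -/
theorem exists_fixMod {W : Subgroup G} [W.Normal] (hWe : IsElementaryAbelian 2 W) (L : Subgroup G) [L.Normal] :
    ∃ Z : Subgroup G, Z.Normal ∧ (∀ w, w ∈ Z ↔ w ∈ W ∧ ∀ n ∈ pResidual 2 G, ⁅n, w⁆ ∈ L) ∧
      ∀ w ∈ W, (∀ n ∈ pResidual 2 G, ⁅n, w⁆ ∈ Z) → w ∈ Z := by
  set π := QuotientGroup.mk' L with hπ
  haveI : ((pResidual 2 G).map π).Normal :=
    (inferInstance : (pResidual 2 G).Normal).map π (QuotientGroup.mk'_surjective L)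
  set Z := W ⊓ (centralizer (((pResidual 2 G).map π : Subgroup (G ⧸ L)) : Set (G ⧸ L))).comap π with hZ
  have hmem : ∀ w, w ∈ Z ↔ w ∈ W ∧ ∀ n ∈ pResidual 2 G, ⁅n, w⁆ ∈ L := by
    intro w
    rw [hZ, mem_inf, mem_comap, mem_centralizer_iff]
    refine and_congr_right fun _ => ⟨fun hw n hn => comm_mem_iff.2 (hw _ ⟨n, hn, rfl⟩), fun hw => ?_⟩
    rintro _ ⟨n, hn, rfl⟩
    exact comm_mem_iff.1 (hw n hn)
  refine ⟨Z, inferInstance, hmem, fun w hw hall => (hmem w).2 ⟨hw, comm_mem_of_coprime fun n hn => ?_⟩⟩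
  have hn' := Transfer.mem_pResidual_of_coprime hn
  have hd := hall n hn'
  exact coprime_step (M := W) (fun m hm => by rw [hWe.2 m hm]; exact one_mem _) hn ((hmem _).1 hd).1
    (((hmem _).1 hd).2 n hn')

set_option maxHeartbeats 1600000 in
/-- A witness is normal with `G = C(V) S`, or the Thompson subgroup is normal. -/
theorem closure_case (h : Hyp G) (S : Sylow 2 G) {V : Subgroup G} (hVS : V ≤ (S : Subgroup G))
    (hSV : (S : Subgroup G) ≤ normalizer (V : Set G)) (hVe : IsElementaryAbelian 2 V)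
    (hI : Indexed (S : Subgroup G) V)
    (hstar : ∀ D : Subgroup G, D.Normal → D ⊔ (S : Subgroup G) = ⊤ ∨ ((S : Subgroup G) ⊓ D).Normal) :
    (V.Normal ∧ centralizer (V : Set G) ⊔ (S : Subgroup G) = ⊤) ∨
      normalizer (jGen 2 (S : Subgroup G) : Set G) = ⊤ := by
  classical
  haveI : Fact (Nat.Prime 2) := ⟨Nat.prime_two⟩
  haveI := Fintype.ofFinite G
  set H := pCore 2 G with hH
  have hVH : V ≤ H := le_pCore_of_indexed h S hVS hSV hVe hI
  have hHS : H ≤ (S : Subgroup G) := CfsgLib.Cores.pCore_le_sylow S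
  set f : G → Subgroup G := fun g => V.map (MulAut.conj g).toMonoidHom with hf
  set W := Finset.univ.sup f with hW
  have hfW : ∀ g, f g ≤ W := fun g => Finset.le_sup (Finset.mem_univ g)
  have hVW : V ≤ W := le_trans (le_of_eq (S3Bound.map_conj_one V).symm) (hfW 1)
  have hWH : W ≤ H := Finset.sup_le fun g _ => by
    rintro _ ⟨v, hv, rfl⟩
    exact (inferInstance : H.Normal).conj_mem v (hVH hv) g
  haveI hWn : W.Normal := by
    refine ⟨fun x hx g => ?_⟩
    have hle : W ≤ W.comap (MulAut.conj g).toMonoidHom := Finset.sup_le fun g' _ => by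
      rw [← map_le_iff_le_comap, hf, S3Bound.map_conj_mul]; exact hfW (g * g')
    exact hle hx
  have hWW : W ≤ centralizer (W : Set G) := by
    refine Finset.sup_le fun g _ => ?_
    rw [le_centralizer_iff]
    refine Finset.sup_le fun g' _ => ?_
    have h1 := map_mono (f := (MulAut.conj g).toMonoidHom) (conj_le_centralizer hVe hI hVH (g⁻¹ * g'))
    rw [map_centralizer_of_injective _ (MulAut.conj g).injective, S3Bound.map_conj_mul,
      mul_inv_cancel_left] at h1
    exact h1.trans inf_le_right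
  have hWc : ∀ a ∈ W, ∀ b ∈ W, a * b = b * a := fun a ha b hb => mem_centralizer_iff.1 (hWW hb) a ha
  have hWe : IsElementaryAbelian 2 W := by
    refine PGroup.isElementaryAbelian_mk hWc fun w hw => ?_
    let P : Subgroup G :=
      { carrier := {w | w ∈ W ∧ w ^ 2 = 1}
        one_mem' := ⟨one_mem _, one_pow _⟩
        mul_mem' := fun {a b} ha hb => ⟨mul_mem ha.1 hb.1, by
          rw [(show Commute a b from hWc a ha.1 b hb.1).mul_pow, ha.2, hb.2, one_mul]⟩
        inv_mem' := fun {a} ha => ⟨inv_mem ha.1, by rw [inv_pow, ha.2, inv_one]⟩ }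
    have : W ≤ P := Finset.sup_le fun g _ x hx => ⟨hfW g hx, (PGroup.elemAb_map hVe _).2 x hx⟩
    exact (this hw).2
  set C := centralizer (W : Set G) with hC
  by_cases hCS : C ⊔ (S : Subgroup G) = ⊤
  · left
    have hVn : V.Normal := by
      refine ⟨fun x hx g => ?_⟩
      have hg : g ∈ C ⊔ (S : Subgroup G) := hCS ▸ mem_top g
      obtain ⟨c, hc, s, hs, rfl⟩ := mem_sup_of_normal_left.1 hg
      have h1 : s * x * s⁻¹ ∈ V := (mem_normalizer_iff.1 (hSV hs) x).1 hx
      have h2 : c * (s * x * s⁻¹) * c⁻¹ = s * x * s⁻¹ := by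
        rw [← mem_centralizer_iff.1 hc _ (hVW h1), mul_inv_cancel_right]
      have h3 : c * s * x * (c * s)⁻¹ = c * (s * x * s⁻¹) * c⁻¹ := by group
      rw [h3, h2]; exact h1
    exact ⟨hVn, top_le_iff.1 (hCS.ge.trans (sup_le_sup_right (centralizer_le hVW) _))⟩
  right
  have hCH : (S : Subgroup G) ⊓ C ≤ H := by
    haveI := (hstar C inferInstance).resolve_left hCS
    exact CfsgLib.Cores.le_pCore (S.2.to_le inf_le_left)
  set N := pResidual 2 G with hN
  have hNS : N ⊔ (S : Subgroup G) = ⊤ := Transfer.pResidual_sup_sylow S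
  have hNC : ¬ N ≤ C := fun hle => hCS (top_le_iff.1 (hNS.ge.trans (sup_le_sup_right hle _)))
  by_cases hAll : ∀ A ∈ maxAdm 2 (S : Subgroup G), A ≤ H
  · have hJ : jGen 2 (S : Subgroup G) ≤ H := sSup_le hAll
    rw [eq_top_iff, ← jGen_eq_of_le hHS hJ]
    refine le_trans ?_ (normalizer_le_normalizer_jGen 2 H)
    rw [normalizer_eq_top_iff.2 (inferInstance : H.Normal)]
  exfalso
  push Not at hAll
  obtain ⟨A, hA, hAH⟩ := hAll
  have hAS : A ≤ (S : Subgroup G) := hA.1
  have hAe : IsElementaryAbelian 2 A := hA.2.1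
  have hAV : A ≤ centralizer (V : Set G) := (maxAdm_le_centralizer hVS hVe hI hA).1
  set c := H.relIndex A with hc
  have hc1 : 2 ≤ c := by
    have h0 : c ≠ 0 := Subgroup.FiniteIndex.index_ne_zero
    have h1 : c ≠ 1 := fun e => hAH (Subgroup.relIndex_eq_one.1 e)
    omega
  set A₁ := A ⊓ H with hA₁
  set I := (centralizer (A : Set G)).relIndex W with hIdef
  set hh := C.relIndex A₁ with hhdef
  have hI0 : I ≤ c * hh := by
    refine (relIndex_offender hA (hWH.trans hHS) hWe).trans (le_of_eq ?_)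
    have e := Subgroup.relIndex_mul_relIndex (A ⊓ C) A₁ A
      (le_inf inf_le_left ((inf_le_inf_right C hAS).trans hCH)) inf_le_left
    rw [Subgroup.inf_relIndex_left, Subgroup.inf_relIndex_left] at e
    rw [← e, mul_comm, hhdef]
    congr 1
    rw [← Subgroup.inf_relIndex_right (A ⊓ C) A₁, ← Subgroup.inf_relIndex_right C A₁]
    congr 1
    exact le_antisymm (inf_le_inf_right _ inf_le_right)
      (le_inf (le_inf (inf_le_right.trans inf_le_left) inf_le_left) inf_le_right)
  have hprop : ∀ R : Subgroup G, R ≤ H → ⁅R, R⁆ ≤ C → (∀ r ∈ R, r ^ 2 ∈ C) →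
      C.relIndex R ^ 3 ≤ (centralizer (R : Set G)).relIndex W ^ 2 := fun R h1 h2 h3 =>
    index_le_closure hI Finset.univ R h1 h2 h3
  have hhh : hh ^ 3 ≤ I ^ 2 := by
    refine (hprop A₁ inf_le_right ?_ fun a ha => ?_).trans (Nat.pow_le_pow_left ?_ 2)
    · exact commutator_le.2 fun a ha b hb => by
        rw [commutatorElement_eq_one_iff_mul_comm.2 (PGroup.elemAb_comm hAe ha.1 hb.1)]; exact one_mem _
    · rw [hAe.2 a ha.1]; exact one_mem _
    · exact Subgroup.relIndex_le_of_le_left (centralizer_le (inf_le_left : A₁ ≤ A))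
        Subgroup.FiniteIndex.index_ne_zero
  -- the fixed points of `O²(G)`
  obtain ⟨Z, hZn, hZmem, hZfix⟩ := exists_fixMod hWe (⊥ : Subgroup G)
  haveI := hZn
  have hZW : Z ≤ W := fun z hz => ((hZmem z).1 hz).1
  have hNZ : ∀ n ∈ N, ∀ z ∈ Z, n * z = z * n := fun n hn z hz =>
    commutatorElement_eq_one_iff_mul_comm.1 (mem_bot.1 (((hZmem z).1 hz).2 n hn))
  have hZne : Z < W := by
    refine lt_of_le_of_ne hZW fun e => hNC fun n hn => mem_centralizer_iff.2 fun w hw => ?_
    exact (hNZ n hn w (e ▸ hw)).symm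
  -- above a minimal normal subgroup `F` over `Z`, `O²(G)` acts trivially
  have hfac : ∀ F : Subgroup G, F.Normal → Z < F → F ≤ W →
      (∀ F' : Subgroup G, F'.Normal → Z ≤ F' → F' ≤ F → F' = Z ∨ F' = F) →
      (∀ n ∈ N, ∀ w ∈ W, ⁅n, w⁆ ∈ F) ∧ c ^ 2 ≤ I := by
    intro F hFn hZF hFW hmin
    haveI := hFn
    have hF1 : ∃ n ∈ N, ∃ u ∈ F, ⁅n, u⁆ ∉ Z := by
      by_contra hcon
      push Not at hcon
      exact hZF.not_ge fun u hu => hZfix u (hFW hu) fun n hn => hcon n hn u hu
    have hb1 := (chief_bound h S hWe hAS hAe hstar hZF hFW hmin).2 hF1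
    have hZ1 : 1 ≤ (centralizer (A : Set G)).relIndex Z :=
      Nat.pos_of_ne_zero Subgroup.FiniteIndex.index_ne_zero
    have hc2 : c ^ 2 ≤ (centralizer (A : Set G)).relIndex F :=
      le_trans (Nat.le_mul_of_pos_right _ hZ1) hb1
    refine ⟨?_, hc2.trans (Subgroup.relIndex_le_of_le_right hFW Subgroup.FiniteIndex.index_ne_zero)⟩
    obtain ⟨Z₁, hZ₁n, hZ₁mem, hZ₁fix⟩ := exists_fixMod hWe F
    haveI := hZ₁n
    by_contra hcon
    push Not at hcon
    obtain ⟨n₀, hn₀, w₀, hw₀, hnw⟩ := hcon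
    have hFZ₁ : F ≤ Z₁ := fun u hu => (hZ₁mem u).2 ⟨hFW hu, fun n hn =>
      mul_mem (hFn.conj_mem u hu n) (inv_mem hu)⟩
    have hZ₁W : Z₁ < W := lt_of_le_of_ne (fun z hz => ((hZ₁mem z).1 hz).1)
      fun e => hnw (((hZ₁mem w₀).1 (e ▸ hw₀)).2 n₀ hn₀)
    obtain ⟨F₁, hF₁n, hlt, hF₁W, hmin₁⟩ := exists_minimal_between hWn hZ₁W
    haveI := hF₁n
    have hF2 : ∃ n ∈ N, ∃ u ∈ F₁, ⁅n, u⁆ ∉ Z₁ := by
      by_contra hcon
      push Not at hcon
      exact hlt.not_ge fun u hu => hZ₁fix u (hF₁W hu) fun n hn => hcon n hn u hu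
    have hb2 := (chief_bound h S hWe hAS hAe hstar hlt hF₁W hmin₁).2 hF2
    have h4 : c ^ 4 ≤ I := by
      calc c ^ 4 = c ^ 2 * c ^ 2 := by ring
        _ ≤ c ^ 2 * (centralizer (A : Set G)).relIndex Z₁ := Nat.mul_le_mul_left _
          (hc2.trans (Subgroup.relIndex_le_of_le_right hFZ₁ Subgroup.FiniteIndex.index_ne_zero))
        _ ≤ _ := hb2
        _ ≤ I := Subgroup.relIndex_le_of_le_right hF₁W Subgroup.FiniteIndex.index_ne_zero
    have h5 : I ^ 3 ≤ c ^ 3 * I ^ 2 := by
      refine (Nat.pow_le_pow_left hI0 3).trans ?_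
      rw [mul_pow]
      exact Nat.mul_le_mul_left _ hhh
    have hIpos : 0 < I := lt_of_lt_of_le (by positivity) h4
    have h6 : I ≤ c ^ 3 := Nat.le_of_mul_le_mul_right (by rw [← pow_succ']; exact h5) (pow_pos hIpos 2)
    have h7 : c ^ 3 < c ^ 4 := Nat.pow_lt_pow_right hc1 (by norm_num)
    omega
  obtain ⟨F₀, hF₀n, hZF, hFW, hFmin⟩ := exists_minimal_between hWn hZne
  haveI := hF₀n
  obtain ⟨hNW, hcI⟩ := hfac F₀ hF₀n hZF hFW hFmin
  -- `W` is generated by `V` and the commutators with `O²(G)`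
  have hgen : ∀ Q : Subgroup G, V ≤ Q → (∀ n ∈ N, ∀ w ∈ W, ⁅n, w⁆ ∈ Q) → W ≤ Q := by
    intro Q hVQ hNQ
    refine Finset.sup_le fun g _ => ?_
    rintro _ ⟨v, hv, rfl⟩
    obtain ⟨n, hn, s, hs, rfl⟩ := mem_sup_of_normal_left.1 (hNS ▸ mem_top g : g ∈ N ⊔ (S : Subgroup G))
    have h1 : s * v * s⁻¹ ∈ V := (mem_normalizer_iff.1 (hSV hs) v).1 hv
    have h2 : n * s * v * (n * s)⁻¹ = ⁅n, s * v * s⁻¹⁆ * (s * v * s⁻¹) := by
      rw [commutatorElement_def]; group
    show n * s * v * (n * s)⁻¹ ∈ Q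
    rw [h2]
    exact mul_mem (hNQ n hn _ (hVW h1)) (hVQ h1)
  -- an element of `A ⊓ H` moving `W`
  obtain ⟨z, hzA, hzC⟩ : ∃ z ∈ A₁, z ∉ C := by
    by_contra hcon
    push Not at hcon
    have e1 : hh = 1 := Subgroup.relIndex_eq_one.2 hcon
    rw [e1, mul_one] at hI0
    nlinarith
  have hzW : ∀ w ∈ W, ⁅z, w⁆ ∈ Z := by
    have hF := (chief_bound h S hWe hAS hAe hstar hZF hFW hFmin).1 z hzA.2
    set π := QuotientGroup.mk' Z
    have hle : W ≤ (centralizer ({π z} : Set (G ⧸ Z))).comap π := by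
      refine hgen _ (fun v hv => mem_comap.2 (mem_centralizer_singleton_iff.2 ?_))
        fun n hn w hw => mem_comap.2 (mem_centralizer_singleton_iff.2 (comm_mem_iff.1 (hF _ (hNW n hn w hw))).symm)
      rw [← map_mul, ← map_mul, mem_centralizer_iff.1 (hAV hzA.1) v hv]
    exact fun w hw => comm_mem_iff.2 (mem_centralizer_singleton_iff.1 (mem_comap.1 (hle hw))).symm
  -- `K₁`, the elements of `H` centralising `W/Z` and `Z`
  set π := QuotientGroup.mk' Z with hπ
  haveI hWπ : (W.map π).Normal := hWn.map π (QuotientGroup.mk'_surjective Z)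
  set CW := (centralizer ((W.map π : Subgroup (G ⧸ Z)) : Set (G ⧸ Z))).comap π with hCW
  set K₁ := H ⊓ CW ⊓ centralizer (Z : Set G) with hK₁
  have hKW : ∀ k ∈ K₁, ∀ w ∈ W, ⁅k, w⁆ ∈ Z := fun k hk w hw =>
    comm_mem_iff.2 (mem_centralizer_iff.1 (mem_comap.1 hk.1.2) _ ⟨w, hw, rfl⟩).symm
  have hKact : ∀ k ∈ K₁, ∀ w ∈ W, ∀ ζ ∈ Z, k * (ζ * w) * k⁻¹ = (⁅k, w⁆ * ζ) * w := by
    intro k hk w hw ζ hζ
    have h1 : k * ζ = ζ * k := (mem_centralizer_iff.1 hk.2 ζ hζ).symm
    have h2 : ζ * ⁅k, w⁆ = ⁅k, w⁆ * ζ := hWc _ (hZW hζ) _ (hZW (hKW k hk w hw))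
    calc k * (ζ * w) * k⁻¹ = (k * ζ) * w * k⁻¹ := by group
      _ = ζ * ⁅k, w⁆ * w := by rw [h1, commutatorElement_def]; group
      _ = _ := by rw [h2]
  have hKC : ∀ k ∈ K₁, ∀ l ∈ K₁, ⁅k, l⁆ ∈ C := by
    intro k hk l hl
    have h6 : k⁻¹ * l⁻¹ * k * l ∈ C := by
      refine mem_centralizer_iff.2 fun w (hw : w ∈ W) => ?_
      have e1 : l * w * l⁻¹ = ⁅l, w⁆ * w := by rw [commutatorElement_def]; group
      have e2 : k * w * k⁻¹ = ⁅k, w⁆ * w := by rw [commutatorElement_def]; group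
      have hkl : k * (l * w * l⁻¹) * k⁻¹ = l * (k * w * k⁻¹) * l⁻¹ := by
        rw [e1, e2, hKact k hk w hw _ (hKW l hl w hw), hKact l hl w hw _ (hKW k hk w hw),
          hWc _ (hZW (hKW k hk w hw)) _ (hZW (hKW l hl w hw))]
      have h4 : k⁻¹ * l⁻¹ * k * l * w * (k⁻¹ * l⁻¹ * k * l)⁻¹ = w := by
        calc _ = k⁻¹ * l⁻¹ * (k * (l * w * l⁻¹) * k⁻¹) * (l * k) := by group
          _ = w := by rw [hkl]; group
      exact (mul_inv_eq_iff_eq_mul.1 h4).symm
    have h7 := (inferInstance : C.Normal).conj_mem _ h6 (k * l)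
    have h5 : ⁅k, l⁆ = (k * l) * (k⁻¹ * l⁻¹ * k * l) * (k * l)⁻¹ := by rw [commutatorElement_def]; group
    rw [h5]; exact h7
  have hKsq : ∀ k ∈ K₁, k ^ 2 ∈ C := by
    intro k hk
    refine mem_centralizer_iff.2 fun w hw => ?_
    have e2 : k * w * k⁻¹ = ⁅k, w⁆ * w := by rw [commutatorElement_def]; group
    have h1 : k ^ 2 * w * (k ^ 2)⁻¹ = w := by
      calc k ^ 2 * w * (k ^ 2)⁻¹ = k * (k * w * k⁻¹) * k⁻¹ := by rw [pow_two]; group
        _ = ⁅k, w⁆ * ⁅k, w⁆ * w := by rw [e2, hKact k hk w hw _ (hKW k hk w hw)]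
        _ = w := by rw [← pow_two, hWe.2 _ (hZW (hKW k hk w hw)), one_mul]
    exact (mul_inv_eq_iff_eq_mul.1 h1).symm
  have hnz : ∀ n ∈ N, ⁅n, z⁆ ∈ K₁ := by
    intro n hn
    have hzCW : z ∈ CW := mem_comap.2 (mem_centralizer_iff.2 (by
      rintro _ ⟨w, hw, rfl⟩; exact (comm_mem_iff.1 (hzW w hw)).symm))
    refine ⟨⟨H.mul_mem ((inferInstance : H.Normal).conj_mem z hzA.2 n) (H.inv_mem hzA.2),
      CW.mul_mem ((inferInstance : CW.Normal).conj_mem z hzCW n) (CW.inv_mem hzCW)⟩, ?_⟩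
    have hnC : n ∈ centralizer (Z : Set G) := mem_centralizer_iff.2 fun ζ hζ => (hNZ n hn ζ hζ).symm
    rw [commutatorElement_def, mul_assoc n, mul_assoc n]
    exact mul_mem hnC ((inferInstance : (centralizer (Z : Set G)).Normal).conj_mem _ (inv_mem hnC) z)
  haveI : K₁.Normal := inferInstance
  set R := ⁅K₁, N⁆ with hR
  haveI : R.Normal := Subgroup.commutator_normal K₁ N
  have hRK : R ≤ K₁ := Subgroup.commutator_le_left K₁ N
  have hRC : ¬ R ≤ C := by
    intro hle
    have hk : ∀ n ∈ N, ⁅n, z⁆ ∈ C := comm_mem_of_coprime fun n hn => by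
      have hn' := Transfer.mem_pResidual_of_coprime hn
      refine coprime_step (M := K₁) hKsq hn (hnz n hn') ?_
      have h1 := inv_mem (hle (commutator_mem_commutator (hnz n hn') hn'))
      rwa [commutatorElement_inv] at h1
    apply hzC
    have hle2 : W ≤ centralizer ({z} : Set G) := by
      refine hgen _ (fun v hv => mem_centralizer_singleton_iff.2 (mem_centralizer_iff.1 (hAV hzA.1) v hv))
        fun n hn w hw => mem_centralizer_singleton_iff.2 ?_
      obtain ⟨ζ, hζ, hzw⟩ : ∃ ζ ∈ Z, z * w * z⁻¹ = ζ * w :=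
        ⟨_, hzW w hw, by rw [commutatorElement_def]; group⟩
      set k := ⁅n, z⁆ with hkdef
      have hk' : k ∈ C := hk n hn
      have hzn : z * n = k⁻¹ * (n * z) := by rw [hkdef, commutatorElement_def]; group
      have hm : n * (ζ * w) * n⁻¹ ∈ W := hWn.conj_mem _ (mul_mem (hZW hζ) hw) n
      have h1 : z * (n * w * n⁻¹) * z⁻¹ = ζ * (n * w * n⁻¹) := by
        calc z * (n * w * n⁻¹) * z⁻¹ = (z * n) * w * (z * n)⁻¹ := by group
          _ = k⁻¹ * (n * (z * w * z⁻¹) * n⁻¹) * k := by rw [hzn]; group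
          _ = k⁻¹ * ((n * (ζ * w) * n⁻¹) * k) := by rw [hzw]; group
          _ = n * (ζ * w) * n⁻¹ := by rw [mem_centralizer_iff.1 hk' _ hm, inv_mul_cancel_left]
          _ = (n * ζ) * w * n⁻¹ := by group
          _ = _ := by rw [hNZ n hn ζ hζ]; group
      have hc' : ζ * (n * w * n⁻¹) = (n * w * n⁻¹) * ζ := hWc _ (hZW hζ) _ (hWn.conj_mem w hw n)
      have h2 : z * ⁅n, w⁆ * z⁻¹ = ⁅n, w⁆ := by
        calc z * ⁅n, w⁆ * z⁻¹ = (z * (n * w * n⁻¹) * z⁻¹) * (z * w * z⁻¹)⁻¹ := by
              rw [commutatorElement_def]; group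
          _ = ((n * w * n⁻¹) * ζ) * (w * ζ)⁻¹ := by rw [h1, hzw, hc', hWc _ (hZW hζ) _ hw]
          _ = _ := by rw [commutatorElement_def]; group
      exact (mul_inv_eq_iff_eq_mul.1 h2).symm
    exact mem_centralizer_iff.2 fun w hw => mem_centralizer_singleton_iff.1 (hle2 hw)
  -- a quotient of order two of `⁅W, R⁆`
  set Y := ⁅W, R⁆ with hY
  haveI : Y.Normal := Subgroup.commutator_normal W R
  have hYZ : Y ≤ Z := commutator_le.2 fun w hw r hr => by
    have h1 := inv_mem (hKW r (hRK hr) w hw)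
    rwa [commutatorElement_inv] at h1
  have hYne : Y ≠ ⊥ := fun hb => hRC (le_centralizer_iff.1
    (commutator_eq_bot_iff_le_centralizer.1 hb))
  obtain ⟨X, hXY, hXmax⟩ := Set.Finite.exists_maximal (s := {X : Subgroup G | X.Normal ∧ X < Y})
    (Set.toFinite _) ⟨⊥, inferInstance, bot_lt_iff_ne_bot.2 hYne⟩
  obtain ⟨hXn, hXY⟩ := hXY
  haveI := hXn
  set q := QuotientGroup.mk' X with hq
  have hqs := QuotientGroup.mk'_surjective X
  set Y' := Y.map q with hY'
  haveI : Y'.Normal := (inferInstance : Y.Normal).map q hqs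
  have hY'e : IsElementaryAbelian 2 Y' := PGroup.elemAb_map (PGroup.elemAb_mono hWe (hYZ.trans hZW)) q
  have hY'2 : Nat.card Y' ≤ 2 := by
    obtain ⟨y, hy, hy1, hyc⟩ := exists_fixed (S.mapSurjective hqs) (PGroup.elemAb_isPGroup hY'e)
      fun hb => hXY.not_ge (by rwa [Subgroup.map_eq_bot_iff, QuotientGroup.ker_mk'] at hb)
    have hyG : ∀ g, g * y = y * g := by
      intro g
      obtain ⟨g, rfl⟩ := hqs g
      obtain ⟨n, hn, s, hs, rfl⟩ := mem_sup_of_normal_left.1 (hNS ▸ mem_top g : g ∈ N ⊔ (S : Subgroup G))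
      obtain ⟨y₀, hy₀, rfl⟩ := hy
      have e1 : Commute (q n) (q y₀) := by
        rw [Commute, SemiconjBy, ← map_mul, ← map_mul, hNZ n hn y₀ (hYZ hy₀)]
      have e2 : Commute (q s) (q y₀) := (mem_centralizer_iff.1 hyc (q s) (by
        rw [Sylow.coe_mapSurjective]; exact ⟨s, hs, rfl⟩) :)
      rw [map_mul]
      exact (e1.mul_left e2).eq
    haveI hzn : (zpowers y).Normal := ⟨fun a ha g => by
      obtain ⟨i, rfl⟩ := ha
      rw [((show Commute g y from hyG g).zpow_right i).eq, mul_inv_cancel_right]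
      exact ⟨i, rfl⟩⟩
    have hle : (zpowers y).comap q ≤ Y := by
      refine (comap_mono (zpowers_le.2 hy)).trans ?_
      rw [hY', Subgroup.comap_map_eq, QuotientGroup.ker_mk', sup_eq_left.2 hXY.le]
    rcases eq_or_lt_of_le hle with e | e
    · rw [hY', ← e, map_comap_eq_self_of_surjective hqs, Nat.card_zpowers]
      exact Nat.le_of_dvd (by norm_num) (orderOf_dvd_of_pow_eq_one (hY'e.2 y hy))
    · exfalso
      have hXle : X ≤ (zpowers y).comap q := fun x hx => by
        show q x ∈ zpowers y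
        rw [show q x = 1 from (QuotientGroup.eq_one_iff x).2 hx]; exact one_mem _
      obtain ⟨y₀, rfl⟩ := hqs y
      have h1 : y₀ ∈ X := hXmax ⟨hzn.comap q, e⟩ hXle (mem_zpowers (q y₀) : q y₀ ∈ zpowers (q y₀))
      exact hy1 ((QuotientGroup.eq_one_iff y₀).2 h1)
  let Lr : Subgroup G → Subgroup G := fun P =>
    W ⊓ (centralizer ((P.map q : Subgroup (G ⧸ X)) : Set (G ⧸ X))).comap q
  have hLmem : ∀ (P : Subgroup G) w, w ∈ Lr P ↔ w ∈ W ∧ ∀ r ∈ P, ⁅r, w⁆ ∈ X := by
    intro P w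
    show w ∈ W ⊓ _ ↔ _
    rw [mem_inf, mem_comap, mem_centralizer_iff]
    refine and_congr_right fun _ => ⟨fun hw r hr => comm_mem_iff.2 (hw _ ⟨r, hr, rfl⟩), fun hw => ?_⟩
    rintro _ ⟨r, hr, rfl⟩
    exact comm_mem_iff.1 (hw r hr)
  set L := Lr R with hL
  haveI hLn : L.Normal := by
    haveI : (R.map q).Normal := (inferInstance : R.Normal).map q hqs
    show (W ⊓ _).Normal
    infer_instance
  have hZL : Z ≤ L := fun ζ hζ => (hLmem R ζ).2 ⟨hZW hζ, fun r hr => by
    rw [commutatorElement_eq_one_iff_mul_comm.2 (mem_centralizer_iff.1 (hRK hr).2 ζ hζ).symm]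
    exact one_mem _⟩
  have hLW : ¬ W ≤ L := fun hle => hXY.not_ge (commutator_le.2 fun w hw r hr => by
    have h1 := inv_mem (((hLmem R w).1 (hle hw)).2 r hr)
    rwa [commutatorElement_inv] at h1)
  have hLZ : L = Z := by
    rcases eq_or_lt_of_le hZL with e | e
    · exact e.symm
    exfalso
    obtain ⟨F, hFn, hZF', hFL, hFmin'⟩ := exists_minimal_between hLn e
    obtain ⟨hNWF, -⟩ := hfac F hFn hZF' (hFL.trans inf_le_left) hFmin'
    apply hLW
    haveI : (W.map q).Normal := hWn.map q hqs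
    set J := (centralizer ((W.map q : Subgroup (G ⧸ X)) : Set (G ⧸ X))).comap q with hJ
    have hCJ : C ≤ J := fun x hx => mem_comap.2 (mem_centralizer_iff.2 (by
      rintro _ ⟨w, hw, rfl⟩; rw [← map_mul, ← map_mul, mem_centralizer_iff.1 hx w hw]))
    have hJn : J.Normal := inferInstance
    have claim : ∀ r ∈ R, ∀ n ∈ N, ⁅n, r⁆ ∈ J := by
      intro r hr n hn
      have key : r⁻¹ * (n * r * n⁻¹) ∈ J := by
        refine mem_comap.2 (mem_centralizer_iff.2 ?_)
        rintro _ ⟨w, hw, rfl⟩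
        set l := ⁅n⁻¹, w⁆ with hl
        set η := ⁅r, w⁆ with hη
        have hlL : l ∈ L := hFL (hNWF n⁻¹ (inv_mem hn) w hw)
        have hηZ : η ∈ Z := hKW r (hRK hr) w hw
        have hrl : q r * q l = q l * q r := comm_mem_iff.1 (((hLmem R l).1 hlL).2 r hr)
        have hlη : l * η = η * l := hWc _ ((hLmem R l).1 hlL).1 _ (hZW hηZ)
        have hnl : n⁻¹ * w * n = l * w := by rw [hl, commutatorElement_def]; group
        have hrw : r * w * r⁻¹ = η * w := by rw [hη, commutatorElement_def]; group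
        have h1 : n * (l * (η * w)) * n⁻¹ = η * w := by
          rw [← mul_assoc l, hlη]
          calc n * (η * l * w) * n⁻¹ = (n * η) * (l * w) * n⁻¹ := by group
            _ = η * n * (n⁻¹ * w * n) * n⁻¹ := by rw [hNZ n hn η hηZ, hnl]
            _ = _ := by group
        have h2 : q (n * r * n⁻¹) * q w * (q (n * r * n⁻¹))⁻¹ = q r * q w * (q r)⁻¹ := by
          calc q (n * r * n⁻¹) * q w * (q (n * r * n⁻¹))⁻¹
              = q n * (q r * (q (n⁻¹ * w * n)) * (q r)⁻¹) * (q n)⁻¹ := by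
                simp only [map_mul, map_inv]; group
            _ = q n * (q r * q l * q w * (q r)⁻¹) * (q n)⁻¹ := by rw [hnl, map_mul]; group
            _ = q n * (q l * (q r * q w * (q r)⁻¹)) * (q n)⁻¹ := by rw [hrl]; group
            _ = q (n * (l * (r * w * r⁻¹)) * n⁻¹) := by simp only [map_mul, map_inv]
            _ = q (r * w * r⁻¹) := by rw [hrw, h1]
            _ = _ := by simp only [map_mul, map_inv]
        refine (mul_inv_eq_iff_eq_mul.1 ?_).symm
        calc q (r⁻¹ * (n * r * n⁻¹)) * q w * (q (r⁻¹ * (n * r * n⁻¹)))⁻¹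
            = (q r)⁻¹ * (q (n * r * n⁻¹) * q w * (q (n * r * n⁻¹))⁻¹) * q r := by
              rw [map_mul, map_inv]; group
          _ = q w := by rw [h2]; group
      have h3 := hJn.conj_mem _ key r
      rw [commutatorElement_def]
      simpa [mul_assoc] using h3
    have hRJ : R ≤ J := commutator_le.2 fun k hk n hn => by
      have h1 : ⁅n, k⁆ ∈ J := by
        refine comm_mem_of_coprime (z := k) (fun m hm => ?_) n hn
        have hm' := Transfer.mem_pResidual_of_coprime hm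
        have hd : ⁅m, k⁆ ∈ R := by
          have := inv_mem (commutator_mem_commutator hk hm' : ⁅k, m⁆ ∈ R)
          rwa [commutatorElement_inv] at this
        exact coprime_step (M := R) (fun r hr => hCJ (hKsq r (hRK hr))) hm hd (claim _ hd m hm')
      have h2 := inv_mem h1
      rwa [commutatorElement_inv] at h2
    exact fun w hw => (hLmem R w).2 ⟨hw, fun r hr => comm_mem_iff.2
      (mem_centralizer_iff.1 (mem_comap.1 (hRJ hr)) _ ⟨w, hw, rfl⟩).symm⟩
  -- counting the homomorphisms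
  set qC := QuotientGroup.mk' C with hqC
  have hcount : ∀ s : Finset G, (∀ r ∈ s, r ∈ R) →
      (Lr (Subgroup.closure (s : Set G))).relIndex W ≤
        Nat.card ↥((Subgroup.closure (s : Set G)).map qC) := by
    intro s
    induction s using Finset.induction_on with
    | empty =>
      intro _
      rw [Finset.coe_empty, Subgroup.closure_empty, Subgroup.map_bot, Subgroup.card_bot,
        Subgroup.relIndex_eq_one.2 (fun w hw => (hLmem ⊥ w).2 ⟨hw, fun r hr => by
          rw [mem_bot.1 hr, commutatorElement_one_left]; exact one_mem _⟩)]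
    | @insert r s _ ih =>
      intro hsR
      have hr : r ∈ R := hsR r (Finset.mem_insert_self r s)
      have hsR' : ∀ t ∈ s, t ∈ R := fun t ht => hsR t (Finset.mem_insert_of_mem ht)
      set P := Subgroup.closure (s : Set G) with hP
      set P' := Subgroup.closure ((insert r s : Finset G) : Set G) with hP'
      have hPP' : P ≤ P' := Subgroup.closure_mono (by simp)
      have hrP' : r ∈ P' := Subgroup.subset_closure (by simp)
      have hgenP : ∀ Q : Subgroup G, P ≤ Q → r ∈ Q → P' ≤ Q := by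
        intro Q hQ hrQ
        refine (Subgroup.closure_le Q).2 ?_
        intro t ht
        rw [Finset.coe_insert, Set.mem_insert_iff] at ht
        rcases ht with rfl | ht
        · exact hrQ
        · exact hQ (Subgroup.subset_closure ht)
      have hLrge : ∀ w ∈ Lr P, q r * q w = q w * q r → w ∈ Lr P' := by
        intro w hw hrw
        refine (hLmem P' w).2 ⟨((hLmem P w).1 hw).1, fun t ht => comm_mem_iff.2 ?_⟩
        have hle := hgenP ((centralizer ({q w} : Set (G ⧸ X))).comap q)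
          (fun p hp => mem_comap.2 (mem_centralizer_singleton_iff.2
            (comm_mem_iff.1 (((hLmem P w).1 hw).2 p hp))))
          (mem_comap.2 (mem_centralizer_singleton_iff.2 hrw))
        exact mem_centralizer_singleton_iff.1 (mem_comap.1 (hle ht))
      by_cases hin : qC r ∈ P.map qC
      · obtain ⟨p, hp, hpr⟩ := hin
        have hcC : p⁻¹ * r ∈ C := QuotientGroup.eq.1 hpr
        refine le_trans ?_ ((ih hsR').trans (Subgroup.card_le_of_le (map_mono hPP')))
        refine Subgroup.relIndex_le_of_le_left (fun w hw => hLrge w hw ?_) Subgroup.FiniteIndex.index_ne_zero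
        have hw' := (hLmem P w).1 hw
        have e2 : Commute (q (p⁻¹ * r)) (q w) := by
          rw [Commute, SemiconjBy, ← map_mul, ← map_mul, mem_centralizer_iff.1 hcC w hw'.1]
        have e1 : Commute (q p) (q w) := comm_mem_iff.1 (hw'.2 p hp)
        have e3 := e1.mul_left e2
        rw [← map_mul, mul_inv_cancel_left] at e3
        exact e3.eq
      · have hker : ∀ w ∈ W, q ⁅r, w⁆ ∈ Y' := fun w hw => ⟨_, by
          have h1 := inv_mem (commutator_mem_commutator hw hr : ⁅w, r⁆ ∈ Y)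
          rwa [commutatorElement_inv] at h1, rfl⟩
        let φ : ↥W →* ↥Y' := MonoidHom.mk' (fun w => ⟨q ⁅r, (w : G)⁆, hker w w.2⟩) fun a b => by
          apply Subtype.ext
          show q ⁅r, ((a * b : ↥W) : G)⁆ = q ⁅r, (a : G)⁆ * q ⁅r, (b : G)⁆
          rw [← map_mul]
          congr 1
          have h2 : (a : G) * ⁅r, (b : G)⁆ = ⁅r, (b : G)⁆ * (a : G) :=
            hWc _ a.2 _ (hZW (hKW r (hRK hr) b b.2))
          calc ⁅r, (a : G) * (b : G)⁆ = ⁅r, (a : G)⁆ * ((a : G) * ⁅r, (b : G)⁆ * (a : G)⁻¹) := by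
                simp only [commutatorElement_def]; group
            _ = _ := by rw [h2, mul_inv_cancel_right]
        set B := φ.ker.map W.subtype with hB
        have hBW : B.relIndex W ≤ 2 := by
          have : B.subgroupOf W = φ.ker := comap_map_eq_self_of_injective W.subtype_injective _
          rw [Subgroup.relIndex, this, Subgroup.index_ker]
          exact (Subgroup.card_le_of_le le_top).trans (Subgroup.card_top.le.trans hY'2)
        have hLr' : Lr P ⊓ B ≤ Lr P' := by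
          rintro w ⟨hw, ⟨w', hw', rfl⟩⟩
          refine hLrge _ hw ?_
          have h1 := congrArg Subtype.val (MonoidHom.mem_ker.1 hw')
          have h2 : q ⁅r, (w' : G)⁆ = 1 := h1
          rwa [map_commutatorElement, commutatorElement_eq_one_iff_mul_comm] at h2
        have h2P : 2 * Nat.card ↥(P.map qC) ≤ Nat.card ↥(P'.map qC) := by
          have e := Subgroup.relIndex_mul_relIndex ⊥ (P.map qC) (P'.map qC) bot_le (map_mono hPP')
          rw [relIndex_bot_left, relIndex_bot_left] at e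
          rw [← e, mul_comm]
          refine Nat.mul_le_mul_left _ ?_
          have h0 : (P.map qC).relIndex (P'.map qC) ≠ 0 := Subgroup.FiniteIndex.index_ne_zero
          have h1 : (P.map qC).relIndex (P'.map qC) ≠ 1 := fun e1 =>
            hin (Subgroup.relIndex_eq_one.1 e1 ⟨r, hrP', rfl⟩)
          omega
        calc (Lr P').relIndex W ≤ (Lr P ⊓ B).relIndex W :=
              Subgroup.relIndex_le_of_le_left hLr' Subgroup.FiniteIndex.index_ne_zero
          _ ≤ (Lr P).relIndex W * B.relIndex W := Subgroup.relIndex_inf_le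
          _ ≤ Nat.card ↥(P.map qC) * 2 := Nat.mul_le_mul (ih hsR') hBW
          _ ≤ _ := by rw [mul_comm]; exact h2P
  have hb := hcount ((R : Set G).toFinset) fun r hr => by simpa using hr
  rw [Set.coe_toFinset, Subgroup.closure_eq, ← hL, hLZ] at hb
  have hbC : Nat.card ↥(R.map qC) = C.relIndex R := by
    rw [← relIndex_bot_left, ← Subgroup.relIndex_comap, MonoidHom.comap_bot, hqC, QuotientGroup.ker_mk']
  rw [hbC] at hb
  have hRp := hprop R (hRK.trans (inf_le_left.trans inf_le_left))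
    ((commutator_mono hRK hRK).trans (commutator_le.2 hKC)) fun r hr => hKsq r (hRK hr)
  have hle : (centralizer (R : Set G)).relIndex W ≤ Z.relIndex W :=
    Subgroup.relIndex_le_of_le_left (le_centralizer_iff.1 (hRK.trans inf_le_right))
      Subgroup.FiniteIndex.index_ne_zero
  have hb1 : 2 ≤ C.relIndex R := by
    have h0 : C.relIndex R ≠ 0 := Subgroup.FiniteIndex.index_ne_zero
    have h1 : C.relIndex R ≠ 1 := fun e => hRC (Subgroup.relIndex_eq_one.1 e)
    omega
  have h3 : C.relIndex R ^ 3 ≤ C.relIndex R ^ 2 := hRp.trans (Nat.pow_le_pow_left (hle.trans hb) 2)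
  exact absurd h3 (not_le.2 (Nat.pow_lt_pow_right hb1 (by norm_num)))

end CfsgLib.SFactor
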