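import Cfsg.Prelude.Def_LocalEven
import Cfsg.Agent.Lib.PStab.MaxAdm
import Cfsg.Agent.Lib.PStab.Complement
import Cfsg.Agent.Lib.Transfer.Thompson
import Cfsg.Agent.Lib.PGroup.ElemAbelian

/-!
E-groups and `Ĵ(T)` inside an ambient group.
-/

set_option autoImplicit false

namespace CfsgLib.SFactor

open Subgroup Cfsg
open scoped commutatorElement
open CfsgLib.PStab

universe u

variable {G : Type u} [Group G]

/-- The property in the definition of an E-group, for `V` in the subgroup `T`. -/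
def Indexed (T V : Subgroup G) : Prop :=
  ∀ R : Subgroup G, R ≤ T → ⁅R, R⁆ ≤ centralizer (V : Set G) → (∀ r ∈ R, r ^ 2 ∈ centralizer (V : Set G)) →
    ¬ R ≤ centralizer (V : Set G) →
      Nat.card V ^ 2 * Nat.card ↥(R ⊓ centralizer (V : Set G)) ^ 3 >
          Nat.card R ^ 3 * Nat.card ↥(V ⊓ centralizer (R : Set G)) ^ 2 ∧
        Nat.card ↥⁅V, R⁆ * Nat.card ↥(R ⊓ centralizer (V : Set G)) > Nat.card R

theorem Indexed.mono {T T' V : Subgroup G} (h : Indexed T V) (hT : T' ≤ T) : Indexed T' V :=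
  fun R hR => h R (hR.trans hT)

/-- `Ĵ(T)` inside `G`. -/
def jH (T : Subgroup G) : Subgroup G := (Cfsg.jHat ↥T).map T.subtype

/-- `Ω₁(Z(Ĵ(T)))`. -/
def zH (T : Subgroup G) : Subgroup G := omegaOne 2 (jH T ⊓ centralizer (jH T : Set G))

theorem map_centralizer_of_injective {A B : Type*} [Group A] [Group B] (f : A →* B)
    (hf : Function.Injective f) (X : Subgroup A) :
    (centralizer (X : Set A)).map f = f.range ⊓ centralizer ((X.map f : Subgroup B) : Set B) := by
  ext y
  constructor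
  · rintro ⟨a, ha, rfl⟩
    refine ⟨⟨a, rfl⟩, mem_centralizer_iff.2 ?_⟩
    rintro _ ⟨x, hx, rfl⟩
    rw [← map_mul, ← map_mul, mem_centralizer_iff.1 ha x hx]
  · rintro ⟨⟨a, rfl⟩, ha⟩
    refine ⟨a, mem_centralizer_iff.2 fun x hx => hf ?_, rfl⟩
    rw [map_mul, map_mul]
    exact mem_centralizer_iff.1 ha _ ⟨x, hx, rfl⟩

section Map

variable {A B : Type u} [Group A] [Group B]

theorem map_inf_centralizer (e : A ≃* B) (V R : Subgroup A) :
    (V ⊓ centralizer (R : Set A)).map e.toMonoidHom =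
      V.map e.toMonoidHom ⊓ centralizer ((R.map e.toMonoidHom : Subgroup B) : Set B) := by
  rw [Subgroup.map_inf _ _ _ e.injective, map_centralizer_of_injective _ e.injective,
    MonoidHom.range_eq_top.2 e.surjective, top_inf_eq]

theorem isEGroup_congr (e : A ≃* B) (h : IsEGroup A) : IsEGroup B := by
  intro W hWn hWe hWp
  set f := e.toMonoidHom
  obtain ⟨V, rfl⟩ : ∃ V : Subgroup A, V.map f = W := ⟨_, map_comap_eq_self_of_surjective e.surjective W⟩
  have hVn : V.Normal := by
    rw [← comap_map_eq_self_of_injective (show Function.Injective f from e.injective) V]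
    exact hWn.comap f
  have hVe : IsElementaryAbelian 2 V := by
    rw [← comap_map_eq_self_of_injective (show Function.Injective f from e.injective) V]
    exact PGroup.isElementaryAbelian_mk
      (fun a ha b hb => e.injective (by
        rw [map_mul, map_mul]; exact PGroup.elemAb_comm hWe ha hb))
      (fun a ha => e.injective (by rw [map_pow, map_one]; exact hWe.2 _ ha))
  have hmem : ∀ {R : Subgroup A} {z : A}, e z ∈ centralizer ((R.map f : Subgroup B) : Set B) ↔ z ∈ centralizer (R : Set A) := by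
    intro R z
    refine ⟨fun hz => mem_centralizer_iff.2 fun x hx => e.injective ?_, fun hz => mem_centralizer_iff.2 ?_⟩
    · rw [map_mul, map_mul]; exact mem_centralizer_iff.1 hz _ ⟨x, hx, rfl⟩
    · rintro _ ⟨x, hx, rfl⟩
      show e x * e z = e z * e x
      rw [← map_mul, ← map_mul, mem_centralizer_iff.1 hz x hx]
  have hVc : V ≤ center A := by
    refine h V hVn hVe fun R hR1 hR2 hR3 => ?_
    have h1 := hWp (R.map f) ?_ ?_ fun hle => hR3 fun z hz => hmem.1 (hle ⟨z, hz, rfl⟩)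
    · rwa [← map_inf_centralizer e R V, ← map_inf_centralizer e V R, ← map_commutator,
        Subgroup.card_map_of_injective e.injective, Subgroup.card_map_of_injective e.injective,
        Subgroup.card_map_of_injective e.injective, Subgroup.card_map_of_injective e.injective,
        Subgroup.card_map_of_injective e.injective] at h1
    · rw [← map_commutator]
      rintro _ ⟨z, hz, rfl⟩
      exact hmem.2 (hR1 hz)
    · rintro _ ⟨r, hr, rfl⟩
      rw [← map_pow]
      exact hmem.2 (hR2 r hr)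
  rintro _ ⟨v, hv, rfl⟩
  rw [mem_center_iff]
  intro y
  obtain ⟨x, rfl⟩ := e.surjective y
  show e x * e v = e v * e x
  rw [← map_mul, ← map_mul, mem_center_iff.1 (hVc hv) x]

theorem jHat_map (e : A ≃* B) : (jHat A).map e.toMonoidHom = jHat B := by
  have key : ∀ {A B : Type u} [Group A] [Group B] (e : A ≃* B), (jHat A).map e.toMonoidHom ≤ jHat B := by
    intro A B _ _ e
    refine map_le_iff_le_comap.2 (sSup_le fun U hU => map_le_iff_le_comap.1 (le_sSup (α := Subgroup B) ?_))
    refine ⟨isEGroup_congr (U.equivMapOfInjective e.toMonoidHom e.injective) hU.1, ?_⟩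
    rw [← CfsgLib.Transfer.thompsonSubgroup_map e]
    exact map_mono hU.2
  refine le_antisymm (key e) ?_
  intro y hy
  exact ⟨e.symm y, key e.symm ⟨y, hy, rfl⟩, e.apply_symm_apply y⟩

end Map

theorem jH_map {H : Type u} [Group H] {f : G →* H} (hf : Function.Injective f) (T : Subgroup G) :
    (jH T).map f = jH (T.map f) := by
  rw [jH, jH, ← jHat_map (T.equivMapOfInjective f hf), Subgroup.map_map, Subgroup.map_map]
  rfl

theorem zH_map {H : Type u} [Group H] {f : G →* H} (hf : Function.Injective f) (T : Subgroup G) :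
    (zH T).map f = zH (T.map f) := by
  rw [zH, zH, ← jH_map hf, omegaOne, omegaOne, MonoidHom.map_closure]
  congr 1
  ext y
  constructor
  · rintro ⟨x, ⟨⟨hxJ, hxC⟩, hxp⟩, rfl⟩
    refine ⟨⟨⟨x, hxJ, rfl⟩, mem_centralizer_iff.2 ?_⟩, by rw [← map_pow, hxp, map_one]⟩
    rintro _ ⟨s, hs, rfl⟩
    rw [← map_mul, ← map_mul, mem_centralizer_iff.1 hxC s hs]
  · rintro ⟨⟨⟨x, hxJ, rfl⟩, hxC⟩, hxp⟩
    refine ⟨x, ⟨⟨hxJ, mem_centralizer_iff.2 fun s hs => hf ?_⟩, hf ?_⟩, rfl⟩
    · rw [map_mul, map_mul]; exact mem_centralizer_iff.1 hxC _ ⟨s, hs, rfl⟩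
    · rw [map_pow, map_one]; exact hxp

theorem jH_le (T : Subgroup G) : jH T ≤ T := map_subtype_le _

theorem zH_le (T : Subgroup G) : zH T ≤ jH T := (PGroup.omegaOne_le 2 _).trans inf_le_left

theorem normalizer_le_jH (T : Subgroup G) :
    normalizer (T : Set G) ≤ normalizer (jH T : Set G) := by
  intro g hg
  refine mem_normalizer_iff_map_conj_eq.2 ?_
  rw [jH_map (MulAut.conj g).injective, mem_normalizer_iff_map_conj_eq.1 hg]

variable [Finite G]

/-- The E-subgroups over `J(T)` in `G`. -/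
theorem exists_eSub (T : Subgroup G) {x : G} {S : Subgroup G} (h : ∀ U : Subgroup G, U ≤ T →
    IsEGroup ↥U → jGen 2 T ≤ U → U ≤ S) (hx : x ∈ jH T) : x ∈ S := by
  obtain ⟨y, hy, rfl⟩ := hx
  refine (sSup_le fun U hU => ?_ : jHat ↥T ≤ S.comap T.subtype) hy
  refine map_le_iff_le_comap.1 (h (U.map T.subtype) (map_subtype_le _)
    (isEGroup_congr (U.equivMapOfInjective T.subtype T.subtype_injective) hU.1) ?_)
  rw [← thompsonSubgroupOf_eq_jGen]
  exact map_mono hU.2

theorem le_jH {T U : Subgroup G} (hUT : U ≤ T) (hU : IsEGroup ↥U) (hJ : jGen 2 T ≤ U) : U ≤ jH T := by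
  have h : U.subgroupOf T ∈ {U : Subgroup ↥T | IsEGroup ↥U ∧ thompsonSubgroup 2 ↥T ≤ U} := by
    refine ⟨isEGroup_congr (Subgroup.subgroupOfEquivOfLe hUT).symm hU, fun z hz => mem_subgroupOf.2 (hJ ?_)⟩
    rw [← thompsonSubgroupOf_eq_jGen]
    exact ⟨z, hz, rfl⟩
  have h1 := map_mono (f := T.subtype) (le_sSup h)
  rwa [map_subgroupOf_eq_of_le hUT] at h1

/-- A largest elementary abelian subgroup centralises `V`. -/
theorem maxAdm_le_centralizer {T V A : Subgroup G} (hVT : V ≤ T) (hVe : IsElementaryAbelian 2 V)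
    (hI : Indexed T V) (hA : A ∈ maxAdm 2 T) : A ≤ centralizer (V : Set G) ∧ V ≤ A := by
  obtain ⟨hAT, hAe, hmax⟩ := hA
  have hAc : ∀ a ∈ A, ∀ b ∈ A, a * b = b * a := fun a ha b hb =>
    PGroup.elemAb_comm (A := A) hAe ha hb
  set A₀ := A ⊓ centralizer (V : Set G)
  have hE : IsElementaryAbelian 2 (A₀ ⊔ V : Subgroup G) :=
    PGroup.elemAb_sup (PGroup.elemAb_mono hAe inf_le_left) hVe
      fun a ha v hv => (mem_centralizer_iff.1 ha.2 v hv).symm
  have hE2 := hmax (A₀ ⊔ V) (sup_le (inf_le_left.trans hAT) hVT) hE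
  have hmul : Nat.card A₀ * Nat.card V ≤ Nat.card ↥(A₀ ⊔ V) * Nat.card ↥(A₀ ⊓ V) := by
    rw [← Nat.card_prod, ← Nat.card_prod]
    classical
    let m : A₀ × V → ↥(A₀ ⊔ V) := fun p => ⟨p.1 * p.2, mul_mem (mem_sup_left p.1.2) (mem_sup_right p.2.2)⟩
    let g : ↥(A₀ ⊔ V) → A₀ × V := fun z => if h : ∃ p, m p = z then h.choose else 1
    have hg : ∀ p, m (g (m p)) = m p := fun p => by
      have h : ∃ q, m q = m p := ⟨p, rfl⟩
      simp only [g, dif_pos h]
      exact h.choose_spec
    refine Nat.card_le_card_of_injective (fun p : A₀ × V => ((m p, ⟨((g (m p)).1 : G)⁻¹ * p.1,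
      A₀.mul_mem (A₀.inv_mem (g (m p)).1.2) p.1.2, ?_⟩) : ↥(A₀ ⊔ V) × ↥(A₀ ⊓ V))) ?_
    · have h1 : ((g (m p)).1 : G) * (g (m p)).2 = p.1 * p.2 := congrArg Subtype.val (hg p)
      have h2 : ((g (m p)).1 : G)⁻¹ * p.1 = (g (m p)).2 * (p.2 : G)⁻¹ := by
        rw [eq_mul_inv_iff_mul_eq, mul_assoc, ← h1, inv_mul_cancel_left]
      rw [h2]
      exact V.mul_mem (g (m p)).2.2 (V.inv_mem p.2.2)
    · rintro p q hpq
      obtain ⟨h1, h2⟩ := Prod.ext_iff.1 hpq
      dsimp only at h1 h2
      have h3 := congrArg Subtype.val h2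
      simp only [h1, mul_right_inj] at h3
      have h4 : (p.1 : G) * p.2 = q.1 * q.2 := congrArg Subtype.val h1
      rw [h3, mul_right_inj] at h4
      exact Prod.ext (Subtype.ext h3) (Subtype.ext h4)
  have hAV : A ≤ centralizer (V : Set G) := by
    by_contra hn
    obtain ⟨h1, -⟩ := hI A hAT
      ((Subgroup.commutator_le).2 fun a ha b hb => by
        rw [commutatorElement_eq_one_iff_mul_comm.2 (hAc a ha b hb)]; exact one_mem _)
      (fun a ha => by rw [hAe.2 a ha]; exact one_mem _) hn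
    have hVA : Nat.card ↥(A₀ ⊓ V) ≤ Nat.card ↥(V ⊓ centralizer (A : Set G)) :=
      Subgroup.card_le_of_le (le_inf inf_le_right fun z hz => mem_centralizer_iff.2 fun a ha => hAc a ha z hz.1.1)
    have hle : Nat.card A₀ * Nat.card V ≤ Nat.card A * Nat.card ↥(V ⊓ centralizer (A : Set G)) :=
      hmul.trans (Nat.mul_le_mul hE2 hVA)
    have h3 : Nat.card A₀ ≤ Nat.card A := Subgroup.card_le_of_le inf_le_left
    have h4 := Nat.mul_le_mul (Nat.pow_le_pow_left hle 2) h3
    nlinarith [h1, h4]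
  refine ⟨hAV, ?_⟩
  have h0 : A₀ = A := inf_eq_left.2 hAV
  rw [h0] at hE2
  exact le_sup_right.trans (Subgroup.eq_of_le_of_card_ge le_sup_left hE2).ge

theorem jGen_le_centralizer {T V : Subgroup G} (hVT : V ≤ T) (hVe : IsElementaryAbelian 2 V)
    (hI : Indexed T V) : jGen 2 T ≤ centralizer (V : Set G) :=
  sSup_le fun _ hA => (maxAdm_le_centralizer hVT hVe hI hA).1

theorem le_jGen_of_indexed {T V : Subgroup G} (hVT : V ≤ T) (hVe : IsElementaryAbelian 2 V)
    (hI : Indexed T V) : V ≤ jGen 2 T := by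
  obtain ⟨A, hA⟩ := maxAdm_nonempty (G := G) 2 T
  exact (maxAdm_le_centralizer hVT hVe hI hA).2.trans (le_jGen hA)

/-- An E-subgroup over `J(T)` centralises `V`. -/
theorem eSub_le_centralizer {T V U : Subgroup G} (hVT : V ≤ T) (hTV : T ≤ normalizer (V : Set G))
    (hVe : IsElementaryAbelian 2 V) (hI : Indexed T V) (hUT : U ≤ T) (hU : IsEGroup ↥U) (hJ : jGen 2 T ≤ U) :
    U ≤ centralizer (V : Set G) := by
  have hVU : V ≤ U := (le_jGen_of_indexed hVT hVe hI).trans hJ
  have hVn : (V.subgroupOf U).Normal := normal_subgroupOf_of_le_normalizer (hUT.trans hTV)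
  have hcmap : ∀ R : Subgroup ↥U, ∀ z : ↥U,
      z ∈ centralizer (R : Set ↥U) ↔ (z : G) ∈ centralizer ((R.map U.subtype : Subgroup G) : Set G) := by
    intro R z
    refine ⟨fun hz => mem_centralizer_iff.2 ?_, fun hz => mem_centralizer_iff.2 fun x hx => Subtype.ext ?_⟩
    · rintro _ ⟨x, hx, rfl⟩
      exact congrArg Subtype.val (mem_centralizer_iff.1 hz x hx)
    · exact mem_centralizer_iff.1 hz _ ⟨x, hx, rfl⟩
  have hVm : (V.subgroupOf U).map U.subtype = V := map_subgroupOf_eq_of_le hVU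
  have hc := hU (V.subgroupOf U) hVn (PGroup.elemAb_subgroupOf hVe) fun R hR1 hR2 hR3 => by
    have h1 := hI (R.map U.subtype) ((map_subtype_le _).trans hUT) ?_ ?_ fun hle => hR3 fun z hz =>
      (hcmap _ z).2 (by rw [hVm]; exact hle ⟨z, hz, rfl⟩)
    · have e1 : ∀ X Y : Subgroup ↥U, (X ⊓ centralizer (Y : Set ↥U)).map U.subtype =
          X.map U.subtype ⊓ centralizer ((Y.map U.subtype : Subgroup G) : Set G) := by
        intro X Y
        rw [Subgroup.map_inf _ _ _ U.subtype_injective, map_centralizer_of_injective _ U.subtype_injective,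
          Subgroup.range_subtype, ← inf_assoc, inf_eq_left.2 (map_subtype_le X)]
      rw [← hVm, ← e1, ← e1, ← map_commutator] at h1
      simpa only [Subgroup.card_map_of_injective U.subtype_injective] using h1
    · rw [← map_commutator]
      rintro _ ⟨z, hz, rfl⟩
      have := (hcmap _ z).1 (hR1 hz)
      rwa [hVm] at this
    · rintro _ ⟨r, hr, rfl⟩
      have := (hcmap _ _).1 (hR2 r hr)
      rw [hVm] at this
      simpa using this
  intro x hx
  refine mem_centralizer_iff.2 fun v hv => ?_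
  exact congrArg Subtype.val (mem_center_iff.1 (hc (show (⟨v, hVU hv⟩ : ↥U) ∈ V.subgroupOf U from hv)) ⟨x, hx⟩).symm

theorem jH_le_centralizer {T V : Subgroup G} (hVT : V ≤ T) (hTV : T ≤ normalizer (V : Set G))
    (hVe : IsElementaryAbelian 2 V) (hI : Indexed T V) : jH T ≤ centralizer (V : Set G) :=
  fun _ hx => exists_eSub T (fun _ hUT hU hJ => eSub_le_centralizer hVT hTV hVe hI hUT hU hJ) hx

/-- A subgroup that is not an E-group has a witness. -/
theorem exists_witness {T : Subgroup G} (h : ¬ IsEGroup ↥T) :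
    ∃ V : Subgroup G, V ≤ T ∧ T ≤ normalizer (V : Set G) ∧ IsElementaryAbelian 2 V ∧ Indexed T V ∧
      ¬ T ≤ centralizer (V : Set G) := by
  rw [IsEGroup] at h
  push Not at h
  obtain ⟨W, hWn, hWe, hWp, hWc⟩ := h
  refine ⟨W.map T.subtype, map_subtype_le _, ?_, PGroup.elemAb_map hWe _, fun R hRT hR1 hR2 hR3 => ?_, fun hc => hWc ?_⟩
  · refine fun t ht => ?_
    have h1 := Subgroup.le_normalizer_map T.subtype (H := W)
      (show t ∈ (normalizer (W : Set ↥T)).map T.subtype from
        ⟨⟨t, ht⟩, by rw [normalizer_eq_top_iff.2 hWn]; trivial, rfl⟩)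
    exact h1
  · have hm : (R.subgroupOf T).map T.subtype = R := map_subgroupOf_eq_of_le hRT
    have e1 : ∀ X Y : Subgroup ↥T, (X ⊓ centralizer (Y : Set ↥T)).map T.subtype =
        X.map T.subtype ⊓ centralizer ((Y.map T.subtype : Subgroup G) : Set G) := by
      intro X Y
      rw [Subgroup.map_inf _ _ _ T.subtype_injective, map_centralizer_of_injective _ T.subtype_injective,
        Subgroup.range_subtype, ← inf_assoc, inf_eq_left.2 (map_subtype_le X)]
    have hcm : ∀ z : ↥T, z ∈ centralizer (W : Set ↥T) ↔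
        (z : G) ∈ centralizer ((W.map T.subtype : Subgroup G) : Set G) := by
      intro z
      refine ⟨fun hz => mem_centralizer_iff.2 ?_, fun hz => mem_centralizer_iff.2 fun x hx => Subtype.ext ?_⟩
      · rintro _ ⟨x, hx, rfl⟩
        exact congrArg Subtype.val (mem_centralizer_iff.1 hz x hx)
      · exact mem_centralizer_iff.1 hz _ ⟨x, hx, rfl⟩
    have h1 := hWp (R.subgroupOf T) ?_ ?_ fun hle => hR3 fun r hr => (hcm ⟨r, hRT hr⟩).1 (hle hr)
    · have e2 : Nat.card ↥(R.subgroupOf T) = Nat.card R :=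
        Nat.card_congr (Subgroup.subgroupOfEquivOfLe hRT).toEquiv
      rw [← Subgroup.card_map_of_injective (K := W) T.subtype_injective,
        ← Subgroup.card_map_of_injective (K := R.subgroupOf T ⊓ _) T.subtype_injective,
        ← Subgroup.card_map_of_injective (K := W ⊓ _) T.subtype_injective,
        ← Subgroup.card_map_of_injective (K := ⁅W, R.subgroupOf T⁆) T.subtype_injective,
        e1, e1, map_commutator, hm, e2] at h1
      exact h1
    · intro z hz
      refine (hcm z).2 (hR1 ?_)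
      rw [← hm, ← map_commutator]
      exact ⟨z, hz, rfl⟩
    · intro z hz
      exact (hcm _).2 (by simpa using hR2 (z : G) (mem_subgroupOf.1 hz))
  · intro w hw
    rw [mem_center_iff]
    intro t
    exact Subtype.ext (mem_centralizer_iff.1 (hc t.2) _ ⟨w, hw, rfl⟩).symm

/-- `J(T)` is an E-group, so lies in `Ĵ(T)`. -/
theorem jGen_le_jH (T : Subgroup G) : jGen 2 T ≤ jH T := by
  refine le_jH (jGen_le 2 T) ?_ le_rfl
  by_contra hn
  obtain ⟨V, hVJ, -, hVe, hI, hVc⟩ := exists_witness hn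
  apply hVc
  refine sSup_le fun A hA => (maxAdm_le_centralizer hVJ hVe hI ?_).1
  exact ⟨le_jGen hA, hA.2.1, fun B hB hBe => hA.2.2 B (hB.trans (jGen_le 2 T)) hBe⟩

theorem jH_eq_self {T : Subgroup G} (h : IsEGroup ↥T) : jH T = T :=
  le_antisymm (jH_le T) (le_jH le_rfl h (jGen_le 2 T))

theorem jGen_eq_of_le {T T' : Subgroup G} (hT : T' ≤ T) (hJ : jGen 2 T ≤ T') : jGen 2 T' = jGen 2 T := by
  obtain ⟨A₀, h0⟩ := maxAdm_nonempty (G := G) 2 T
  refine le_antisymm (sSup_le fun A hA => le_jGen (maxAdm_of_le hT h0 ((le_jGen h0).trans hJ) hA))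
    (sSup_le fun A hA => ?_)
  exact le_jGen ⟨(le_jGen hA).trans hJ, hA.2.1, fun B hB hBe => hA.2.2 B (hB.trans hT) hBe⟩

theorem jH_eq_of_le {T T' : Subgroup G} (hT : T' ≤ T) (hJ : jH T ≤ T') : jH T' = jH T := by
  have hJ' := jGen_eq_of_le hT ((jGen_le_jH T).trans hJ)
  refine le_antisymm (fun x hx => exists_eSub T' (fun U hU hUe hUJ => ?_) hx)
    (fun x hx => exists_eSub T (fun U hU hUe hUJ => ?_) hx)
  · exact le_jH (hU.trans hT) hUe (hJ'.symm.le.trans hUJ)
  · exact le_jH ((le_jH hU hUe hUJ).trans hJ) hUe (hJ'.le.trans hUJ)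

theorem zH_eq_of_le {T T' : Subgroup G} (hT : T' ≤ T) (hJ : jH T ≤ T') : zH T' = zH T := by
  rw [zH, zH, jH_eq_of_le hT hJ]

theorem normalizer_jH_le (T : Subgroup G) :
    normalizer (jH T : Set G) ≤ normalizer (jGen 2 T : Set G) := by
  have h : jGen 2 (jH T) = jGen 2 T := jGen_eq_of_le (jH_le T) (jGen_le_jH T)
  rw [← h]
  exact normalizer_le_normalizer_jGen 2 (jH T)

end CfsgLib.SFactor
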