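import Cfsg.Agent.Lib.SFactor.Hyp
import Cfsg.Agent.Lib.SFactor.Bound
import Cfsg.Agent.Lib.SFactor.JHat
import Cfsg.Agent.Lib.LocalEven.Offender
import Cfsg.Agent.Lib.LocalEven.ActKernel
import Cfsg.Agent.Lib.PStab.QuadPair
import Cfsg.Agent.Lib.Cores.Basic

/-!
A subgroup with the index property lies in the `2`-core.
-/

set_option autoImplicit false

namespace CfsgLib.SFactor

open Subgroup Cfsg
open scoped commutatorElement
open CfsgLib.LocalEven

universe u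

variable {G : Type u} [Group G] [Finite G]

/-- `|V : C_V(R)|² > |R : C_R(V)|³`. -/
theorem Indexed.index_lt {T V R : Subgroup G} (h : Indexed T V) (hRT : R ≤ T)
    (h1 : ⁅R, R⁆ ≤ centralizer (V : Set G)) (h2 : ∀ r ∈ R, r ^ 2 ∈ centralizer (V : Set G))
    (h3 : ¬ R ≤ centralizer (V : Set G)) :
    (centralizer (V : Set G)).relIndex R ^ 3 < (centralizer (R : Set G)).relIndex V ^ 2 := by
  obtain ⟨hlt, -⟩ := h R hRT h1 h2 h3
  have eR := Subgroup.relIndex_mul_relIndex ⊥ (R ⊓ centralizer (V : Set G)) R bot_le inf_le_left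
  have eV := Subgroup.relIndex_mul_relIndex ⊥ (V ⊓ centralizer (R : Set G)) V bot_le inf_le_left
  rw [relIndex_bot_left, relIndex_bot_left, Subgroup.inf_relIndex_left] at eR eV
  rw [← eR, ← eV] at hlt
  refine Nat.lt_of_mul_lt_mul_left
    (a := Nat.card ↥(R ⊓ centralizer (V : Set G)) ^ 3 * Nat.card ↥(V ⊓ centralizer (R : Set G)) ^ 2) ?_
  rw [mul_pow, mul_pow] at hlt
  linarith [hlt]

theorem exists_coprime_fixed {M : Subgroup G} (hM : ∀ m ∈ M, m ^ 2 = 1) {x m d : G} (hd : d ∈ M)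
    (hx : Odd (orderOf x)) (hxd : x * d = d * x) (h : x * m * x⁻¹ = d * m) : d = 1 := by
  have hpow : ∀ j : ℕ, x ^ j * m * (x ^ j)⁻¹ = d ^ j * m := by
    intro j
    induction j with
    | zero => simp
    | succ j ih =>
      calc x ^ (j + 1) * m * (x ^ (j + 1))⁻¹ = x * (x ^ j * m * (x ^ j)⁻¹) * x⁻¹ := by rw [pow_succ']; group
        _ = (x * d ^ j) * m * x⁻¹ := by rw [ih]; group
        _ = d ^ j * (x * m * x⁻¹) := by rw [(Commute.pow_right hxd j).eq]; group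
        _ = d ^ (j + 1) * m := by rw [h, pow_succ]; group
  have h1 := hpow (orderOf x)
  rw [pow_orderOf_eq_one, one_mul, inv_one, mul_one] at h1
  have h2 : d ^ orderOf x = 1 := mul_right_cancel (h1.symm.trans (one_mul m).symm)
  obtain ⟨k, hk⟩ := hx
  rwa [hk, pow_succ, pow_mul, hM d hd, one_pow, one_mul] at h2

/-- `G / O₂(G)` is `S₃`-free. -/
theorem sThreeFree_core (h : Hyp G) : ¬ Involves (Equiv.Perm (Fin 3)) (G ⧸ pCore 2 G) := by
  intro hi
  haveI : Fact (Nat.Prime 2) := ⟨Nat.prime_two⟩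
  haveI : Fact (Nat.Prime 3) := ⟨Nat.prime_three⟩
  set C := pCore 2 G with hC
  obtain ⟨eq⟩ := Cfsg.Agent.S3755.dihedral_three_equiv
  obtain ⟨X, f, hf⟩ := Offender.exists_hom_of_involves hi
  set X' := X.comap (QuotientGroup.mk' C)
  set g := (eq.symm.toMonoidHom.comp f).comp ((QuotientGroup.mk' C).subgroupComap X) with hg
  have hgs : Function.Surjective g :=
    (eq.symm.surjective.comp hf).comp
      (MonoidHom.subgroupComap_surjective_of_surjective _ _ (QuotientGroup.mk'_surjective C))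
  obtain ⟨x, y, hxo, hyo, hy, hxy⟩ :=
    DihedralCrit.exists_inverted_of_surjective (p := 3) (by norm_num) g hgs (C.subgroupOf X') (fun z hz => by
      rw [MonoidHom.mem_ker, hg]
      show eq.symm (f ((QuotientGroup.mk' C).subgroupComap X z)) = 1
      have : (QuotientGroup.mk' C).subgroupComap X z = 1 := Subtype.ext ((QuotientGroup.eq_one_iff _).2 hz)
      rw [this, map_one, map_one])
  refine h.free (S4Crit.involves_of_two_group (CfsgLib.Cores.isPGroup_pCore 2 : IsPGroup 2 C) (x := (x : G))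
    (y := (y : G)) ?_ ?_ ?_ ?_ (congrArg (fun z : ↥X' => (z : G)) hxy) fun hc => hy (mem_subgroupOf.2 (h.charTwo hc)))
  · rw [normalizer_eq_top_iff.2 (inferInstance : C.Normal)]; trivial
  · rw [normalizer_eq_top_iff.2 (inferInstance : C.Normal)]; trivial
  · obtain ⟨k, hk⟩ := hxo; exact ⟨k, by rw [Subgroup.orderOf_coe, hk]⟩
  · obtain ⟨k, hk⟩ := hyo; exact ⟨k, by rw [Subgroup.orderOf_coe, hk]⟩

/-- The key count: an inverted `x` of order `r` moving `P` forces `|V₁ˣ : C(V)|` to be large. -/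
theorem relIndex_conj_ge {P V V₁ : Subgroup G} (hP : IsPGroup 2 P) (hV : IsElementaryAbelian 2 V)
    (hV₁ : V₁ = V ⊓ P) (hPV : P ≤ normalizer (V : Set G)) {v x : G} (hv : v ∈ V)
    (hvP : v ∈ normalizer (P : Set G)) (hxP : x ∈ normalizer (P : Set G)) {r e : ℕ} (hr : r.Prime) (hr2 : r ≠ 2)
    (hmin : ∀ j, 0 < j → r ∣ 2 ^ j - 1 → 2 * e ≤ j + 1) (hxo : orderOf x = r)
    (hinv : v * x * v⁻¹ * x ∈ P) (hxC : x ∉ centralizer (P : Set G)) :
    2 ^ e ≤ (centralizer (V : Set G)).relIndex (V₁.map (MulAut.conj x).toMonoidHom) ∧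
      1 < (centralizer (V : Set G)).relIndex (V₁.map (MulAut.conj x).toMonoidHom) := by
  classical
  haveI : Fact (Nat.Prime 2) := ⟨Nat.prime_two⟩
  haveI := Fact.mk hr
  set Φ := (frattini P).map P.subtype with hΦ
  set Y := normalizer (P : Set G) with hY
  have hΦP : Φ ≤ P := map_subtype_le _
  have hPY : P ≤ Y := Subgroup.le_normalizer
  have hYΦ : Y ≤ normalizer (Φ : Set G) := ActKer.le_normalizer_frattini P
  set ΦY := Φ.subgroupOf Y with hΦY
  haveI : ΦY.Normal := normal_subgroupOf_of_le_normalizer hYΦ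
  set π := QuotientGroup.mk' ΦY with hπ
  have hπF : ∀ a : Y, π a = 1 ↔ (a : G) ∈ Φ := fun a => QuotientGroup.eq_one_iff a
  set M := (P.subgroupOf Y).map π with hMdef
  have hMe : IsElementaryAbelian 2 M := by
    refine PGroup.isElementaryAbelian_mk ?_ ?_
    · rintro _ ⟨a, ha, rfl⟩ _ ⟨b, hb, rfl⟩
      rw [← commutatorElement_eq_one_iff_mul_comm, ← map_commutatorElement, hπF]
      exact ⟨⁅⟨(a : G), ha⟩, ⟨(b : G), hb⟩⁆, CfsgLib.PGroup.commutator_le_frattini hP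
        (Subgroup.commutator_mem_commutator (Subgroup.mem_top _) (Subgroup.mem_top _)), rfl⟩
    · rintro _ ⟨a, ha, rfl⟩
      rw [← map_pow, hπF]
      exact ⟨⟨(a : G), ha⟩ ^ 2, CfsgLib.PGroup.pow_mem_frattini hP _, rfl⟩
  have hMc : ∀ a ∈ M, ∀ b ∈ M, a * b = b * a := fun a ha b hb => PGroup.elemAb_comm hMe ha hb
  haveI hMn : M.Normal :=
    (Subgroup.normal_in_normalizer : (P.subgroupOf Y).Normal).map π (QuotientGroup.mk'_surjective _)
  set xY : Y := ⟨x, hxP⟩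
  set vY : Y := ⟨v, hvP⟩
  set x' := π xY with hx'
  set v' := π vY with hv'
  set U := (V₁.subgroupOf Y).map π with hU
  have hV₁P : V₁ ≤ P := hV₁.le.trans inf_le_right
  have hV₁V : V₁ ≤ V := hV₁.le.trans inf_le_left
  have hUM : U ≤ M := map_mono (Subgroup.comap_mono hV₁P)
  have hxodd : Odd r := hr.odd_of_ne_two hr2
  have hxr : x' ^ r = 1 := by
    rw [hx', ← map_pow, show xY ^ r = 1 from Subtype.ext (by
      rw [SubmonoidClass.coe_pow]; show x ^ r = 1; rw [← hxo, pow_orderOf_eq_one]), map_one]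
  have hmove : ∃ m ∈ M, x' * m ≠ m * x' := by
    by_contra hall
    push Not at hall
    refine hxC (PStab.mem_centralizer_of_frattini hP hxP ?_ fun p hp => ?_)
    · rw [hxo]; exact (Nat.coprime_primes hr Nat.prime_two).2 hr2
    · refine (hπF (⁅xY, (⟨p, hPY hp⟩ : Y)⁆)).1 ?_
      rw [map_commutatorElement, commutatorElement_eq_one_iff_mul_comm]
      exact hall _ ⟨⟨p, hPY hp⟩, hp, rfl⟩
  have hx'o : orderOf x' = r := orderOf_eq_prime hxr fun h => by
    obtain ⟨m, -, hm⟩ := hmove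
    exact hm (by rw [h, one_mul, mul_one])
  set C₀ := M ⊓ centralizer ({x'} : Set (Y ⧸ ΦY)) with hC₀
  have hC₀x : ∀ c ∈ C₀, x' * c = c * x' := fun c hc => (mem_centralizer_singleton_iff.1 hc.2).symm
  -- `v'` fixes `U` and has commutators in `U`
  have hvU : ∀ u ∈ U, v' * u = u * v' := by
    rintro _ ⟨u, hu, rfl⟩
    rw [hv', ← map_mul, ← map_mul]
    exact congrArg π (Subtype.ext (PGroup.elemAb_comm hV hv (hV₁V hu)))
  have hcommU : ∀ m ∈ M, v' * m * v'⁻¹ * m⁻¹ ∈ U := by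
    rintro _ ⟨⟨p, hpY⟩, hp, rfl⟩
    have hp' : p ∈ P := hp
    refine ⟨vY * ⟨p, hpY⟩ * vY⁻¹ * ⟨p, hpY⟩⁻¹, mem_subgroupOf.2 ?_, by
      rw [map_mul, map_mul, map_mul, map_inv, map_inv]⟩
    show v * p * v⁻¹ * p⁻¹ ∈ V₁
    rw [hV₁]
    refine ⟨?_, P.mul_mem ((mem_normalizer_iff.1 hvP p).1 hp') (P.inv_mem hp')⟩
    have h1 := (mem_normalizer_iff.1 (hPV hp') _).1 (V.inv_mem hv)
    simpa [mul_assoc] using V.mul_mem hv h1
  have hv2 : v' * v' = 1 := by
    rw [hv', ← map_mul, show vY * vY = 1 from Subtype.ext (by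
      show v * v = 1; rw [← pow_two]; exact hV.2 v hv), map_one]
  set v'' := x' * v' * x'⁻¹ with hv''
  obtain ⟨hM0, hinvM⟩ : ∃ h₀ ∈ M, v' * x' * v'⁻¹ * x' = h₀ :=
    ⟨_, ⟨vY * xY * vY⁻¹ * xY, mem_subgroupOf.2 hinv, rfl⟩, by simp only [hv', hx', map_mul, map_inv]⟩
  -- an element of `M` fixed by `v'` and `v''` modulo `C₀` is fixed by `x'`
  have hfix : ∀ m ∈ M, v' * m * v'⁻¹ * m⁻¹ ∈ C₀ → v'' * m * v''⁻¹ * m⁻¹ ∈ C₀ → m ∈ C₀ := by
    intro m hm h1 h2
    obtain ⟨hh, hh'⟩ := hinvM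
    set d₁ := v' * m * v'⁻¹ * m⁻¹ with hd₁
    set d₂ := v'' * m * v''⁻¹ * m⁻¹ with hd₂
    have hv'd : v' * d₁ = d₁ * v' := hvU _ (hcommU m hm)
    have hxd : x' * d₁ = d₁ * x' := hC₀x _ h1
    have hv''d : v'' * d₁ * v''⁻¹ = d₁ := by
      have hc : Commute v'' d₁ := ((show Commute x' d₁ from hxd).mul_left hv'd).mul_left (show Commute x' d₁ from hxd).inv_left
      rw [hc.eq, mul_inv_cancel_right]
    have hvi : v'⁻¹ = v' := inv_eq_of_mul_eq_one_right hv2
    have key : x' * x' * m * (x' * x')⁻¹ = (d₁ * d₂) * m := by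
      have e1 : v'' * v' = x' * (x' * (v' * x' * v'⁻¹ * x')⁻¹) := by
        rw [hv'']
        calc x' * v' * x'⁻¹ * v' = x' * (v' * x'⁻¹ * v') := by group
          _ = x' * (x' * (x'⁻¹ * (v' * x'⁻¹ * v'))) := by group
          _ = _ := by congr 2; rw [hvi]; simp only [mul_inv_rev, hvi]; group
      rw [hh'] at e1
      have e2 : hM0⁻¹ * m * (hM0⁻¹)⁻¹ = m := by
        rw [hMc _ (M.inv_mem hh) _ hm, mul_inv_cancel_right]
      calc x' * x' * m * (x' * x')⁻¹ = x' * x' * (hM0⁻¹ * m * (hM0⁻¹)⁻¹) * (x' * x')⁻¹ := by rw [e2]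
        _ = (x' * (x' * hM0⁻¹)) * m * (x' * (x' * hM0⁻¹))⁻¹ := by group
        _ = (v'' * v') * m * (v'' * v')⁻¹ := by rw [e1]
        _ = v'' * (d₁ * m) * v''⁻¹ := by rw [hd₁]; group
        _ = (v'' * d₁ * v''⁻¹) * (v'' * m * v''⁻¹) := by group
        _ = d₁ * (d₂ * m) := by rw [hv''d, hd₂]; group
        _ = _ := by group
    have hd : d₁ * d₂ ∈ C₀ := C₀.mul_mem h1 h2
    have hx2d : x' * x' * (d₁ * d₂) = d₁ * d₂ * (x' * x') :=
      ((show Commute x' (d₁ * d₂) from hC₀x _ hd).mul_left (show Commute x' (d₁ * d₂) from hC₀x _ hd)).eq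
    have hodd : Odd (orderOf (x' * x')) := by
      rw [← pow_two, orderOf_pow' x' two_ne_zero, hx'o,
        ((Nat.coprime_primes hr Nat.prime_two).2 hr2).gcd_eq_one, Nat.div_one]
      exact hxodd
    have hd1 := exists_coprime_fixed (M := M) (fun a ha => hMe.2 a ha) hd.1 hodd hx2d key
    rw [hd1, one_mul] at key
    have hc : Commute (x' * x') m := mul_inv_eq_iff_eq_mul.1 key
    obtain ⟨k, hk⟩ := hxodd
    have hxx : x' = (x' * x') ^ (k + 1) := by
      rw [← pow_two, ← pow_mul, show 2 * (k + 1) = r + 1 by omega, pow_succ, hxr, one_mul]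
    exact ⟨hm, mem_centralizer_singleton_iff.2 (by rw [hxx]; exact ((hc.pow_left (k + 1)).eq).symm)⟩
  -- the two commutator maps
  have hconjM : ∀ (g : Y ⧸ ΦY), ∀ m ∈ M, g * m * g⁻¹ ∈ M := fun g m hm => hMn.conj_mem m hm g
  have hhom : ∀ g : Y ⧸ ΦY, ∃ f : M →* M, ∀ m : M, ((f m : M) : Y ⧸ ΦY) = g * m * g⁻¹ * (m : Y ⧸ ΦY)⁻¹ := by
    intro g
    refine ⟨MonoidHom.mk' (fun m => ⟨g * m * g⁻¹ * (m : Y ⧸ ΦY)⁻¹, M.mul_mem (hconjM g m m.2) (M.inv_mem m.2)⟩)
      fun a b => Subtype.ext ?_, fun m => rfl⟩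
    show g * ((a : Y ⧸ ΦY) * b) * g⁻¹ * ((a : Y ⧸ ΦY) * b)⁻¹ =
      g * a * g⁻¹ * (a : Y ⧸ ΦY)⁻¹ * (g * b * g⁻¹ * (b : Y ⧸ ΦY)⁻¹)
    calc g * ((a : Y ⧸ ΦY) * b) * g⁻¹ * ((a : Y ⧸ ΦY) * b)⁻¹
        = g * a * g⁻¹ * ((g * b * g⁻¹ * (b : Y ⧸ ΦY)⁻¹) * (a : Y ⧸ ΦY)⁻¹) := by group
      _ = g * a * g⁻¹ * ((a : Y ⧸ ΦY)⁻¹ * (g * b * g⁻¹ * (b : Y ⧸ ΦY)⁻¹)) := by
          rw [hMc _ (M.mul_mem (hconjM g b b.2) (M.inv_mem b.2)) _ (M.inv_mem a.2)]
      _ = _ := by group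
  obtain ⟨f₁, hf₁⟩ := hhom v'
  obtain ⟨f₂, hf₂⟩ := hhom v''
  set U'' := U.map (MulAut.conj x').toMonoidHom with hU''
  have hC₀conj : C₀.map (MulAut.conj x').toMonoidHom = C₀ := by
    ext c
    constructor
    · rintro ⟨b, hb, rfl⟩
      show x' * b * x'⁻¹ ∈ C₀
      rw [hC₀x b hb, mul_inv_cancel_right]; exact hb
    · intro hc
      exact ⟨c, hc, by show x' * c * x'⁻¹ = c; rw [hC₀x c hc, mul_inv_cancel_right]⟩
  set s := C₀.relIndex U with hs
  have hs'' : C₀.relIndex U'' = s := by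
    rw [hU'', hs]
    conv_lhs => rw [← hC₀conj]
    exact Subgroup.relIndex_map_map_of_injective _ _ (MulAut.conj x').injective
  have hU''M : U'' ≤ M := by
    rintro _ ⟨u, hu, rfl⟩
    exact hconjM x' u (hUM hu)
  have hbound : ∀ (f : M →* M) (W : Subgroup (Y ⧸ ΦY)), (∀ m : M, ((f m : M) : Y ⧸ ΦY) ∈ W) → W ≤ M →
      ((C₀.subgroupOf M).comap f).index ≤ C₀.relIndex W := by
    intro f W hf hW
    rw [← Subgroup.relIndex_subgroupOf hW, Subgroup.index_comap]
    refine Subgroup.relIndex_le_of_le_right (fun z hz => ?_) Subgroup.FiniteIndex.index_ne_zero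
    obtain ⟨m, rfl⟩ := hz
    exact hf m
  have h1 := hbound f₁ U (fun m => by rw [hf₁]; exact hcommU m m.2) hUM
  have h2 := hbound f₂ U'' (fun m => by
    rw [hf₂, hU'']
    refine ⟨v' * (x'⁻¹ * m * x') * v'⁻¹ * (x'⁻¹ * m * x')⁻¹,
      hcommU _ (by simpa using hconjM x'⁻¹ m m.2), ?_⟩
    show x' * (v' * (x'⁻¹ * m * x') * v'⁻¹ * (x'⁻¹ * m * x')⁻¹) * x'⁻¹ = _
    rw [hv'']; group) hU''M
  have hidx : C₀.relIndex M ≤ s * s := by
    have hle : (C₀.subgroupOf M).comap f₁ ⊓ (C₀.subgroupOf M).comap f₂ ≤ C₀.subgroupOf M := by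
      rintro m ⟨hm1, hm2⟩
      rw [mem_subgroupOf]
      refine hfix m m.2 ?_ ?_
      · rw [← hf₁]; exact hm1
      · rw [← hf₂]; exact hm2
    calc C₀.relIndex M = (C₀.subgroupOf M).index := rfl
      _ ≤ ((C₀.subgroupOf M).comap f₁ ⊓ (C₀.subgroupOf M).comap f₂).index :=
          Nat.le_of_dvd (Nat.pos_of_ne_zero Subgroup.FiniteIndex.index_ne_zero) (Subgroup.index_dvd_of_le hle)
      _ ≤ _ * _ := Subgroup.index_inf_le
      _ ≤ s * s := Nat.mul_le_mul h1 (hs'' ▸ h2)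
  obtain ⟨j, hj0, hjd, hj⟩ := FaithfulBound.relIndex_of_element hMe (z := x')
    (by rw [normalizer_eq_top_iff.2 hMn]; trivial) (r := r) (a := 0) hr2 (by rw [zero_add, pow_one]; exact hx'o)
    (by simpa using hmove) (inf_le_left : C₀ ≤ M) (fun c hc => hC₀x c hc)
  have hj2 := hmin j hj0 (by simpa using hjd)
  obtain ⟨t, ht⟩ := IsPGroup.iff_card.1 (PGroup.elemAb_isPGroup (PGroup.elemAb_mono hMe hUM))
  have hsd : s ∣ 2 ^ t := ht ▸ Subgroup.index_dvd_card _ |>.trans (dvd_of_eq rfl)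
  obtain ⟨i, -, hi⟩ := (Nat.dvd_prime_pow Nat.prime_two).1 hsd
  have h2i : 2 ^ j ≤ 2 ^ (i + i) := by rw [pow_add, ← hi]; exact hj.trans hidx
  have hji : j ≤ i + i := (Nat.pow_le_pow_iff_right (by norm_num)).1 h2i
  -- from `U` to `V₁ˣ`
  set R := V₁.map (MulAut.conj x).toMonoidHom with hR
  have hRY : R ≤ Y := by
    rintro _ ⟨z, hz, rfl⟩
    exact Y.mul_mem (Y.mul_mem hxP (hPY (hV₁P hz))) (Y.inv_mem hxP)
  have hRπ : (R.subgroupOf Y).map π = U'' := by
    ext z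
    constructor
    · rintro ⟨a, ⟨b, hb, hab⟩, rfl⟩
      refine ⟨π ⟨b, hPY (hV₁P hb)⟩, ⟨_, mem_subgroupOf.2 hb, rfl⟩, ?_⟩
      show x' * π _ * x'⁻¹ = π a
      rw [hx', ← map_inv, ← map_mul, ← map_mul]
      exact congrArg π (Subtype.ext hab)
    · rintro ⟨_, ⟨b, hb, rfl⟩, rfl⟩
      refine ⟨xY * b * xY⁻¹, mem_subgroupOf.2 ⟨b, mem_subgroupOf.1 hb, rfl⟩, ?_⟩
      show π (xY * b * xY⁻¹) = x' * π b * x'⁻¹
      rw [map_mul, map_mul, map_inv]
  have hstep : s ≤ (centralizer (V : Set G)).relIndex R := by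
    rw [← hs'', ← hRπ, ← Subgroup.relIndex_comap, ← Subgroup.relIndex_subgroupOf hRY,
      ← Subgroup.inf_relIndex_right (centralizer (V : Set G) |>.subgroupOf Y)]
    refine Subgroup.relIndex_le_of_le_left ?_ Subgroup.FiniteIndex.index_ne_zero
    rintro a ⟨haC, haR⟩
    have haU'' : π a ∈ U'' := hRπ ▸ ⟨a, haR, rfl⟩
    show π a ∈ C₀
    refine hfix _ (hU''M haU'') ?_ ?_
    · have : v' * π a = π a * v' := by
        rw [hv', ← map_mul, ← map_mul]
        exact congrArg π (Subtype.ext (mem_centralizer_iff.1 (mem_subgroupOf.1 haC) v hv))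
      rw [this, mul_inv_cancel_right, mul_inv_cancel]; exact one_mem _
    · obtain ⟨u, hu, hue⟩ := haU''
      have hue' : x' * u * x'⁻¹ = π a := hue
      have : v'' * π a * v''⁻¹ = π a := by
        rw [hv'', ← hue']
        calc x' * v' * x'⁻¹ * (x' * u * x'⁻¹) * (x' * v' * x'⁻¹)⁻¹ = x' * (v' * u * v'⁻¹) * x'⁻¹ := by group
          _ = _ := by rw [hvU u hu, mul_inv_cancel_right]
      rw [this, mul_inv_cancel]; exact one_mem _
  rw [hi] at hstep
  refine ⟨(Nat.pow_le_pow_right (by norm_num) (by omega)).trans hstep, lt_of_lt_of_le ?_ hstep⟩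
  exact Nat.one_lt_pow (by omega) (by norm_num)

/-- A normal subgroup of `S` with the index property lies in `O₂(G)`. -/
theorem le_pCore_of_indexed (h : Hyp G) (S : Sylow 2 G) {V : Subgroup G} (hVS : V ≤ (S : Subgroup G))
    (hSV : (S : Subgroup G) ≤ normalizer (V : Set G)) (hVe : IsElementaryAbelian 2 V)
    (hI : Indexed (S : Subgroup G) V) : V ≤ pCore 2 G := by
  classical
  haveI : Fact (Nat.Prime 2) := ⟨Nat.prime_two⟩
  by_contra hVH
  set H := pCore 2 G with hH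
  have hHS : H ≤ (S : Subgroup G) := CfsgLib.Cores.pCore_le_sylow S
  set q := QuotientGroup.mk' H with hq
  have hne : V.map q ≠ ⊥ := fun hb => hVH (by
    rw [Subgroup.map_eq_bot_iff, QuotientGroup.ker_mk'] at hb; exact hb)
  obtain ⟨Bb, ab, xb, r, e, hBb, hab, hr, hr2, hmin, hxo, hinv, hBc, hcard⟩ :=
    hasPair (sThreeFree_core h) (CfsgLib.Cores.pCore_quotient_self (G := G) 2)
      (fun K hK => (h.comp.of_surjective q (QuotientGroup.mk'_surjective H)).component hK)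
      (PGroup.elemAb_map hVe q) hne
  haveI := Fact.mk hr
  obtain ⟨v, hv, rfl⟩ := hab
  obtain ⟨x₀, rfl⟩ := QuotientGroup.mk'_surjective H xb
  obtain ⟨m, hxm, hxco⟩ := Offender.exists_coprime_lift (p := 2) q x₀
    (by rw [hxo]; exact (Nat.coprime_primes hr Nat.prime_two).2 hr2)
  set x := x₀ ^ m with hx
  rw [← hxm] at hxo hinv hBc
  have hxo' : orderOf x = r := by
    have h1 : x ^ r ∈ H := (QuotientGroup.eq_one_iff _).1 (by
      show q (x ^ r) = 1; rw [map_pow, ← hxo, pow_orderOf_eq_one])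
    have h2 : x ^ r = 1 := LocalEven.eq_one_of_pow_eq_one_of_pGroup (CfsgLib.Cores.isPGroup_pCore 2) h1
      (hxco.coprime_dvd_left (orderOf_pow_dvd r)) (pow_orderOf_eq_one _)
    refine orderOf_eq_prime h2 fun h3 => hr.ne_one ?_
    rw [← hxo, h3, map_one, orderOf_one]
  set P := Bb.comap q with hP
  have hHP : H ≤ P := fun z hz => by
    show q z ∈ Bb
    rw [show q z = 1 from (QuotientGroup.eq_one_iff z).2 hz]; exact one_mem _
  have hPp : IsPGroup 2 P := by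
    refine IsPGroup.comap_of_ker_isPGroup ((PGroup.elemAb_isPGroup (PGroup.elemAb_map hVe q)).to_le hBb) _ ?_
    rw [QuotientGroup.ker_mk']; exact CfsgLib.Cores.isPGroup_pCore 2
  have hPVH : ∀ p ∈ P, ∃ w ∈ V, w⁻¹ * p ∈ H := fun p hp => by
    obtain ⟨w, hw, hwp⟩ := hBb hp
    exact ⟨w, hw, QuotientGroup.eq.1 hwp⟩
  have hPS : P ≤ (S : Subgroup G) := fun p hp => by
    obtain ⟨w, hw, hwp⟩ := hPVH p hp
    simpa using mul_mem (hVS hw) (hHS hwp)
  set V₁ := V ⊓ P with hV₁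
  have hnorm : ∀ g : G, (∀ b ∈ Bb, q g * b = b * q g) → g ∈ normalizer (P : Set G) := by
    intro g hg
    refine mem_normalizer_iff.2 fun z => ?_
    show q z ∈ Bb ↔ q (g * z * g⁻¹) ∈ Bb
    rw [map_mul, map_mul, map_inv]
    constructor
    · intro hz; rwa [hg _ hz, mul_inv_cancel_right]
    · intro hz
      have h1 := hg _ hz
      have h2 : q g * q z * (q g)⁻¹ = q z := by
        have h4 := congrArg (fun w => (q g)⁻¹ * w) h1
        simp only [inv_mul_cancel_left] at h4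
        rw [h4]; group
      rwa [h2] at hz
  have hxP : x ∈ normalizer (P : Set G) := hnorm x fun b hb => (hBc b hb).eq.symm
  have hvP : v ∈ normalizer (P : Set G) :=
    hnorm v fun b hb => PGroup.elemAb_comm (PGroup.elemAb_map hVe q) ⟨v, hv, rfl⟩ (hBb hb)
  have hinvP : ∀ {y : G}, q v * q y * (q v)⁻¹ = (q y)⁻¹ → v * y * v⁻¹ * y ∈ P := fun {y} hy => by
    show q _ ∈ Bb
    rw [map_mul, map_mul, map_mul, map_inv, hy, inv_mul_cancel]; exact one_mem _
  have hxC : ∀ {y : G}, orderOf y = r → y ∉ centralizer (P : Set G) := fun {y} hy hc => by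
    have hyH : y ∈ H := h.charTwo (centralizer_le hHP hc)
    have := LocalEven.eq_one_of_pow_eq_one_of_pGroup (CfsgLib.Cores.isPGroup_pCore 2 : IsPGroup 2 H) hyH
      (by rw [hy]; exact (Nat.coprime_primes hr Nat.prime_two).2 hr2) (pow_orderOf_eq_one _)
    rw [this, orderOf_one] at hy
    exact hr.ne_one hy.symm
  obtain ⟨hb, hb1⟩ := relIndex_conj_ge hPp hVe hV₁ (hPS.trans hSV) hv hvP hxP hr hr2 hmin hxo'
    (hinvP hinv) (hxC hxo')
  have hxo'' : orderOf x⁻¹ = r := by rw [orderOf_inv, hxo']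
  have hxP' : x⁻¹ ∈ normalizer (P : Set G) := inv_mem hxP
  obtain ⟨hb', hb1'⟩ := relIndex_conj_ge hPp hVe hV₁ (hPS.trans hSV) hv hvP hxP' hr hr2 hmin hxo''
    (hinvP (by
      rw [map_inv]
      have h9 := congrArg (fun z => z⁻¹) hinv
      rw [inv_inv]; simpa [mul_assoc] using h9)) (hxC hxo'')
  set K := V₁.relIndex V with hK
  -- the two inequalities
  have key : ∀ y : G, y ∈ normalizer (P : Set G) →
      1 < (centralizer (V : Set G)).relIndex (V₁.map (MulAut.conj y).toMonoidHom) →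
      (centralizer (V : Set G)).relIndex (V₁.map (MulAut.conj y).toMonoidHom) ^ 3 <
        (K * (centralizer (V : Set G)).relIndex (V₁.map (MulAut.conj y⁻¹).toMonoidHom)) ^ 2 := by
    intro y hy hy1
    set R := V₁.map (MulAut.conj y).toMonoidHom with hR
    have hRe : IsElementaryAbelian 2 R := PGroup.elemAb_map (PGroup.elemAb_mono hVe inf_le_left) _
    have hRS : R ≤ (S : Subgroup G) := by
      rintro _ ⟨z, hz, rfl⟩
      exact hPS ((mem_normalizer_iff.1 hy z).1 hz.2)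
    refine (hI.index_lt hRS ?_ ?_ ?_).trans_le (Nat.pow_le_pow_left ?_ 2)
    · exact commutator_le.2 fun a ha b hb => by
        rw [commutatorElement_eq_one_iff_mul_comm.2 (PGroup.elemAb_comm hRe ha hb)]; exact one_mem _
    · exact fun a ha => by rw [hRe.2 a ha]; exact one_mem _
    · exact fun hle => by rw [Subgroup.relIndex_eq_one.2 hle] at hy1; omega
    · have e1 := Subgroup.relIndex_mul_relIndex (centralizer (R : Set G) ⊓ V₁) V₁ V inf_le_right inf_le_left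
      rw [Subgroup.inf_relIndex_right] at e1
      have e2 : (centralizer (R : Set G)).relIndex V ≤ (centralizer (R : Set G) ⊓ V₁).relIndex V :=
        Subgroup.relIndex_le_of_le_left inf_le_left Subgroup.FiniteIndex.index_ne_zero
      refine e2.trans (e1.ge.trans ?_)
      rw [mul_comm]
      refine Nat.mul_le_mul le_rfl ?_
      have e3 : (centralizer (R : Set G)).relIndex V₁ ≤
          (centralizer ((V.map (MulAut.conj y).toMonoidHom : Subgroup G) : Set G)).relIndex V₁ :=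
        Subgroup.relIndex_le_of_le_left (centralizer_le (map_mono inf_le_left)) Subgroup.FiniteIndex.index_ne_zero
      refine e3.trans (le_of_eq ?_)
      rw [← Subgroup.relIndex_map_map_of_injective (f := (MulAut.conj y⁻¹).toMonoidHom) _ _ (MulAut.conj y⁻¹).injective,
        map_centralizer_of_injective _ (MulAut.conj y⁻¹).injective, MonoidHom.range_eq_top.2 (MulAut.conj y⁻¹).surjective,
        top_inf_eq, S3Bound.map_conj_mul, inv_mul_cancel, S3Bound.map_conj_one]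
  have hK2 : K ^ 2 ≤ 2 ^ e := by
    have hm : V₁.map q = Bb := by
      refine le_antisymm ((map_mono inf_le_right).trans (Subgroup.map_comap_le _ _)) fun z hz => ?_
      obtain ⟨w, hw, rfl⟩ := hBb hz
      exact ⟨w, ⟨hw, hz⟩, rfl⟩
    have e1 := Subgroup.relIndex_mul_relIndex ⊥ V₁ V bot_le inf_le_left
    rw [relIndex_bot_left, relIndex_bot_left, card_map_mk H V, card_map_mk H V₁, hm] at e1
    have hker : V₁ ⊓ H = V ⊓ H := le_antisymm (inf_le_inf_right _ inf_le_left)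
      fun z hz => ⟨⟨hz.1, hHP hz.2⟩, hz.2⟩
    rw [hker] at e1
    have e2 : Nat.card Bb * K = Nat.card ↥(V.map q) := by
      refine Nat.eq_of_mul_eq_mul_right (m := Nat.card ↥(V ⊓ H)) Nat.card_pos ?_
      rw [← e1]; ring
    have e3 : Nat.card Bb ^ 2 * K ^ 2 ≤ Nat.card Bb ^ 2 * 2 ^ e := by
      rw [← mul_pow, e2, mul_comm]; exact hcard
    exact Nat.le_of_mul_le_mul_left e3 (pow_pos Nat.card_pos 2)
  have h1 := key x hxP hb1
  have h2 := key x⁻¹ hxP' hb1'
  rw [inv_inv] at h2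
  set b := (centralizer (V : Set G)).relIndex (V₁.map (MulAut.conj x).toMonoidHom)
  set b' := (centralizer (V : Set G)).relIndex (V₁.map (MulAut.conj x⁻¹).toMonoidHom)
  have h3 := Nat.mul_lt_mul'' h1 h2
  have h4 : b ^ 2 * b' ^ 2 * (b * b') < b ^ 2 * b' ^ 2 * (K ^ 2 * K ^ 2) := by
    calc b ^ 2 * b' ^ 2 * (b * b') = b ^ 3 * b' ^ 3 := by ring
      _ < _ := h3
      _ = _ := by ring
  have h5 := Nat.lt_of_mul_lt_mul_left h4
  exact absurd (Nat.mul_le_mul (hK2.trans hb) (hK2.trans hb')) (not_le.2 h5)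

end CfsgLib.SFactor
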