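import Cfsg.Agent.Lib.SFactor.Pair
import Cfsg.Agent.Lib.LocalEven.S4Criterion
import Cfsg.Agent.Lib.LocalEven.CharP
import Cfsg.Agent.S0205

/-!
The hypotheses of Glauberman's `2`-factorization theorem and their inheritance.
-/

set_option autoImplicit false

namespace CfsgLib.SFactor

open Subgroup Cfsg
open CfsgLib.LocalEven

universe u

variable {G : Type u} [Group G]

/-- The restriction on the non-abelian composition factors. -/
abbrev Komp (G : Type u) [Group G] : Prop :=
  IsCompositionKGroupWith IsSuzukiOrPSL2OddPowerThree G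

theorem sporPSL_of_equiv {X Y : Type u} [Group X] [Group Y] (e : Y ≃* X)
    (h : IsSuzukiOrPSL2OddPowerThree X) : IsSuzukiOrPSL2OddPowerThree Y := by
  rcases h with ⟨F, i1, i2, m, hm, hF, ⟨e'⟩⟩ | ⟨F, i1, i2, n, hF, ⟨e'⟩⟩
  · exact Or.inl ⟨F, i1, i2, m, hm, hF, ⟨e.trans e'⟩⟩
  · exact Or.inr ⟨F, i1, i2, n, hF, ⟨e.trans e'⟩⟩

theorem Komp.of_surjective_hom (hG : Komp G) {H : Subgroup G} (hH : H.IsSubnormal) {Q : Type u}
    [Group Q] [IsSimpleGroup Q] (hQ : ¬ IsMulCommutative Q) (f : ↥H →* Q) (hf : Function.Surjective f) :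
    IsSuzukiOrPSL2OddPowerThree Q := by
  set e := QuotientGroup.quotientKerEquivOfSurjective f hf
  haveI : IsSimpleGroup (↥H ⧸ f.ker) := e.isSimpleGroup
  refine sporPSL_of_equiv e.symm (hG H hH f.ker inferInstance fun hc => hQ ⟨⟨fun a b => ?_⟩⟩)
  apply e.symm.injective
  rw [map_mul, map_mul]
  exact hc.is_comm.comm _ _

theorem Komp.subnormal (hG : Komp G) {N : Subgroup G} (hN : N.IsSubnormal) : Komp ↥N := by
  intro H hH M hM hs hna
  refine hG.of_surjective_hom (Subgroup.IsSubnormal.trans' hH hN) hna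
    ((QuotientGroup.mk' M).comp (H.equivMapOfInjective N.subtype N.subtype_injective).symm.toMonoidHom) ?_
  exact (QuotientGroup.mk'_surjective M).comp (MulEquiv.surjective _)

theorem Komp.of_surjective {G' : Type u} [Group G'] (hG : Komp G) (f : G →* G')
    (hf : Function.Surjective f) : Komp G' := by
  intro H hH M hM hs hna
  refine hG.of_surjective_hom (hH.comap f) hna
    ((QuotientGroup.mk' M).comp (f.subgroupComap H)) ?_
  exact (QuotientGroup.mk'_surjective M).comp (MonoidHom.subgroupComap_surjective_of_surjective f _ hf)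

theorem Komp.congr {G' : Type u} [Group G'] (hG : Komp G) (e : G ≃* G') : Komp G' :=
  hG.of_surjective e.toMonoidHom e.surjective

theorem komp_of_solvable [Group.IsSolvable G] : Komp G := by
  intro H _ N hN hs hna
  exfalso
  haveI : Group.IsSolvable (↥H ⧸ N) :=
    Group.isSolvable_of_surjective (f := QuotientGroup.mk' N) (QuotientGroup.mk'_surjective N)
  exact hna ⟨⟨fun a b => IsSimpleGroup.comm_iff_isSolvable.2 inferInstance a b⟩⟩

theorem komp_ext {N : Subgroup G} [hNn : N.Normal] (h1 : Komp ↥N) (h2 : Komp (G ⧸ N)) : Komp G := by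
  intro H hH M hM hs hna
  set f := QuotientGroup.mk' M with hf
  haveI : ((N.subgroupOf H).map f).Normal :=
    (inferInstance : (N.subgroupOf H).Normal).map f (QuotientGroup.mk'_surjective M)
  rcases (inferInstance : ((N.subgroupOf H).map f).Normal).eq_bot_or_eq_top with h | h
  · have hle : (N.subgroupOf H) ≤ f.ker := (Subgroup.map_eq_bot_iff _).1 h
    set q := (QuotientGroup.mk' N).subgroupMap H with hq
    have hqs : Function.Surjective q := MonoidHom.subgroupMap_surjective _ H
    have hqk : q.ker ≤ f.ker := fun x hx => hle (by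
      rw [mem_subgroupOf, ← QuotientGroup.eq_one_iff]
      exact congrArg Subtype.val hx)
    refine h2.of_surjective_hom (hH.map (QuotientGroup.mk'_surjective N)) hna
      (q.liftOfSurjective hqs ⟨f, hqk⟩) fun z => ?_
    obtain ⟨x, rfl⟩ := QuotientGroup.mk'_surjective M z
    exact ⟨q x, MonoidHom.liftOfRightInverse_comp_apply _ _ _ _ _⟩
  · refine h1.of_surjective_hom (hH.subgroupOf (K := N)) hna
      (f.comp ((MonoidHom.mk' (fun x : ↥(H.subgroupOf N) => (⟨((x : ↥N) : G), x.2⟩ : ↥H)) fun _ _ => rfl))) ?_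
    intro z
    obtain ⟨⟨x, hxH⟩, hxN, rfl⟩ := (h ▸ mem_top z : z ∈ (N.subgroupOf H).map f)
    exact ⟨⟨⟨x, mem_subgroupOf.1 hxN⟩, hxH⟩, rfl⟩

/-- A finite group with a normal `2`-subgroup of odd index is solvable. -/
theorem solvable_of_odd_index [Finite G] (T : Subgroup G) [T.Normal] (hT : IsPGroup 2 T)
    (h : Odd T.index) : Group.IsSolvable G := by
  haveI : Fact (Nat.Prime 2) := ⟨Nat.prime_two⟩
  haveI : Group.IsSolvable (G ⧸ T) := Cfsg.Agent.S0205.result (by rwa [← Subgroup.index_eq_card])
  haveI : Group.IsNilpotent ↥T := hT.isNilpotent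
  exact Group.isSolvable_of_ker_le_range T.subtype (QuotientGroup.mk' T)
    (by rw [QuotientGroup.ker_mk', Subgroup.range_subtype])

/-- `S₄`-free, restricted composition factors, characteristic `2`. -/
structure Hyp (G : Type u) [Group G] : Prop where
  free : ¬ Involves (Equiv.Perm (Fin 4)) G
  comp : Komp G
  charTwo : centralizer (pCore 2 G : Set G) ≤ pCore 2 G

theorem Hyp.congr [Finite G] {G' : Type u} [Group G'] (h : Hyp G) (e : G ≃* G') : Hyp G' :=
  ⟨fun hi => h.free (Offender.involves_of_injective e.symm.toMonoidHom e.symm.injective hi), h.comp.congr e,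
    hasCharP_congr e h.charTwo⟩

theorem Hyp.subnormal [Finite G] (h : Hyp G) {N : Subgroup G} (hN : N.IsSubnormal) : Hyp ↥N := by
  haveI : Fact (Nat.Prime 2) := ⟨Nat.prime_two⟩
  exact ⟨fun hi => h.free (Offender.involves_of_injective N.subtype N.subtype_injective hi),
    h.comp.subnormal hN, HasCharP.of_isSubnormal h.charTwo hN⟩

theorem Hyp.of_subgroup [Finite G] (h : Hyp G) {X : Subgroup G} (hX : pCore 2 G ≤ X) (hc : Komp ↥X) : Hyp ↥X := by
  haveI : Fact (Nat.Prime 2) := ⟨Nat.prime_two⟩
  exact ⟨fun hi => h.free (Offender.involves_of_injective X.subtype X.subtype_injective hi), hc,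
    HasCharP.of_pCore_le_normalizer h.charTwo (hX.trans Subgroup.le_normalizer)⟩

/-- A quotient by the centraliser of an elementary abelian normal `2`-subgroup is `S₃`-free. -/
theorem sThreeFree [Finite G] (hfree : ¬ Involves (Equiv.Perm (Fin 4)) G) {V C : Subgroup G} [C.Normal]
    [hVn : V.Normal] (hV : IsElementaryAbelian 2 V) (hC : centralizer (V : Set G) ≤ C) :
    ¬ Involves (Equiv.Perm (Fin 3)) (G ⧸ C) := by
  intro hi
  haveI : Fact (Nat.Prime 3) := ⟨Nat.prime_three⟩
  obtain ⟨eq⟩ := Cfsg.Agent.S3755.dihedral_three_equiv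
  obtain ⟨X, f, hf⟩ := Offender.exists_hom_of_involves hi
  set X' := X.comap (QuotientGroup.mk' C)
  set g := (eq.symm.toMonoidHom.comp f).comp ((QuotientGroup.mk' C).subgroupComap X) with hg
  have hgs : Function.Surjective g :=
    (eq.symm.surjective.comp hf).comp
      (MonoidHom.subgroupComap_surjective_of_surjective _ _ (QuotientGroup.mk'_surjective C))
  obtain ⟨x, y, hxo, hyo, hy, hxy⟩ :=
    DihedralCrit.exists_inverted_of_surjective (p := 3) (by norm_num) g hgs (C.subgroupOf X') (fun z hz => by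
      rw [MonoidHom.mem_ker, hg]
      show eq.symm (f ((QuotientGroup.mk' C).subgroupComap X z)) = 1
      have : (QuotientGroup.mk' C).subgroupComap X z = 1 := Subtype.ext ((QuotientGroup.eq_one_iff _).2 hz)
      rw [this, map_one, map_one])
  refine hfree (S4Crit.involves_of_elementary hV (x := (x : G)) (y := (y : G))
    (by rw [normalizer_eq_top_iff.2 hVn]; trivial) (by rw [normalizer_eq_top_iff.2 hVn]; trivial) ?_ ?_ ?_ ?_)
  · obtain ⟨k, hk⟩ := hxo; exact ⟨k, by rw [Subgroup.orderOf_coe, hk]⟩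
  · obtain ⟨k, hk⟩ := hyo; exact ⟨k, by rw [Subgroup.orderOf_coe, hk]⟩
  · exact congrArg (fun z : ↥X' => (z : G)) hxy
  · by_contra hall
    push Not at hall
    refine hy (mem_subgroupOf.2 (hC (mem_centralizer_iff.2 fun v hv => ?_)))
    exact (mul_inv_eq_iff_eq_mul.1 (hall v hv)).symm

/-- The simple quotients of the components of a quotient. -/
theorem Komp.component {Γ : Type u} [Group Γ] (h : Komp Γ) {K : Subgroup Γ} (hK : IsComponent K) :
    IsSuzukiOrPSL2OddPowerThree (↥K ⧸ center ↥K) := by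
  haveI : IsSimpleGroup (↥K ⧸ center ↥K) := hK.2.2
  exact h K hK.1 (center ↥K) inferInstance (CfsgLib.Local.not_isMulCommutative_quotient_center hK.2)

end CfsgLib.SFactor
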