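import Cfsg.Agent.Lib.SFactor.Main
import Cfsg.Agent.Lib.Techniques.Functor.SylowNorm

/-!
Tools for local subgroups: the odd core of a `2`-constrained local subgroup, lifting of normalizers,
the dichotomy on an elementary abelian normal section.
-/

set_option autoImplicit false

namespace CfsgLib.SFactor

open Subgroup Cfsg
open scoped commutatorElement
open CfsgLib.LocalEven
open CfsgLib.PStab

universe u

variable {G : Type u} [Group G] [Finite G]

theorem Indexed.map_injective {H : Type u} [Group H] [Finite H] {T V : Subgroup G} (h : Indexed T V)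
    {f : G →* H} (hf : Function.Injective f) : Indexed (T.map f) (V.map f) := by
  intro R' hR hR1 hR2 hR3
  obtain ⟨R, rfl⟩ : ∃ R : Subgroup G, R.map f = R' := ⟨R'.comap f, by
    rw [Subgroup.map_comap_eq, inf_eq_right]
    exact hR.trans (map_le_range f T)⟩
  have e1 : ∀ X Y : Subgroup G, (X ⊓ centralizer (Y : Set G)).map f =
      X.map f ⊓ centralizer ((Y.map f : Subgroup H) : Set H) := by
    intro X Y
    rw [Subgroup.map_inf _ _ _ hf, map_centralizer_of_injective _ hf, ← inf_assoc,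
      inf_eq_left.2 (map_le_range f X)]
  have hc : ∀ z : G, f z ∈ centralizer ((V.map f : Subgroup H) : Set H) → z ∈ centralizer (V : Set G) :=
    fun z hz => mem_centralizer_iff.2 fun v hv => hf (by
      rw [map_mul, map_mul]; exact mem_centralizer_iff.1 hz _ ⟨v, hv, rfl⟩)
  have h1 := h R ((Subgroup.map_le_map_iff_of_injective hf).1 hR)
    (fun z hz => hc z (hR1 (by rw [← map_commutator]; exact ⟨z, hz, rfl⟩)))
    (fun r hr => hc _ (by rw [map_pow]; exact hR2 _ ⟨r, hr, rfl⟩))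
    (fun hle => hR3 (by
      have h2 := map_mono (f := f) hle
      rw [map_centralizer_of_injective _ hf] at h2
      exact h2.trans inf_le_right))
  rw [← e1, ← e1, ← map_commutator]
  simpa only [Subgroup.card_map_of_injective hf] using h1

/-- The strict inequalities follow from the squared bounds. -/
theorem indexed_of_bound (hfree : ¬ Involves (Equiv.Perm (Fin 4)) G) (hcomp : Komp G) {V : Subgroup G}
    [V.Normal] (hV : IsElementaryAbelian 2 V)
    (hO : pCore 2 (G ⧸ centralizer (V : Set G)) = ⊥) (T : Subgroup G) : Indexed T V := by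
  intro R _ hR1 hR2 hR3
  obtain ⟨hb, hb'⟩ := bound hfree hcomp hV (C := centralizer (V : Set G)) rfl hO hR1 hR2
  set C := centralizer (V : Set G)
  have hlt : Nat.card ↥(R ⊓ C) < Nat.card R := by
    refine lt_of_le_of_ne (Subgroup.card_le_of_le inf_le_left) fun e => hR3 ?_
    exact inf_eq_left.1 (Subgroup.eq_of_le_of_card_ge inf_le_left e.ge)
  set r := Nat.card R
  set rc := Nat.card ↥(R ⊓ C)
  set fx := Nat.card ↥(V ⊓ centralizer (R : Set G))
  have hr : 0 < r := Nat.card_pos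
  have hfx : 0 < fx := Nat.card_pos
  constructor
  · refine Nat.lt_of_mul_lt_mul_right (a := rc)
      (lt_of_lt_of_le (Nat.mul_lt_mul_of_pos_left hlt (show 0 < r ^ 3 * fx ^ 2 by positivity)) ?_)
    calc r ^ 3 * fx ^ 2 * r = (r ^ 2 * fx) ^ 2 := by ring
      _ ≤ _ := Nat.pow_le_pow_left hb 2
      _ = _ := by ring
  · refine Nat.lt_of_mul_lt_mul_right (a := rc) (lt_of_lt_of_le (Nat.mul_lt_mul_of_pos_left hlt hr) ?_)
    calc r * r = r ^ 2 := by ring
      _ ≤ _ := hb'
      _ = _ := by ring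

/-- Either some normal subgroup acting as a `2`-group on `V` meets `T` outside `Q`, or `Ĵ(T)` is normal
below `Q` and contains `V`. -/
theorem dichotomy (hfree : ¬ Involves (Equiv.Perm (Fin 4)) G) (hcomp : Komp G) (T : Sylow 2 G)
    {V Q : Subgroup G} [V.Normal] [Q.Normal] (hV : IsElementaryAbelian 2 V)
    (hVT : V ≤ (T : Subgroup G)) (hQT : Q ≤ (T : Subgroup G)) (hQC : Q ≤ centralizer (V : Set G)) :
    (∃ D : Subgroup G, D.Normal ∧ D ≤ centralizer (V : Set G) ⊔ (T : Subgroup G) ∧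
        ¬ (T : Subgroup G) ⊓ D ≤ Q) ∨
      (jH (T : Subgroup G) ≤ Q ∧ V ≤ jH (T : Subgroup G) ∧ (jH (T : Subgroup G)).Normal) := by
  haveI : Fact (Nat.Prime 2) := ⟨Nat.prime_two⟩
  set C := centralizer (V : Set G) with hC
  set π := QuotientGroup.mk' C with hπ
  have hπs := QuotientGroup.mk'_surjective C
  set D := (pCore 2 (G ⧸ C)).comap π with hD
  have hDle : D ≤ C ⊔ (T : Subgroup G) := by
    have h1 := CfsgLib.Cores.pCore_le_sylow (T.mapSurjective hπs)
    rw [Sylow.coe_mapSurjective] at h1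
    refine (comap_mono h1).trans ?_
    rw [Subgroup.comap_map_eq, QuotientGroup.ker_mk', sup_comm]
  have hCD : C ≤ D := fun x hx => by
    show π x ∈ pCore 2 (G ⧸ C)
    rw [show π x = 1 from (QuotientGroup.eq_one_iff x).2 hx]; exact one_mem _
  by_cases hle : (T : Subgroup G) ⊓ D ≤ Q
  swap
  · exact Or.inl ⟨D, inferInstance, hDle, hle⟩
  right
  have hDC : D ≤ C := fun d hd => by
    obtain ⟨c, hc, t, ht, rfl⟩ := mem_sup_of_normal_left.1 (hDle hd)
    refine mul_mem hc (hQC (hle ⟨ht, ?_⟩))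
    simpa using mul_mem (inv_mem (hCD hc)) hd
  have hO : pCore 2 (G ⧸ C) = ⊥ := by
    rw [eq_bot_iff, ← map_comap_eq_self_of_surjective hπs (pCore 2 (G ⧸ C)), ← hD]
    refine (map_mono hDC).trans (le_of_eq ?_)
    rw [Subgroup.map_eq_bot_iff, QuotientGroup.ker_mk']
  have hI := indexed_of_bound hfree hcomp hV hO (T : Subgroup G)
  have hJQ : jH (T : Subgroup G) ≤ Q := fun x hx =>
    hle ⟨jH_le _ hx, hCD (jH_le_centralizer hVT (by rw [normalizer_eq_top_iff.2 ‹V.Normal›]; exact le_top)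
      hV hI hx)⟩
  refine ⟨hJQ, (le_jGen_of_indexed hVT hV hI).trans (jGen_le_jH _), ?_⟩
  rw [← normalizer_eq_top_iff, ← jH_eq_of_le hQT hJQ, eq_top_iff]
  exact le_trans (normalizer_eq_top_iff.2 ‹Q.Normal›).ge (normalizer_le_jH Q)

/-- The odd core of a `2`-constrained group. -/
theorem centric_core (T : Sylow 2 G) {Q : Subgroup G} [Q.Normal] (hQT : Q ≤ (T : Subgroup G))
    (hcen : (T : Subgroup G) ⊓ centralizer (Q : Set G) ≤ Q) :
    pPrimeCore 2 G ≤ centralizer (Q : Set G) ∧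
      centralizer (pCore 2 (G ⧸ pPrimeCore 2 G) : Set (G ⧸ pPrimeCore 2 G)) ≤
        pCore 2 (G ⧸ pPrimeCore 2 G) := by
  haveI : Fact (Nat.Prime 2) := ⟨Nat.prime_two⟩
  set O := pPrimeCore 2 G with hO
  set C := centralizer (Q : Set G) with hC
  have hQO : Q ⊓ O ≤ ⊥ := fun x hx => by
    rw [mem_bot, ← orderOf_eq_one_iff]
    obtain ⟨k, hk⟩ := IsPGroup.iff_orderOf.1 (T.2.to_le hQT) ⟨x, hx.1⟩
    rw [Subgroup.orderOf_mk] at hk
    refine Nat.eq_one_of_dvd_coprimes (Nat.Coprime.pow_right k (CfsgLib.Cores.coprime_card_pPrimeCore (G := G) 2))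
      (Subgroup.orderOf_dvd_natCard _ hx.2) (hk.dvd)
  have hOC : O ≤ C := le_centralizer_iff.1
    (commutator_eq_bot_iff_le_centralizer.1 (le_bot_iff.1 ((commutator_le_inf Q O).trans hQO)))
  refine ⟨hOC, ?_⟩
  obtain ⟨TC, hTC⟩ := Transfer.exists_sylow_map_eq_inf C T
  have hTCc : ∀ a ∈ (T : Subgroup G) ⊓ C, ∀ c ∈ C, a * c = c * a := fun a ha c hc =>
    mem_centralizer_iff.1 hc a (hcen ha)
  have hP : normalizer ((TC : Subgroup ↥C) : Set ↥C) ≤ centralizer ((TC : Subgroup ↥C) : Set ↥C) :=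
    fun n _ => mem_centralizer_iff.2 fun a ha => Subtype.ext (hTCc a (hTC.le ⟨a, ha, rfl⟩) n n.2)
  have hcompl := MonoidHom.ker_transferSylow_isComplement' TC hP
  set K0 := (MonoidHom.transferSylow TC hP).ker
  have hK0c : (Nat.card K0).Coprime 2 := Transfer.coprime_card_of_isComplement' TC hcompl
  obtain ⟨k, hk⟩ := Transfer.index_of_isComplement' TC hcompl
  have hres : pResidual 2 ↥C ≤ K0 := Transfer.pResidual_le (IsPGroup.of_card (n := k) (by
    rw [← Subgroup.index_eq_card, hk]))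
  haveI := Transfer.pResidual_characteristic (G := ↥C) (p := 2)
  set N := (pResidual 2 ↥C).map C.subtype with hN
  have hNO : N ≤ O := CfsgLib.Cores.le_pPrimeCore (by
    rw [hN, Subgroup.card_map_of_injective C.subtype_injective]
    exact hK0c.coprime_dvd_left (Subgroup.card_dvd_of_le hres))
  set π := QuotientGroup.mk' O with hπ
  have hπs := QuotientGroup.mk'_surjective O
  haveI : (Q.map π).Normal := (inferInstance : Q.Normal).map π hπs
  have hQb : Q.map π ≤ pCore 2 (G ⧸ O) := CfsgLib.Cores.le_pCore ((T.2.to_le hQT).map π)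
  intro z hz
  obtain ⟨x, rfl⟩ := hπs z
  have hxC : x ∈ C := mem_centralizer_iff.2 fun q hq => by
    have h1 := mem_centralizer_iff.1 hz (π q) (hQb ⟨q, hq, rfl⟩)
    rw [← map_mul, ← map_mul] at h1
    have h2 : (q * x)⁻¹ * (x * q) ∈ O := QuotientGroup.eq.1 h1
    have h3 : x⁻¹ * q⁻¹ * x * q ∈ Q := by
      refine mul_mem ?_ hq
      simpa using (inferInstance : Q.Normal).conj_mem q⁻¹ (inv_mem hq) x⁻¹
    have h4 : x⁻¹ * q⁻¹ * x * q = 1 := mem_bot.1 (hQO ⟨h3, by simpa [mul_assoc] using h2⟩)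
    have h5 : (q * x)⁻¹ * (x * q) = 1 := by rw [← h4]; group
    exact eq_of_inv_mul_eq_one h5
  have hmem : (⟨x, hxC⟩ : ↥C) ∈ pResidual 2 ↥C ⊔ (TC : Subgroup ↥C) := by
    rw [Transfer.pResidual_sup_sylow TC]; trivial
  obtain ⟨n, hn, t, ht, e⟩ := mem_sup_of_normal_left.1 hmem
  have e' : (n : G) * (t : G) = x := congrArg Subtype.val e
  rw [← e', map_mul, show π (n : G) = 1 from (QuotientGroup.eq_one_iff _).2 (hNO ⟨n, hn, rfl⟩), one_mul]
  exact hQb ⟨t, hcen (hTC.le ⟨t, ht, rfl⟩), rfl⟩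

/-- Composition factors through an odd core. -/
theorem komp_of_core {O : Subgroup G} [O.Normal] (hO : Odd (Nat.card O)) (h : Komp (G ⧸ O)) : Komp G := by
  haveI : Group.IsSolvable ↥O := Cfsg.Agent.S0205.result hO
  exact komp_ext komp_of_solvable h

/-- An element normalising the image of a `p`-subgroup modulo a normal odd subgroup lifts. -/
theorem mem_normalizer_lift {O X : Subgroup G} [O.Normal] (hO : (Nat.card O).Coprime 2)
    (hX : IsPGroup 2 X) {g : G}
    (hg : QuotientGroup.mk' O g ∈ normalizer ((X.map (QuotientGroup.mk' O) : Subgroup (G ⧸ O)) : Set (G ⧸ O))) :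
    ∃ o ∈ O, ∃ n ∈ normalizer (X : Set G), g = o * n := by
  haveI : Fact (Nat.Prime 2) := ⟨Nat.prime_two⟩
  set π := QuotientGroup.mk' O with hπ
  have hgX : X.map (MulAut.conj g).toMonoidHom ≤ O ⊔ X := by
    rintro _ ⟨w, hw, rfl⟩
    obtain ⟨w', hw', e⟩ := (mem_normalizer_iff.1 hg _).1 (mem_map_of_mem π hw)
    rw [← map_inv, ← map_mul, ← map_mul] at e
    have h2 : (g * w * g⁻¹) * w'⁻¹ ∈ O := by
      rw [← QuotientGroup.eq_one_iff]
      show π ((g * w * g⁻¹) * w'⁻¹) = 1
      rw [map_mul, map_inv, e, mul_inv_cancel]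
    show g * w * g⁻¹ ∈ O ⊔ X
    have := mul_mem (mem_sup_left h2 : _ ∈ O ⊔ X) (mem_sup_right hw')
    rwa [inv_mul_cancel_right] at this
  obtain ⟨m, hm, hconj⟩ := CfsgLib.Fusion.exists_conj_mem_of_le (hX.map (MulAut.conj g).toMonoidHom) hX hgX
    le_sup_right (by
      intro hd
      refine (CfsgLib.Cores.coprime_iff_not_dvd Fact.out _).1 hO (hd.trans ?_)
      have h1 : Nat.card X * X.relIndex (O ⊔ X) = Nat.card ↥(O ⊔ X) := by
        rw [← relIndex_bot_left X, ← relIndex_bot_left (O ⊔ X)]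
        exact relIndex_mul_relIndex _ _ _ bot_le le_sup_right
      have h2 := CfsgLib.Cores.card_sup_dvd_mul O X
      rw [← h1, mul_comm (Nat.card O)] at h2
      exact Nat.dvd_of_mul_dvd_mul_left Nat.card_pos h2)
  have hn : m * g ∈ normalizer (X : Set G) := by
    refine mem_normalizer_iff_map_conj_eq.2 (Subgroup.eq_of_le_of_card_ge ?_
      (Subgroup.card_map_of_injective (MulAut.conj (m * g)).injective).ge)
    rintro _ ⟨w, hw, rfl⟩
    have h1 := hconj _ ⟨w, hw, rfl⟩
    show m * g * w * (m * g)⁻¹ ∈ X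
    rw [show m * g * w * (m * g)⁻¹ = m * (g * w * g⁻¹) * m⁻¹ by group]
    exact h1
  obtain ⟨o, ho, w, hw, e⟩ := mem_sup_of_normal_left.1 (inv_mem hm)
  refine ⟨o, ho, w * (m * g), mul_mem (Subgroup.le_normalizer hw) hn, ?_⟩
  rw [← mul_assoc, e, inv_mul_cancel_left]

end CfsgLib.SFactor
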