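import Cfsg.Agent.Lib.SFactor.Closed

/-!
The normal closure of `Ω₁(Z(S))` in `N(J(S))`.
-/

set_option autoImplicit false

namespace CfsgLib.SFactor

open Subgroup Cfsg
open scoped commutatorElement
open CfsgLib.LocalEven
open CfsgLib.PStab

universe u

variable {G : Type u} [Group G] [Finite G]

set_option maxHeartbeats 800000 in
/-- The normal closure of `Ω₁(Z(S))` in `N(J(S))` satisfies the hypotheses of the closure theorem. -/
theorem closing_omega (hfree : ¬ Involves (Equiv.Perm (Fin 4)) G)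
    (hsec : ∀ (K R : Subgroup G) [hR : (R.subgroupOf K).Normal],
      centralizer (pCore 2 (K ⧸ R.subgroupOf K) : Set (K ⧸ R.subgroupOf K)) ≤ pCore 2 (K ⧸ R.subgroupOf K) →
        Komp (K ⧸ R.subgroupOf K))
    (S : Sylow 2 G) (N : Subgroup G) (hN : N = normalizer (jGen 2 (S : Subgroup G) : Set G))
    (Z A : Subgroup G) (hZ : Z = omegaOne 2 ((S : Subgroup G) ⊓ centralizer ((S : Subgroup G) : Set G)))
    (hA : A = (normalClosure ((Z.subgroupOf N : Subgroup ↥N) : Set ↥N)).map N.subtype) :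
    Closing S A := by
  classical
  haveI : Fact (Nat.Prime 2) := ⟨Nat.prime_two⟩
  set J := jGen 2 (S : Subgroup G) with hJ
  have hJS : J ≤ (S : Subgroup G) := jGen_le 2 _
  have hSN : (S : Subgroup G) ≤ N := by
    rw [hN]; exact Subgroup.le_normalizer.trans (normalizer_le_normalizer_jGen 2 _)
  -- `Ω₁` of the centre of `J`
  have hMc : ∀ a ∈ J ⊓ centralizer (J : Set G), ∀ b ∈ J ⊓ centralizer (J : Set G), a * b = b * a :=
    fun a ha b hb => mem_centralizer_iff.1 hb.2 a ha.1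
  let M : Subgroup G :=
    { carrier := {w | w ∈ J ⊓ centralizer (J : Set G) ∧ w ^ 2 = 1}
      one_mem' := ⟨one_mem _, one_pow _⟩
      mul_mem' := fun {a b} ha hb => ⟨mul_mem ha.1 hb.1, by
        rw [(show Commute a b from hMc a ha.1 b hb.1).mul_pow, ha.2, hb.2, one_mul]⟩
      inv_mem' := fun {a} ha => ⟨inv_mem ha.1, by rw [inv_pow, ha.2, inv_one]⟩ }
  have hMe : IsElementaryAbelian 2 M :=
    PGroup.isElementaryAbelian_mk (fun a ha b hb => hMc a ha.1 b hb.1) fun a ha => ha.2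
  have hMN : ∀ g ∈ N, ∀ w ∈ M, g * w * g⁻¹ ∈ M := by
    intro g hg w hw
    rw [hN] at hg
    refine ⟨⟨(mem_normalizer_iff.1 hg w).1 hw.1.1, mem_centralizer_iff.2 fun j hj => ?_⟩, by
      rw [conj_pow, hw.2, mul_one, mul_inv_cancel]⟩
    have h1 : g⁻¹ * j * g⁻¹⁻¹ ∈ J := (mem_normalizer_iff.1 (inv_mem hg) j).1 hj
    have h2 := mem_centralizer_iff.1 hw.1.2 _ h1
    calc j * (g * w * g⁻¹) = g * ((g⁻¹ * j * g⁻¹⁻¹) * w) * g⁻¹ := by group
      _ = g * (w * (g⁻¹ * j * g⁻¹⁻¹)) * g⁻¹ := by rw [h2]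
      _ = _ := by group
  have hZM : Z ≤ M := by
    rw [hZ, omegaOne, Subgroup.closure_le]
    rintro z ⟨⟨hzS, hzC⟩, hz2⟩
    obtain ⟨E, hE⟩ := maxAdm_nonempty (G := G) 2 (S : Subgroup G)
    refine ⟨⟨le_jGen hE (mem_of_commute_maxAdm (p := 2) (Or.inr rfl) hE hzS hz2 fun a ha =>
      (mem_centralizer_iff.1 hzC a (hE.1 ha)).symm),
      centralizer_le hJS hzC⟩, hz2⟩
  have hZN : Z ≤ N := fun z hz => hSN (hJS (hZM hz).1.1)
  haveI hMn : (M.subgroupOf N).Normal := ⟨fun w hw g => hMN g g.2 (w : G) hw⟩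
  have hAM : A ≤ M := by
    rw [hA, map_le_iff_le_comap]
    show _ ≤ M.subgroupOf N
    exact normalClosure_le_normal fun z hz => hZM hz
  have hAS : A ≤ (S : Subgroup G) := fun a ha => hJS (hAM ha).1.1
  have hNA : N ≤ normalizer (A : Set G) := by
    intro g hg
    have h1 := le_normalizer_map N.subtype (H := normalClosure ((Z.subgroupOf N : Subgroup ↥N) : Set ↥N))
      (mem_map_of_mem N.subtype (show (⟨g, hg⟩ : ↥N) ∈ normalizer ((normalClosure ((Z.subgroupOf N : Subgroup ↥N) : Set ↥N) : Subgroup ↥N) : Set ↥N) by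
        rw [normalizer_eq_top_iff.2 normalClosure_normal]; trivial))
    rw [hA]; exact h1
  have hAe : IsElementaryAbelian 2 A := PGroup.elemAb_mono hMe hAM
  refine ⟨hfree, hsec, hAS, hAe, hSN.trans hNA, (le_of_eq hN.symm).trans hNA, ?_⟩
  -- the local subgroup `N_N(J C_S(J))`
  set Q := J ⊔ ((S : Subgroup G) ⊓ centralizer (J : Set G)) with hQ
  set N' := N ⊓ normalizer (Q : Set G) with hN'
  have hSQ : (S : Subgroup G) ≤ normalizer (Q : Set G) := by
    intro s hs
    refine mem_normalizer_iff_map_conj_eq.2 ?_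
    have h1 : s ∈ normalizer (J : Set G) := hN ▸ hSN hs
    have h2 : s ∈ normalizer ((centralizer (J : Set G) : Subgroup G) : Set G) := by
      refine mem_normalizer_of_maps fun c hc => mem_centralizer_iff.2 fun j hj => ?_
      have h3 : s⁻¹ * j * s⁻¹⁻¹ ∈ J := (mem_normalizer_iff.1 (inv_mem h1) j).1 hj
      calc j * (s * c * s⁻¹) = s * ((s⁻¹ * j * s⁻¹⁻¹) * c) * s⁻¹ := by group
        _ = s * (c * (s⁻¹ * j * s⁻¹⁻¹)) * s⁻¹ := by rw [mem_centralizer_iff.1 hc _ h3]
        _ = _ := by group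
    rw [Subgroup.map_sup, mem_normalizer_iff_map_conj_eq.1 h1,
      mem_normalizer_iff_map_conj_eq.1 (mem_normalizer_inf (Subgroup.le_normalizer hs) h2)]
  have hSN' : (S : Subgroup G) ≤ N' := le_inf hSN hSQ
  set S' : Sylow 2 ↥N' := S.subtype hSN' with hS'
  have hS'c : (S' : Subgroup ↥N') = (S : Subgroup G).subgroupOf N' := Sylow.coe_subtype _ _
  haveI : (Q.subgroupOf N').Normal := normal_subgroupOf_of_le_normalizer inf_le_right
  have hQS : Q ≤ (S : Subgroup G) := sup_le hJS inf_le_left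
  obtain ⟨-, hcharP⟩ := centric_core S' (Q := Q.subgroupOf N') (fun z hz => by rw [hS'c]; exact hQS hz) (by
    rintro ⟨z, hzN⟩ ⟨hz1, hz2⟩
    rw [hS'c] at hz1
    exact mem_sup_right ⟨hz1, mem_centralizer_iff.2 fun j hj =>
      congrArg Subtype.val (mem_centralizer_iff.1 hz2 ⟨j, hSN' (hJS hj)⟩ (mem_sup_left hj))⟩)
  set O := pPrimeCore 2 ↥N' with hO
  have hKO : Komp (↥N' ⧸ O) := by
    have hOR : (O.map N'.subtype).subgroupOf N' = O := comap_map_eq_self_of_injective N'.subtype_injective _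
    haveI : ((O.map N'.subtype).subgroupOf N').Normal := by rw [hOR]; infer_instance
    let e := QuotientGroup.quotientMulEquivOfEq hOR
    exact (hsec N' (O.map N'.subtype) (hasCharP_congr e.symm hcharP)).congr e
  have hcomp : Komp ↥N' :=
    komp_of_core (Nat.coprime_two_right.1 (CfsgLib.Cores.coprime_card_pPrimeCore (G := ↥N') 2)) hKO
  have hfree' : ¬ Involves (Equiv.Perm (Fin 4)) ↥N' := fun hi =>
    hfree (Offender.involves_of_injective N'.subtype N'.subtype_injective hi)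
  -- `A` is generated by the conjugates of `Z` under `N'`
  let f : Sylow 2 ↥N' → Subgroup ↥N' := fun T =>
    omegaOne 2 ((T : Subgroup ↥N') ⊓ centralizer ((T : Subgroup ↥N') : Set ↥N'))
  set W := ⨆ T, f T with hW
  have hconj : ∀ (g : ↥N') (T : Sylow 2 ↥N'), (f T).map (MulAut.conj g).toMonoidHom ≤ f (g • T) := by
    intro g T
    show Subgroup.map _ (omegaOne 2 _) ≤ _
    rw [omegaOne, MonoidHom.map_closure, Subgroup.closure_le]
    rintro _ ⟨x, ⟨⟨hx1, hx2⟩, hxp⟩, rfl⟩
    refine Subgroup.subset_closure ⟨⟨?_, ?_⟩, by rw [← map_pow, hxp, map_one]⟩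
    · rw [Sylow.coe_subgroup_smul]; exact ⟨x, hx1, rfl⟩
    · rw [Sylow.coe_subgroup_smul]
      refine mem_centralizer_iff.2 ?_
      rintro _ ⟨t, ht, rfl⟩
      show (MulAut.conj g) t * (MulAut.conj g) x = (MulAut.conj g) x * (MulAut.conj g) t
      rw [← map_mul, ← map_mul, mem_centralizer_iff.1 hx2 t ht]
  haveI hWn : W.Normal := ⟨fun x hx g => by
    have hle : W ≤ W.comap (MulAut.conj g).toMonoidHom :=
      iSup_le fun T => map_le_iff_le_comap.1 ((hconj g T).trans (le_iSup f _))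
    exact hle hx⟩
  have hZf : Z.subgroupOf N' = f S' := by
    apply Subgroup.map_injective N'.subtype_injective
    rw [map_subgroupOf_eq_of_le (fun z hz => hSN' (hJS (hZM hz).1.1))]
    show Z = Subgroup.map _ (omegaOne 2 _)
    rw [hS'c, hZ, omegaOne, omegaOne, MonoidHom.map_closure]
    congr 1
    ext x
    constructor
    · rintro ⟨⟨h1, h2⟩, h3⟩
      exact ⟨⟨x, hSN' h1⟩, ⟨⟨h1, mem_centralizer_iff.2 fun t ht =>
        Subtype.ext (mem_centralizer_iff.1 h2 (t : G) ht)⟩, Subtype.ext h3⟩, rfl⟩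
    · rintro ⟨y, ⟨⟨h1, h2⟩, h3⟩, rfl⟩
      refine ⟨⟨h1, mem_centralizer_iff.2 fun t ht => ?_⟩, congrArg Subtype.val h3⟩
      exact congrArg Subtype.val (mem_centralizer_iff.1 h2 ⟨t, hSN' ht⟩ ht)
  set AK := A.subgroupOf N' with hAK
  haveI : AK.Normal := normal_subgroupOf_of_le_normalizer (inf_le_left.trans hNA)
  have hZA : Z ≤ A := by
    rw [hA]
    intro z hz
    exact ⟨⟨z, hZN hz⟩, subset_normalClosure (show (⟨z, hZN hz⟩ : ↥N) ∈ Z.subgroupOf N from hz), rfl⟩
  have hWA : W ≤ AK := iSup_le fun T => by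
    obtain ⟨g, rfl⟩ := MulAction.exists_smul_eq ↥N' S' T
    have hT : (f (g • S')).map (MulAut.conj g⁻¹).toMonoidHom ≤ f S' := by
      have := hconj g⁻¹ (g • S'); rwa [inv_smul_smul] at this
    intro x hx
    have h1 : g⁻¹ * x * g⁻¹⁻¹ ∈ AK := (hZA.trans le_rfl) (hZf.ge (hT ⟨x, hx, rfl⟩))
    simpa [mul_assoc] using (inferInstance : AK.Normal).conj_mem _ h1 g
  have hWJ : W.map N'.subtype ≤ M := le_trans (map_mono hWA) (le_trans (Subgroup.map_comap_le N'.subtype A) hAM)
  have hAW : A ≤ W.map N'.subtype := by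
    rw [hA, map_le_iff_le_comap]
    haveI : ((W.map N'.subtype).comap N.subtype).Normal := by
      refine ⟨fun w hw g => ?_⟩
      have hg : (g : G) ∈ normalizer (J : Set G) := hN ▸ g.2
      obtain ⟨c, hc, n, hn, e⟩ : ∃ c ∈ centralizer (J : Set G), ∃ n ∈ N', (g : G) = c * n := by
        set C := (centralizer (J : Set G)).subgroupOf N with hC
        haveI : C.Normal := normal_subgroupOf_of_le_normalizer (by
          intro s hs
          rw [hN] at hs
          refine mem_normalizer_of_maps fun c hc => mem_centralizer_iff.2 fun j hj => ?_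
          have h3 : s⁻¹ * j * s⁻¹⁻¹ ∈ J := (mem_normalizer_iff.1 (inv_mem hs) j).1 hj
          calc j * (s * c * s⁻¹) = s * ((s⁻¹ * j * s⁻¹⁻¹) * c) * s⁻¹ := by group
            _ = s * (c * (s⁻¹ * j * s⁻¹⁻¹)) * s⁻¹ := by rw [mem_centralizer_iff.1 hc _ h3]
            _ = _ := by group)
        obtain ⟨TC, hTC⟩ := Transfer.exists_sylow_map_eq_inf C (S.subtype hSN)
        have hgm : g ∈ normalizer (((TC : Subgroup ↥C).map C.subtype : Subgroup ↥N) : Set ↥N) ⊔ C := by
          rw [Sylow.normalizer_sup_eq_top TC]; trivial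
        rw [sup_comm] at hgm
        obtain ⟨c, hc, n, hn, e⟩ := mem_sup_of_normal_left.1 hgm
        refine ⟨c, hc, n, ⟨n.2, ?_⟩, (congrArg Subtype.val e).symm⟩
        rw [hTC, Sylow.coe_subtype] at hn
        have hcap : (n : G) ∈ normalizer (((S : Subgroup G) ⊓ centralizer (J : Set G) : Subgroup G) : Set G) :=
          mem_normalizer_of_maps fun x hx =>
            (mem_normalizer_iff.1 hn ⟨x, hSN hx.1⟩).1 ⟨hx.1, hx.2⟩
        refine mem_normalizer_iff_map_conj_eq.2 ?_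
        have hnJ : (n : G) ∈ normalizer (J : Set G) := hN ▸ n.2
        rw [Subgroup.map_sup, mem_normalizer_iff_map_conj_eq.1 hnJ, mem_normalizer_iff_map_conj_eq.1 hcap]
      obtain ⟨v, hv, hvw⟩ := hw
      have h1 : n * (w : G) * n⁻¹ ∈ W.map N'.subtype := by
        refine ⟨⟨n, hn⟩ * v * ⟨n, hn⟩⁻¹, hWn.conj_mem v hv _, ?_⟩
        show n * (v : G) * n⁻¹ = n * (w : G) * n⁻¹
        rw [show (v : G) = (w : G) from hvw]
      show (g : G) * (w : G) * (g : G)⁻¹ ∈ W.map N'.subtype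
      rw [e, show c * n * (w : G) * (c * n)⁻¹ = c * (n * (w : G) * n⁻¹) * c⁻¹ by group,
        ← mem_centralizer_iff.1 hc _ (hWJ h1).1.1, mul_inv_cancel_right]
      exact h1
    exact normalClosure_le_normal fun z hz =>
      ⟨⟨(z : G), hSN' (hJS (hZM hz).1.1)⟩, mem_iSup_of_mem S' (hZf.le hz), rfl⟩
  have hWK : W = AK := le_antisymm hWA fun x hx => by
    obtain ⟨v, hv, hvx⟩ := hAW hx
    rwa [← Subtype.ext (hvx : (v : G) = x)]
  have hAKe : IsElementaryAbelian 2 AK := PGroup.elemAb_subgroupOf hAe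
  have hO2 : pCore 2 (↥N' ⧸ centralizer (AK : Set ↥N')) = ⊥ :=
    Transfer.pCore_quotient_centralizer_eq_bot AK fun D hD hle hk => by
      haveI := hD
      exact Transfer.eq_centralizer_of_iSup D f (fun T => (PGroup.omegaOne_le 2 _).trans inf_le_right)
        hWK.symm hle hk
  have hI := (indexed_of_bound hfree' hcomp hAKe hO2 (S' : Subgroup ↥N')).map_injective N'.subtype_injective
  rw [hS'c, map_subgroupOf_eq_of_le hSN', hAK,
    map_subgroupOf_eq_of_le (hAS.trans hSN')] at hI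
  exact hI

end CfsgLib.SFactor
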