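import Cfsg.Agent.Lib.SFactor.PairModel
import Cfsg.Agent.Lib.LocalEven.S3Bound.Main

/-!
Inverted odd elements in `S₃`-free groups with trivial `2`-core whose components are Suzuki groups or
`PSL₂(3^odd)`.
-/

set_option autoImplicit false

namespace CfsgLib.SFactor

open Subgroup Cfsg
open scoped commutatorElement
open CfsgLib.LocalEven

variable {Γ : Type*} [Group Γ] [Finite Γ]

theorem card_sup_of_disjoint {A B C : Subgroup Γ} (hA : IsElementaryAbelian 2 A) (hB : B ≤ A) (hC : C ≤ A)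
    (hd : B ⊓ C = ⊥) : Nat.card B * Nat.card C ≤ Nat.card ↥(B ⊔ C) := by
  rw [← Nat.card_prod]
  refine Nat.card_le_card_of_injective (fun p : B × C =>
    (⟨p.1 * p.2, Subgroup.mul_mem _ (mem_sup_left p.1.2) (mem_sup_right p.2.2)⟩ : ↥(B ⊔ C))) ?_
  rintro ⟨b, c⟩ ⟨b', c'⟩ h
  have h1 : (b : Γ) * c = b' * c' := congrArg Subtype.val h
  have h2 : (b' : Γ)⁻¹ * b = c' * (c : Γ)⁻¹ := by rw [eq_mul_inv_iff_mul_eq, mul_assoc, h1, inv_mul_cancel_left]
  have h3 : (b' : Γ)⁻¹ * b ∈ B ⊓ C := ⟨B.mul_mem (B.inv_mem b'.2) b.2, h2 ▸ C.mul_mem c'.2 (C.inv_mem c.2)⟩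
  rw [hd, mem_bot] at h3
  refine Prod.ext (Subtype.ext (inv_mul_eq_one.1 h3).symm) (Subtype.ext ?_)
  rw [h3, eq_comm, mul_inv_eq_one] at h2
  exact h2.symm

/-- From an inverted element of `r`-power order. -/
theorem hasPair_of_pow {A B : Subgroup Γ} {a x : Γ} {r e : ℕ} (hB : B ≤ A) (ha : a ∈ A) (hr : r.Prime)
    (hr2 : r ≠ 2) (hmin : ∀ j, 0 < j → r ∣ 2 ^ j - 1 → 2 * e ≤ j + 1) (hxr : ∃ k, orderOf x = r ^ k)
    (hx : x ≠ 1) (hinv : a * x * a⁻¹ = x⁻¹) (hc : ∀ b ∈ B, Commute b x)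
    (hcard : Nat.card A ^ 2 ≤ 2 ^ e * Nat.card B ^ 2) : HasPair A := by
  obtain ⟨k, hk⟩ := hxr
  have hrd : r ∣ orderOf x := by
    rcases Nat.eq_zero_or_pos k with rfl | hk0
    · exact absurd (orderOf_eq_one_iff.1 (by rw [hk, pow_zero])) hx
    · exact hk ▸ dvd_pow_self r hk0.ne'
  exact ⟨B, a, x ^ (orderOf x / r), r, e, hB, ha, hr, hr2, hmin,
    orderOf_pow_orderOf_div (orderOf_pos x).ne' hrd, by rw [← conj_pow, hinv, inv_pow],
    fun b hb => (hc b hb).pow_right _, hcard⟩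

/-- An elementary abelian group acting nontrivially on an odd solvable group. -/
theorem hasPair_odd (hfree : ¬ Involves (Equiv.Perm (Fin 3)) Γ) {A L : Subgroup Γ}
    (hA : IsElementaryAbelian 2 A) (hL : Group.IsSolvable L) (hLodd : Odd (Nat.card L))
    (hAL : A ≤ normalizer (L : Set Γ)) (hne : ¬ A ≤ centralizer (L : Set Γ)) : HasPair A := by
  classical
  haveI : Fact (Nat.Prime 2) := ⟨Nat.prime_two⟩
  set A₀ := A ⊓ centralizer (L : Set Γ)
  obtain ⟨A', hA', hAd, hAs⟩ := S3Bound.exists_compl hA (inf_le_left : A₀ ≤ A)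
  have hf : A' ⊓ centralizer (L : Set Γ) = ⊥ := by
    refine le_bot_iff.1 (hAd ▸ ?_)
    exact le_inf (inf_le_inf_right _ hA') inf_le_left
  obtain ⟨d, hd⟩ := IsPGroup.iff_card.1 (PGroup.elemAb_isPGroup (PGroup.elemAb_mono hA hA'))
  obtain ⟨a, x, hax, hgen, hcomm⟩ := CfsgLib.Components.dihedral_lemma hL hLodd (PGroup.elemAb_mono hA hA')
    (hA'.trans hAL) hf d hd
  have hd0 : d ≠ 0 := by
    rintro rfl
    refine hne ?_
    rw [pow_zero] at hd
    rw [← hAs, Subgroup.card_eq_one.1 hd, sup_bot_eq]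
    exact inf_le_right
  set i₀ : Fin d := ⟨0, Nat.pos_of_ne_zero hd0⟩
  obtain ⟨haA, ha1, hxL, hx1, hinv⟩ := hax i₀
  obtain ⟨r, hr, hrd⟩ := Nat.exists_prime_and_dvd (n := orderOf (x i₀)) fun h => hx1 (orderOf_eq_one_iff.1 h)
  have hr2 : r ≠ 2 := by
    rintro rfl
    exact (Nat.not_even_iff_odd.2 hLodd) (even_iff_two_dvd.2 (hrd.trans (Subgroup.orderOf_dvd_natCard L hxL)))
  set y := x i₀ ^ (orderOf (x i₀) / r)
  have hyo : orderOf y = r := orderOf_pow_orderOf_div (orderOf_pos _).ne' hrd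
  have hyinv : a i₀ * y * (a i₀)⁻¹ = y⁻¹ := by rw [← conj_pow, hinv, inv_pow]
  have h3 := S3Bound.three_of_inverted hfree (r := r) (by rw [← pow_two]; exact hA.2 _ (hA' haA))
    (fun h => hr.ne_one (by rw [← hyo, h, orderOf_one])) ⟨1, by rw [pow_one]; exact hyo⟩ hyinv
  set B := A₀ ⊔ ⨆ (j : Fin d) (_ : j ≠ i₀), zpowers (a j) with hB
  have hBA : B ≤ A := sup_le inf_le_left (iSup₂_le fun j _ => zpowers_le.2 (hA' (hax j).1))
  have hAB : A ≤ B ⊔ zpowers (a i₀) := by
    rw [← hAs]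
    refine sup_le (le_sup_of_le_left le_sup_left) (hgen.trans (iSup_le fun j => ?_))
    by_cases hj : j = i₀
    · subst hj; exact le_sup_right
    · exact le_sup_of_le_left (le_sup_of_le_right (le_iSup₂ (f := fun (j : Fin d) (_ : j ≠ i₀) => zpowers (a j)) j hj))
  refine ⟨B, a i₀, y, r, 2, hBA, hA' haA, hr, hr2, S3Bound.min_two hr h3, hyo, hyinv, fun b hb => ?_, ?_⟩
  · refine (mem_centralizer_singleton_iff.1 (show b ∈ centralizer ({y} : Set Γ) from ?_))
    refine (sup_le (fun c hc => ?_) (iSup₂_le fun j hj => zpowers_le.2 ?_) : B ≤ centralizer ({y} : Set Γ)) hb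
    · exact mem_centralizer_singleton_iff.2
        ((show Commute c (x i₀) from (mem_centralizer_iff.1 hc.2 _ hxL).symm).pow_right _)
    · exact mem_centralizer_singleton_iff.2 ((hcomm j i₀ hj).2.pow_right _)
  · have h1 : Nat.card A ≤ Nat.card B * 2 := by
      refine (Subgroup.card_le_of_le hAB).trans ((S3Bound.card_sup_le hA hBA (zpowers_le.2 (hA' haA))).trans ?_)
      refine Nat.mul_le_mul_left _ ?_
      rw [Nat.card_zpowers]
      exact Nat.le_of_dvd (by norm_num) (orderOf_dvd_of_pow_eq_one (hA.2 _ (hA' haA)))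
    exact (Nat.pow_le_pow_left h1 2).trans (le_of_eq (by ring))

/-- The components case. -/
theorem hasPair_component (hfree : ¬ Involves (Equiv.Perm (Fin 3)) Γ) (h2 : pCore 2 Γ = ⊥)
    {K : Subgroup Γ} (hK : IsComponent K) (hKc : IsSuzukiOrPSL2OddPowerThree (↥K ⧸ center ↥K))
    {A : Subgroup Γ} (hA : IsElementaryAbelian 2 A) (hne : ¬ A ≤ centralizer (K : Set Γ)) : HasPair A := by
  classical
  haveI : Fact (Nat.Prime 2) := ⟨Nat.prime_two⟩
  haveI : IsSimpleGroup (↥K ⧸ center ↥K) := hK.2.2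
  have hna := CfsgLib.Local.not_isMulCommutative_quotient_center hK.2
  set A₁ := A ⊓ normalizer (K : Set Γ) with hA₁
  have hAc : ∀ s ∈ A, ∀ t ∈ A, Commute s t := fun s hs t ht =>
    congrArg Subtype.val (hA.1.is_comm.comm (⟨s, hs⟩ : A) ⟨t, ht⟩)
  have hsq : ∀ s ∈ A, s * s = 1 := fun s hs => by rw [← pow_two]; exact hA.2 s hs
  have hcomm : ∀ s : Γ, s ∉ normalizer (K : Set Γ) →
      ∀ k ∈ K.map (MulAut.conj s).toMonoidHom, ∀ l ∈ K, Commute k l := by
    intro t ht k hk l hl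
    have hne' : K.map (MulAut.conj t).toMonoidHom ≠ K := fun h => ht (mem_normalizer_iff_map_conj_eq.2 h)
    exact (mem_centralizer_iff.1 ((Subgroup.commutator_eq_bot_iff_le_centralizer.1
      (CfsgLib.Cores.commutator_components_eq_bot (CfsgLib.Cores.isComponent_map_equiv (MulAut.conj t) hK) hK hne')) hk) l hl).symm
  set ψ := S3Bound.quotAct K with hψ
  set A₁' := A₁.subgroupOf (normalizer (K : Set Γ)) with hA₁'
  have hodd : Odd (Nat.card ↥(center ↥K)) := by
    have h := S3Bound.odd_card_of_subnormal h2 (H := (center ↥K).map K.subtype)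
      ((inferInstance : (center ↥K).Normal).isSubnormal.trans' hK.1) ?_
    · rwa [Subgroup.card_map_of_injective (Subgroup.subtype_injective K)] at h
    · exact CfsgLib.Cores.isNilpotent_map
        (CfsgLib.Suzuki.isNilpotent_of_isMulCommutative _) K.subtype
  by_cases htriv : A₁'.map ψ = ⊥
  · -- the normalising part centralises the component
    have hA₁c : ∀ s ∈ A₁, ∀ k ∈ K, Commute s k := fun s hs k hk =>
      S3Bound.commute_of_quotAct hK.2 (a := ⟨s, hs.2⟩)
        (mem_bot.1 (htriv ▸ ⟨⟨s, hs.2⟩, mem_subgroupOf.2 hs, rfl⟩ : ψ ⟨s, hs.2⟩ ∈ (⊥ : Subgroup _))) hk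
    obtain ⟨t₀, ht₀, ht₀n⟩ : ∃ t ∈ A, t ∉ normalizer (K : Set Γ) := by
      by_contra h
      push Not at h
      exact hne fun s hs => mem_centralizer_iff.2 fun k hk => (hA₁c s ⟨hs, h s hs⟩ k hk).eq.symm
    obtain ⟨r, hr, hr2, hrd⟩ : ∃ r : ℕ, r.Prime ∧ r ≠ 2 ∧ r ∣ Nat.card (↥K ⧸ center ↥K) := by
      by_contra hcon
      push Not at hcon
      refine hna ⟨⟨fun a b => IsSimpleGroup.comm_iff_isSolvable.2 ?_ a b⟩⟩
      haveI : Group.IsNilpotent (↥K ⧸ center ↥K) := (IsPGroup.iff_card.2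
        ⟨_, Nat.eq_prime_pow_of_unique_prime_dvd Nat.card_pos.ne' fun {d} hd hdd => by
          by_contra hne
          exact hcon d hd hne hdd⟩ : IsPGroup 2 _).isNilpotent
      infer_instance
    haveI := Fact.mk hr
    obtain ⟨P⟩ : Nonempty (Sylow r ↥K) := inferInstance
    obtain ⟨x, hxP, hx1⟩ : ∃ x ∈ P.1, (QuotientGroup.mk x : ↥K ⧸ center ↥K) ≠ 1 := by
      by_contra hcon
      push Not at hcon
      refine (P.mapSurjective (QuotientGroup.mk'_surjective (center ↥K))).ne_bot_of_dvd_card hrd ?_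
      rw [eq_bot_iff]
      rintro _ ⟨x, hx, rfl⟩
      exact hcon x hx
    obtain ⟨v, hv⟩ : ∃ v, (x : Γ) ^ r ^ v = 1 := by
      obtain ⟨v, hv⟩ := P.isPGroup' ⟨x, hxP⟩
      exact ⟨v, congrArg (fun z : ↥(P.1) => ((z : ↥K) : Γ)) hv⟩
    set S : Set Γ := {y | ∃ t ∈ A, y = t * x * t⁻¹}
    have hS : ∀ y ∈ S, ∀ z ∈ S, Commute y z := by
      rintro _ ⟨s, hs, rfl⟩ _ ⟨t, ht, rfl⟩
      by_cases h : t⁻¹ * s ∈ normalizer (K : Set Γ)
      · have h1 := hA₁c _ ⟨A.mul_mem (A.inv_mem ht) hs, h⟩ x x.2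
        have h2 : s * (x : Γ) * s⁻¹ = t * x * t⁻¹ := by
          calc s * (x : Γ) * s⁻¹ = t * ((t⁻¹ * s) * x * (t⁻¹ * s)⁻¹) * t⁻¹ := by group
            _ = t * x * t⁻¹ := by rw [h1.eq, mul_inv_cancel_right]
        rw [h2]
      · have h1 := (hcomm _ h _ ⟨x, x.2, rfl⟩ x x.2).conj t
        simpa [mul_assoc] using h1
    obtain ⟨hXp, hXc⟩ := S3Bound.isPGroup_closure hS (r := r) (by
      rintro _ ⟨t, -, rfl⟩; exact ⟨v, by rw [conj_pow, hv]; group⟩)
    haveI : Group.IsNilpotent ↥(Subgroup.closure S) := hXp.isNilpotent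
    refine hasPair_odd hfree hA (L := Subgroup.closure S) inferInstance ?_ ?_ ?_
    · obtain ⟨j, hj⟩ := IsPGroup.iff_card.1 hXp
      rw [hj]; exact (hr.odd_of_ne_two hr2).pow
    · intro t ht
      refine mem_normalizer_iff_map_conj_eq.2 ?_
      rw [MonoidHom.map_closure]
      congr 1
      ext y
      constructor
      · rintro ⟨_, ⟨s, hs, rfl⟩, rfl⟩
        exact ⟨t * s, A.mul_mem ht hs, by simp [mul_assoc]⟩
      · rintro ⟨s, hs, rfl⟩
        exact ⟨_, ⟨t⁻¹ * s, A.mul_mem (A.inv_mem ht) hs, rfl⟩, by simp [mul_assoc]⟩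
    · intro hle
      have hx : t₀ * x * t₀⁻¹ = x := mul_inv_eq_iff_eq_mul.2
        (mem_centralizer_iff.1 (hle ht₀) x (Subgroup.subset_closure ⟨1, A.one_mem, by group⟩)).symm
      apply hx1
      rw [QuotientGroup.eq_one_iff, Subgroup.mem_center_iff]
      intro y
      refine Subtype.ext ?_
      exact (hcomm t₀ ht₀n (x : Γ) ⟨x, x.2, by simpa using hx⟩ y y.2).eq.symm
  -- the normalising part acts by inner automorphisms
  have hinner : ∀ a ∈ A₁', ∃ g, ψ a = MulAut.conj g := by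
    intro a ha
    have haa : a * a = 1 := Subtype.ext (hsq _ (mem_subgroupOf.1 ha).1)
    have hN := S3Bound.nice_of_isSuzukiOrPSL2 hna hKc
    refine (hN.1 (ψ a) (by rw [← map_mul, haa, map_one])).resolve_right ?_
    rintro ⟨y, hy, hyi⟩
    obtain ⟨x, hxr, hxc, hxi, -⟩ := S3Bound.exists_lift hodd (IsPGroup.of_bot) (bot_le : (⊥ : Subgroup Γ) ≤ _)
      Nat.prime_three (by norm_num) haa (fun d hd => by rw [mem_bot.1 hd]; exact Commute.one_left _) hy
      (fun d hd => by
        have : (⟨d, (bot_le : (⊥ : Subgroup Γ) ≤ normalizer (K : Set Γ)) hd⟩ : ↥(normalizer (K : Set Γ))) = 1 :=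
          Subtype.ext (mem_bot.1 hd)
        rw [this, map_one]; rfl) hyi
    exact S3Bound.three_of_inverted hfree (congrArg Subtype.val haa) (fun h => hxc (by rw [h]; exact one_mem _)) hxr hxi rfl
  have hconj : Function.Injective (MulAut.conj : (↥K ⧸ center ↥K) →* MulAut (↥K ⧸ center ↥K)) := by
    rw [injective_iff_map_eq_one]
    intro g hg
    have hgc : g ∈ center (↥K ⧸ center ↥K) := Subgroup.mem_center_iff.2 fun y => by
      have := MulEquiv.congr_fun hg y
      simp only [MulAut.conj_apply, MulAut.one_apply] at this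
      exact (mul_inv_eq_iff_eq_mul.1 this).symm
    rcases (inferInstance : (center (↥K ⧸ center ↥K)).Normal).eq_bot_or_eq_top with h | h
    · exact mem_bot.1 (h ▸ hgc)
    · exact absurd (Subgroup.center_eq_top_iff.1 h) hna
  set C := (A₁'.map ψ).comap MulAut.conj with hC
  have hle : A₁'.map ψ ≤ (MulAut.conj : (↥K ⧸ center ↥K) →* _).range := by
    rintro _ ⟨a, ha, rfl⟩
    obtain ⟨g, hg⟩ := hinner a ha
    exact ⟨g, hg.symm⟩
  have hCmap : C.map MulAut.conj = A₁'.map ψ := Subgroup.map_comap_eq_self hle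
  have hCel : IsElementaryAbelian 2 C := PGroup.isElementaryAbelian_mk (fun g hg g' hg' => by
    obtain ⟨a, ha, hae⟩ := hg
    obtain ⟨b, hb, hbe⟩ := hg'
    refine hconj ?_
    rw [map_mul, map_mul, ← hae, ← hbe, ← map_mul, ← map_mul]
    congr 1
    exact Subtype.ext (hAc _ (mem_subgroupOf.1 ha).1 _ (mem_subgroupOf.1 hb).1)) (fun g hg => by
    obtain ⟨a, ha, hae⟩ := hg
    refine hconj ?_
    rw [map_pow, map_one, ← hae, ← map_pow,
      show a ^ 2 = 1 from Subtype.ext (hA.2 _ (mem_subgroupOf.1 ha).1), map_one])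
  have hC0 : C ≠ ⊥ := fun h => htriv (by rw [← hCmap, h, Subgroup.map_bot])
  have hfreeK : ¬ Involves (Equiv.Perm (Fin 3)) (↥K ⧸ center ↥K) := fun hi => hfree
    (Offender.involves_of_injective K.subtype K.subtype_injective
      (Offender.involves_of_surjective _ (QuotientGroup.mk'_surjective (center ↥K)) hi))
  obtain ⟨Bb, c, xb, r, e, hBb, hcC, hr, hr2, hmin, hxo, hcx, hBc, hcard⟩ :=
    hasPair_simple hna hKc hfreeK hCel hC0
  haveI := Fact.mk hr
  obtain ⟨a, ha, hae⟩ := hcC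
  set D' := A₁' ⊓ (Bb.map MulAut.conj).comap ψ with hD'
  set D := D'.map (normalizer (K : Set Γ)).subtype with hD
  have hDA₁ : D ≤ A₁ := by rintro _ ⟨d, hd, rfl⟩; exact mem_subgroupOf.1 hd.1
  have hDA : D ≤ A := hDA₁.trans inf_le_left
  obtain ⟨x, hxr, hxc, hxa, hxD⟩ := S3Bound.exists_lift hodd
    (PGroup.elemAb_isPGroup (PGroup.elemAb_mono hA hDA))
    (fun d hd => by obtain ⟨a', -, rfl⟩ := hd; exact a'.2) hr hr2
    (a := a) (Subtype.ext (hsq _ (mem_subgroupOf.1 ha).1))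
    (fun d hd => hAc d (hDA hd) _ (mem_subgroupOf.1 ha).1) hxo
    (fun d hd => by
      obtain ⟨a', ⟨-, ⟨g, hg, he⟩⟩, rfl⟩ := hd
      show ψ a' xb = xb
      rw [← he, MulAut.conj_apply, (hBc g hg).eq, mul_inv_cancel_right])
    (by rw [show ψ a = MulAut.conj c from hae]; exact hcx)
  -- spread over the conjugates of the component
  obtain ⟨T, hTA, hTd, hTs⟩ := S3Bound.exists_compl hA (inf_le_left : A₁ ≤ A)
  have hTn : ∀ t ∈ T, t ∈ normalizer (K : Set Γ) → t = 1 := fun t ht h =>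
    mem_bot.1 (hTd ▸ ⟨⟨hTA ht, h⟩, ht⟩)
  have hdist : ∀ s ∈ T, ∀ t ∈ T, s ≠ t → ∀ k ∈ K.map (MulAut.conj s).toMonoidHom,
      ∀ l ∈ K.map (MulAut.conj t).toMonoidHom, Commute k l := by
    rintro s hs t ht hst _ ⟨k, hk, rfl⟩ _ ⟨l, hl, rfl⟩
    have h1 := (hcomm (t⁻¹ * s) (fun h => hst (inv_mul_eq_one.1 (hTn _ (T.mul_mem (T.inv_mem ht) hs) h)).symm)
      _ ⟨k, hk, rfl⟩ l hl).conj t
    simpa [mul_assoc] using h1
  suffices key : ∀ s : Set Γ, s.Finite → s ⊆ T → ∃ y : Γ,
      y ∈ (⨆ u ∈ Subgroup.closure s, K.map (MulAut.conj u).toMonoidHom) ∧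
      y * (x : Γ)⁻¹ ∈ centralizer (K : Set Γ) ∧ (a : Γ) * y * (a : Γ)⁻¹ = y⁻¹ ∧
      (∀ d ∈ D, Commute d y) ∧ (∀ t ∈ s, Commute t y) ∧ ∃ j, y ^ r ^ j = 1 by
    obtain ⟨y, -, hyx, hya, hyD, hyT, j, hj⟩ := key T (Set.toFinite _) subset_rfl
    refine hasPair_of_pow (A := A) (B := D ⊔ T) (x := y) (e := e) (sup_le hDA hTA) (mem_subgroupOf.1 ha).1 hr hr2
      hmin ?_ ?_ hya ?_ ?_
    · obtain ⟨i, -, hi⟩ := (Nat.dvd_prime_pow hr).1 (orderOf_dvd_of_pow_eq_one hj)
      exact ⟨i, hi⟩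
    · intro h
      rw [h, one_mul] at hyx
      exact hxc (inv_mem_iff.1 hyx)
    · intro b hb
      exact mem_centralizer_singleton_iff.1 ((sup_le (fun d hd => mem_centralizer_singleton_iff.2 (hyD d hd))
        (fun t ht => mem_centralizer_singleton_iff.2 (hyT t ht)) : D ⊔ T ≤ centralizer ({y} : Set Γ)) hb)
    · have hsplit : ∀ X : Subgroup ↥(normalizer (K : Set Γ)),
          Nat.card X = Nat.card ↥(X.map ψ) * Nat.card ↥(X ⊓ ψ.ker) := by
        intro X
        have h1 := card_eq_card_quotient_mul_card_subgroup (ψ.comp X.subtype).ker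
        rw [Nat.card_congr (QuotientGroup.quotientKerEquivRange (ψ.comp X.subtype)).toEquiv,
          ← MonoidHom.comap_ker, MonoidHom.range_comp, Subgroup.range_subtype] at h1
        rw [h1]
        congr 1
        rw [← Subgroup.card_map_of_injective (K := ψ.ker.comap X.subtype) X.subtype_injective,
          Subgroup.map_comap_eq, Subgroup.range_subtype]
      have hmapD : D'.map ψ = Bb.map MulAut.conj := by
        refine le_antisymm (Subgroup.map_le_iff_le_comap.2 inf_le_right) ?_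
        intro z hz
        obtain ⟨a', ha', rfl⟩ := (hCmap ▸ Subgroup.map_mono hBb hz : z ∈ A₁'.map ψ)
        exact ⟨a', ⟨ha', hz⟩, rfl⟩
      have hker : D' ⊓ ψ.ker = A₁' ⊓ ψ.ker := by
        refine le_antisymm (inf_le_inf_right _ inf_le_left) fun z hz => ⟨⟨hz.1, ?_⟩, hz.2⟩
        show ψ z ∈ Bb.map MulAut.conj
        rw [show ψ z = 1 from hz.2]
        exact one_mem _
      have e1 : Nat.card A₁ = Nat.card C * Nat.card ↥(A₁' ⊓ ψ.ker) := by
        rw [← Nat.card_congr (Subgroup.subgroupOfEquivOfLe (inf_le_right : A₁ ≤ _)).toEquiv,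
          ← Subgroup.card_map_of_injective hconj, hCmap]
        exact hsplit A₁'
      have e2 : Nat.card D = Nat.card Bb * Nat.card ↥(A₁' ⊓ ψ.ker) := by
        rw [hD, Subgroup.card_map_of_injective (Subgroup.subtype_injective _), hsplit D', hmapD, hker,
          Subgroup.card_map_of_injective hconj]
      have e3 : Nat.card A ≤ Nat.card A₁ * Nat.card T := by
        conv_lhs => rw [← hTs]
        exact S3Bound.card_sup_le hA inf_le_left hTA
      have e4 := card_sup_of_disjoint hA hDA hTA (le_bot_iff.1 (hTd ▸ inf_le_inf_right _ hDA₁))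
      calc Nat.card A ^ 2 ≤ (Nat.card C * Nat.card ↥(A₁' ⊓ ψ.ker) * Nat.card T) ^ 2 :=
            Nat.pow_le_pow_left (e3.trans (le_of_eq (by rw [e1]))) 2
        _ = Nat.card C ^ 2 * (Nat.card ↥(A₁' ⊓ ψ.ker) * Nat.card T) ^ 2 := by ring
        _ ≤ 2 ^ e * Nat.card Bb ^ 2 * (Nat.card ↥(A₁' ⊓ ψ.ker) * Nat.card T) ^ 2 := Nat.mul_le_mul_right _ hcard
        _ = 2 ^ e * (Nat.card D * Nat.card T) ^ 2 := by rw [e2]; ring
        _ ≤ _ := Nat.mul_le_mul_left _ (Nat.pow_le_pow_left e4 2)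
  intro s hs
  induction s, hs using Set.Finite.induction_on with
  | empty =>
    intro _
    obtain ⟨j, hj⟩ := hxr
    refine ⟨x, mem_iSup_of_mem 1 (mem_iSup_of_mem (one_mem _) ⟨x, x.2, by simp⟩), by simp [one_mem],
      hxa, hxD, fun t ht => absurd ht (Set.notMem_empty t), j, by rw [← hj, pow_orderOf_eq_one]⟩
  | @insert t s _ _ ih =>
    intro hsT
    obtain ⟨htT, hsT⟩ := Set.insert_subset_iff.1 hsT
    obtain ⟨y, hyU, hyx, hya, hyD, hys, j, hj⟩ := ih hsT
    by_cases htc : t ∈ Subgroup.closure s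
    · refine ⟨y, ?_, hyx, hya, hyD, ?_, j, hj⟩
      · exact SetLike.le_def.1 (biSup_mono (f := fun u => K.map (MulAut.conj u).toMonoidHom) fun u hu =>
          Subgroup.closure_mono (Set.subset_insert t s) hu) hyU
      · rintro u (rfl | hu)
        · exact mem_centralizer_singleton_iff.1 (((Subgroup.closure_le _).2
            fun w hw => mem_centralizer_singleton_iff.2 (hys w hw) :
              Subgroup.closure s ≤ centralizer ({y} : Set Γ)) htc)
        · exact hys u hu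
    have hcl : Subgroup.closure s ≤ T := (Subgroup.closure_le T).2 hsT
    set z := t * y * t⁻¹ with hz
    have hzU : z ∈ ⨆ u ∈ Subgroup.closure s, K.map (MulAut.conj (t * u)).toMonoidHom := by
      have h1 : z ∈ (⨆ u ∈ Subgroup.closure s, K.map (MulAut.conj u).toMonoidHom).map (MulAut.conj t).toMonoidHom :=
        ⟨y, hyU, rfl⟩
      simpa only [Subgroup.map_iSup, S3Bound.map_conj_mul] using h1
    have hsupp : ∀ w ∈ T, (∀ u ∈ Subgroup.closure s, w ≠ t * u) →
        ∀ k ∈ K.map (MulAut.conj w).toMonoidHom, Commute k z := by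
      intro w hw hne k hk
      refine (mem_centralizer_singleton_iff.1 ((iSup₂_le fun u hu l hl => ?_ :
        (⨆ u ∈ Subgroup.closure s, K.map (MulAut.conj (t * u)).toMonoidHom) ≤ centralizer ({k} : Set Γ)) hzU) :).symm
      exact mem_centralizer_singleton_iff.2 (hdist w hw _ (T.mul_mem htT (hcl hu)) (hne u hu) k hk l hl).eq.symm
    have hyz : Commute y z := by
      refine (mem_centralizer_singleton_iff.1 ((iSup₂_le fun w hw k hk => ?_ :
        (⨆ u ∈ Subgroup.closure s, K.map (MulAut.conj u).toMonoidHom) ≤ centralizer ({z} : Set Γ)) hyU) :)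
      refine mem_centralizer_singleton_iff.2 (hsupp w (hcl hw) (fun u hu h => htc ?_) k hk).eq
      have : t = w * u⁻¹ := by rw [h, mul_inv_cancel_right]
      rw [this]; exact mul_mem hw (inv_mem hu)
    have hzK : z ∈ centralizer (K : Set Γ) := mem_centralizer_iff.2 fun k hk =>
      (hsupp 1 T.one_mem (fun u hu h => htc (by
        rw [show t = u⁻¹ from eq_inv_of_mul_eq_one_left h.symm]; exact inv_mem hu)) k
        (by rw [S3Bound.map_conj_one]; exact hk)).eq
    have hat : Commute (a : Γ) t := hAc _ (mem_subgroupOf.1 ha).1 _ (hTA htT)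
    refine ⟨y * z, mul_mem ?_ ?_, ?_, ?_, fun d hd => ?_, ?_, j, ?_⟩
    · exact SetLike.le_def.1 (biSup_mono (f := fun u => K.map (MulAut.conj u).toMonoidHom) fun u hu =>
          Subgroup.closure_mono (Set.subset_insert t s) hu) hyU
    · refine (iSup₂_le fun u hu => ?_ : (⨆ u ∈ Subgroup.closure s, K.map (MulAut.conj (t * u)).toMonoidHom) ≤
        ⨆ u ∈ Subgroup.closure (insert t s), K.map (MulAut.conj u).toMonoidHom) hzU
      exact le_biSup (fun w => K.map (MulAut.conj w).toMonoidHom)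
        (mul_mem (Subgroup.subset_closure (Set.mem_insert t s)) (Subgroup.closure_mono (Set.subset_insert t s) hu))
    · rw [hyz.eq, mul_assoc]
      exact mul_mem hzK hyx
    · calc (a : Γ) * (y * z) * (a : Γ)⁻¹ = ((a : Γ) * y * (a : Γ)⁻¹) * (((a : Γ) * t) * y * ((a : Γ) * t)⁻¹) := by
            rw [hz]; group
        _ = y⁻¹ * ((t * (a : Γ)) * y * (t * (a : Γ))⁻¹) := by rw [hya, hat.eq]
        _ = y⁻¹ * (t * ((a : Γ) * y * (a : Γ)⁻¹) * t⁻¹) := by group
        _ = (z * y)⁻¹ := by rw [hya, hz]; group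
        _ = _ := by rw [hyz.eq]
    · have hdt : Commute d t := hAc d (hDA hd) t (hTA htT)
      exact (hyD d hd).mul_right ((hdt.mul_right (hyD d hd)).mul_right hdt.inv_right)
    · rintro u (rfl | hu)
      · have huu : u * u = 1 := hsq _ (hTA htT)
        have hui : u⁻¹ = u := inv_eq_of_mul_eq_one_right huu
        have h1 : u * (y * z) * u⁻¹ = y * z := by
          calc u * (y * z) * u⁻¹ = z * ((u * u) * y * (u * u)⁻¹) := by rw [hz]; group
            _ = z * y := by rw [huu]; group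
            _ = _ := hyz.eq.symm
        exact mul_inv_eq_iff_eq_mul.1 h1
      · have hut : Commute u t := hAc u (hTA (hsT hu)) t (hTA htT)
        exact (hys u hu).mul_right ((hut.mul_right (hys u hu)).mul_right hut.inv_right)
    · rw [hyz.mul_pow, hj, hz, conj_pow, hj]; group

/-- In an `S₃`-free group with trivial `2`-core and components `Sz(q)`, `PSL₂(3^odd)`, every nontrivial
elementary abelian `2`-subgroup has a pair. -/
theorem hasPair {A : Subgroup Γ} (hfree : ¬ Involves (Equiv.Perm (Fin 3)) Γ) (h2 : pCore 2 Γ = ⊥)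
    (hK : ∀ K : Subgroup Γ, IsComponent K → IsSuzukiOrPSL2OddPowerThree (↥K ⧸ center ↥K))
    (hA : IsElementaryAbelian 2 A) (hne : A ≠ ⊥) : HasPair A := by
  haveI : Fact (Nat.Prime 2) := ⟨Nat.prime_two⟩
  haveI := CfsgLib.Cores.fittingSubgroup_normal (G := Γ)
  haveI := CfsgLib.Cores.generalizedFittingSubgroup_normal (G := Γ)
  haveI : Group.IsNilpotent ↥(fittingSubgroup Γ) := CfsgLib.Cores.isNilpotent_fittingSubgroup
  by_cases hF : A ≤ centralizer (fittingSubgroup Γ : Set Γ)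
  swap
  · exact hasPair_odd hfree hA inferInstance
      (S3Bound.odd_card_of_subnormal h2 (inferInstance : (fittingSubgroup Γ).Normal).isSubnormal
        CfsgLib.Cores.isNilpotent_fittingSubgroup)
      (le_top.trans (normalizer_eq_top_iff.2 inferInstance).ge) hF
  obtain ⟨K, hKc, hKn⟩ : ∃ K : Subgroup Γ, IsComponent K ∧ ¬ A ≤ centralizer (K : Set Γ) := by
    by_contra hcon
    push Not at hcon
    apply hne
    set C := centralizer (generalizedFittingSubgroup Γ : Set Γ) with hC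
    have hCF := CfsgLib.Cores.centralizer_generalizedFittingSubgroup_le (G := Γ)
    have hCc : IsMulCommutative ↥C := ⟨⟨fun x y => Subtype.ext
      (mem_centralizer_iff.1 y.2 x (hCF x.2))⟩⟩
    have hCodd := S3Bound.odd_card_of_subnormal h2 (inferInstance : C.Normal).isSubnormal
      (CfsgLib.Suzuki.isNilpotent_of_isMulCommutative _)
    refine (eq_bot_iff_forall _).2 fun b hbA => ?_
    have hb : b ∈ C := by
      have hle : generalizedFittingSubgroup Γ ≤ centralizer ({b} : Set Γ) := by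
        refine sup_le ?_ ?_
        · exact CfsgLib.Cores.layer_le_iff.2 fun K hK x hx =>
            mem_centralizer_singleton_iff.2 (mem_centralizer_iff.1 (hcon K hK hbA) x hx)
        · exact fun x hx => mem_centralizer_singleton_iff.2 (mem_centralizer_iff.1 (hF hbA) x hx)
      exact mem_centralizer_iff.2 fun x hx => mem_centralizer_singleton_iff.1 (hle hx)
    exact CfsgLib.Components.eq_one_of_mul_self_eq_one hCodd hb (by rw [← pow_two]; exact hA.2 b hbA)
  exact hasPair_component hfree h2 hKc (hK K hKc) hA hKn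

end CfsgLib.SFactor
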