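import Cfsg.Agent.Lib.LocalEven.S3Bound.Model
import Cfsg.Agent.Lib.LocalEven.S4Section

/-!
Inverted odd elements centralised by a large subgroup of an elementary abelian `2`-group: the models
`Sz(q)` and `PSL₂(3^odd)`.
-/

set_option autoImplicit false

namespace CfsgLib.SFactor

open Subgroup Cfsg Matrix
open scoped MatrixGroups
open CfsgLib.LocalEven

/-- Some element of `A` inverts an element `x` of odd prime order `r` centralised by a subgroup `B`
of `A` of small codimension compared with the order of `2` modulo `r`. -/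
def HasPair {Γ : Type*} [Group Γ] (A : Subgroup Γ) : Prop :=
  ∃ (B : Subgroup Γ) (a x : Γ) (r e : ℕ), B ≤ A ∧ a ∈ A ∧ r.Prime ∧ r ≠ 2 ∧
    (∀ j, 0 < j → r ∣ 2 ^ j - 1 → 2 * e ≤ j + 1) ∧ orderOf x = r ∧ a * x * a⁻¹ = x⁻¹ ∧
    (∀ b ∈ B, Commute b x) ∧ Nat.card A ^ 2 ≤ 2 ^ e * Nat.card B ^ 2

theorem HasPair.map {Γ Δ : Type*} [Group Γ] [Group Δ] {A : Subgroup Γ} (h : HasPair A) (f : Γ →* Δ)
    (hf : Function.Injective f) : HasPair (A.map f) := by
  obtain ⟨B, a, x, r, e, hB, ha, hr, hr2, hmin, hx, hinv, hc, hcard⟩ := h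
  refine ⟨B.map f, f a, f x, r, e, Subgroup.map_mono hB, ⟨a, ha, rfl⟩, hr, hr2, hmin,
    by rw [orderOf_injective f hf]; exact hx, by rw [← map_inv, ← map_mul, ← map_mul, hinv, map_inv],
    ?_, by rwa [Subgroup.card_map_of_injective hf, Subgroup.card_map_of_injective hf]⟩
  rintro _ ⟨b, hb, rfl⟩
  exact (hc b hb).map f

variable {F : Type} [Field F] [Fintype F] {n : ℕ}

/-- Elementary abelian `2`-subgroups of `PSL₂(q)`, `q ≡ 3 (mod 8)`, have order at most four. -/
theorem card_le_four_psl (hq8 : Fintype.card F % 8 = 3)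
    {C : Subgroup (ProjectiveSpecialLinearGroup (Fin 2) F)} (hC : IsPGroup 2 C) :
    Nat.card C ≤ 4 := by
  classical
  haveI : Fact (Nat.Prime 2) := ⟨Nat.prime_two⟩
  have hodd : Odd (Fintype.card F) := Nat.odd_iff.2 (by omega)
  have h2 : (2 : F) ≠ 0 := CfsgLib.Classical.two_ne_zero_of_odd_card hodd
  obtain ⟨k, hk⟩ := IsPGroup.iff_card.1 hC
  rw [hk]
  refine Nat.pow_le_pow_right (n := 2) (j := 2) (by norm_num) ?_
  by_contra hlt
  obtain ⟨s, hs⟩ : ∃ s, Fintype.card F = 8 * s + 3 := ⟨Fintype.card F / 8, by omega⟩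
  have h1 : 2 ^ 5 ∣ (Fintype.card F - 1) * Nat.card (SL(2, F)) := by
    have hcen : Nat.card (Subgroup.center (SL(2, F))) = 2 := by
      rw [Nat.card_eq_two_iff]
      refine ⟨1, ⟨CfsgLib.Fusion.PSL2.negOne, CfsgLib.Fusion.PSL2.mem_center_iff'.2 (Or.inr rfl)⟩,
        fun h => CfsgLib.Fusion.PSL2.negOne_ne_one h2
        (congrArg Subtype.val h).symm, Set.eq_univ_of_forall fun z => ?_⟩
      rcases CfsgLib.Fusion.PSL2.mem_center_iff'.1 z.2 with h | h
      · exact Or.inl (Subtype.ext h)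
      · exact Or.inr (Subtype.ext h)
    rw [Subgroup.card_eq_card_quotient_mul_card_subgroup (Subgroup.center (SL(2, F))), hcen]
    have h8 : 2 ^ 3 ∣ Nat.card (ProjectiveSpecialLinearGroup (Fin 2) F) :=
      (pow_dvd_pow 2 (by omega : 3 ≤ k)).trans (hk ▸ Subgroup.card_subgroup_dvd_card C)
    exact Nat.mul_dvd_mul (a := 2) (show 2 ∣ Fintype.card F - 1 by omega) (Nat.mul_dvd_mul h8 dvd_rfl)
  rw [CfsgLib.Classical.card_SL_mul rfl 2 (by norm_num), Fin.prod_univ_two] at h1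
  simp only [Fin.val_zero, Fin.val_one, pow_zero, pow_one] at h1
  rw [hs, show (8 * s + 3) ^ 2 - 1 = 8 * ((4 * s + 1) * (2 * s + 1)) from by
      apply Nat.sub_eq_of_eq_add; ring,
    show (8 * s + 3) ^ 2 - (8 * s + 3) = 2 * ((4 * s + 1) * (8 * s + 3)) from by
      apply Nat.sub_eq_of_eq_add; ring,
    show 8 * ((4 * s + 1) * (2 * s + 1)) * (2 * ((4 * s + 1) * (8 * s + 3))) =
      2 ^ 4 * ((4 * s + 1) * (2 * s + 1) * ((4 * s + 1) * (8 * s + 3))) by ring,
    pow_succ 2 4, Nat.mul_dvd_mul_iff_left (by norm_num)] at h1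
  rcases Nat.prime_two.dvd_mul.1 h1 with h | h <;> rcases Nat.prime_two.dvd_mul.1 h with h | h <;> omega

theorem hasPair_psl (hF : Fintype.card F = 3 ^ (2 * n + 1)) (hn : 1 ≤ n)
    (hfree : ¬ Involves (Equiv.Perm (Fin 3)) (ProjectiveSpecialLinearGroup (Fin 2) F))
    {C : Subgroup (ProjectiveSpecialLinearGroup (Fin 2) F)} (hC : IsElementaryAbelian 2 C) (hne : C ≠ ⊥) :
    HasPair C := by
  obtain ⟨k, e, c, x, hcard, hcC, hx, hinv, hcomm⟩ := S3Bound.psl_data hF hn C hC hne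
  choose r hr hr2 hmin hxo using hx
  match k, c, x, hcard, hcC, r, hr, hr2, hmin, hxo, hinv, hcomm with
  | 0, c, x, hcard, _, _, _, _, _, _, _, _ =>
    refine absurd (Subgroup.eq_bot_of_card_le C ?_) hne
    rw [mul_zero, pow_zero] at hcard
    nlinarith [hcard, sq_nonneg (Nat.card C)]
  | 1, c, x, hcard, hcC, r, hr, hr2, hmin, hxo, hinv, _ =>
    refine ⟨⊥, c 0, x 0, r 0, e, bot_le, hcC 0, hr 0, hr2 0, hmin 0, hxo 0, hinv 0,
      fun b hb => by rw [mem_bot.1 hb]; exact Commute.one_left _, ?_⟩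
    rw [Subgroup.card_bot, one_pow, mul_one]
    simpa using hcard
  | k + 2, c, x, hcard, hcC, r, hr, hr2, hmin, hxo, hinv, hcomm =>
    have hc2 : ∀ i, c i * c i = 1 := fun i => by rw [← pow_two]; exact hC.2 _ (hcC i)
    have hc0 : c 0 ≠ 1 := fun h => by
      have h1 := hinv 0
      rw [h, one_mul, inv_one, mul_one] at h1
      have h2 : x 0 ^ 2 = 1 := by rw [pow_two]; exact eq_inv_iff_mul_eq_one.1 h1
      have := Nat.le_of_dvd (by norm_num) (hxo 0 ▸ orderOf_dvd_of_pow_eq_one h2)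
      have := (hr 0).two_le
      have := hr2 0
      omega
    have hx1 : x 1 ≠ 1 := fun h => (hr 1).ne_one (by rw [← hxo 1, h, orderOf_one])
    have h3 := S3Bound.three_of_inverted hfree (r := r 1) (hc2 1) hx1 ⟨1, by rw [pow_one]; exact hxo 1⟩ (hinv 1)
    refine ⟨zpowers (c 0), c 1, x 1, r 1, 2, zpowers_le.2 (hcC 0), hcC 1, hr 1, hr2 1,
      S3Bound.min_two (hr 1) h3, hxo 1, hinv 1, ?_, ?_⟩
    · rintro _ ⟨j, rfl⟩
      exact (hcomm 1 0 (by simp)).zpow_left j
    · have hq8 : Fintype.card F % 8 = 3 := by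
        rw [hF, pow_succ, pow_mul, Nat.mul_mod, Nat.pow_mod]
        norm_num
      have h4 := card_le_four_psl hq8 (PGroup.elemAb_isPGroup hC)
      have hz : Nat.card (zpowers (c 0)) = 2 := by
        rw [Nat.card_zpowers]
        exact orderOf_eq_prime (by rw [pow_two]; exact hc2 0) hc0
      rw [hz]
      exact (Nat.pow_le_pow_left h4 2).trans (by norm_num)

theorem hasPair_sz {F : Type*} [Field F] [Fintype F] {m : ℕ} (hF : Fintype.card F = 2 ^ (2 * m + 1)) (hm : 1 ≤ m)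
    {C : Subgroup (Lie.Sz F (2 ^ (m + 1)))} (hC : IsElementaryAbelian 2 C) (hne : C ≠ ⊥) : HasPair C := by
  haveI : CharP F 2 := CfsgLib.Suzuki.charTwo hF
  haveI : Finite (Lie.Sz F (2 ^ (m + 1))) := Nat.finite_of_card_ne_zero (by
    rw [CfsgLib.Suzuki.card_group hF hm]
    refine Nat.mul_ne_zero (Nat.mul_ne_zero (by positivity) ?_) (by positivity)
    have : 2 ≤ 2 ^ (2 * m + 1) := Nat.le_self_pow (by omega) 2
    omega)
  obtain ⟨r, hr, hr2, hmin, hQ⟩ := FaithfulBound.sz_pair hF hm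
  obtain ⟨c, hc, hc1⟩ : ∃ c ∈ C, c ≠ 1 := by
    by_contra h; push Not at h; exact hne ((eq_bot_iff_forall _).2 h)
  have hcc : c * c = 1 := by rw [← pow_two]; exact hC.2 c hc
  obtain ⟨g, hg⟩ := hQ c hcc hc1
  set z := c * (g * c * g⁻¹) with hz
  refine ⟨⊥, c, z ^ (orderOf z / r), r, 2 * (2 * m + 1), bot_le, hc, hr, hr2,
    fun j hj hd => by have := hmin j hj hd; omega, orderOf_pow_orderOf_div (orderOf_pos z).ne' hg, ?_,
    fun b hb => by rw [mem_bot.1 hb]; exact Commute.one_left _, ?_⟩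
  · have hci : c⁻¹ = c := inv_eq_of_mul_eq_one_right hcc
    have : c * z * c⁻¹ = z⁻¹ := by
      calc c * z * c⁻¹ = (c * c) * (g * c * g⁻¹) * c⁻¹ := by rw [hz]; group
        _ = (g * c⁻¹ * g⁻¹) * c⁻¹ := by rw [hcc, one_mul, hci]
        _ = z⁻¹ := by rw [hz]; group
    rw [← conj_pow, this, inv_pow]
  · rw [Subgroup.card_bot, one_pow, mul_one, mul_comm 2, pow_mul]
    exact Nat.pow_le_pow_left (S3Bound.sz_elemAb_card hF hm hC) 2

theorem hasPair_simple {K : Type*} [Group K] [Finite K] [IsSimpleGroup K]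
    (hna : ¬ IsMulCommutative K) (h : IsSuzukiOrPSL2OddPowerThree K)
    (hfree : ¬ Involves (Equiv.Perm (Fin 3)) K) {C : Subgroup K} (hC : IsElementaryAbelian 2 C)
    (hne : C ≠ ⊥) : HasPair C := by
  rcases h with ⟨F, _, _, m, hm, hF, ⟨e⟩⟩ | ⟨F, _, _, n, hF, ⟨e⟩⟩
  · have hne' : C.map e.toMonoidHom ≠ ⊥ :=
      fun h0 => hne ((Subgroup.map_eq_bot_iff_of_injective _ e.injective).1 h0)
    have := (hasPair_sz hF hm (PGroup.elemAb_map hC e.toMonoidHom) hne').map e.symm.toMonoidHom e.symm.injective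
    rwa [Subgroup.map_map, show e.symm.toMonoidHom.comp e.toMonoidHom = MonoidHom.id K from
      MonoidHom.ext fun x => e.symm_apply_apply x, Subgroup.map_id] at this
  · rcases Nat.eq_zero_or_pos n with rfl | hn
    · exfalso
      have hlt : Nat.card K < 60 := by
        rw [Nat.card_congr e.toEquiv]
        refine lt_of_le_of_lt (Nat.le_of_dvd Nat.card_pos (Subgroup.card_quotient_dvd_card _)) ?_
        have := CfsgLib.Classical.card_SL_mul (F := F) (q := 3) (by simpa using hF) 2 (by norm_num)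
        simp [Fin.prod_univ_two] at this
        omega
      haveI := CfsgLib.InvolChar.A8Normalizer.isSolvable_of_card_lt_sixty hlt
      exact hna ⟨⟨fun a b => (IsSimpleGroup.comm_iff_isSolvable.2 inferInstance) a b⟩⟩
    · have hne' : C.map e.toMonoidHom ≠ ⊥ :=
        fun h0 => hne ((Subgroup.map_eq_bot_iff_of_injective _ e.injective).1 h0)
      have := (hasPair_psl hF hn (fun hi => hfree (Offender.involves_of_injective e.symm.toMonoidHom e.symm.injective hi))
        (PGroup.elemAb_map hC e.toMonoidHom) hne').map e.symm.toMonoidHom e.symm.injective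
      rwa [Subgroup.map_map, show e.symm.toMonoidHom.comp e.toMonoidHom = MonoidHom.id K from
        MonoidHom.ext fun x => e.symm_apply_apply x, Subgroup.map_id] at this

end CfsgLib.SFactor
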